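import Mathlib
import Cfsg.Prelude.Def_FusionComponents
import Cfsg.Agent.Lead.FusionSeries
import Cfsg.Agent.Lead.FusionNormal
import Cfsg.Agent.Lead.FusionNormalCrit
import Cfsg.Agent.Lead.FusionRestrict
import Cfsg.Agent.Lead.FusionStrongInvD
import Cfsg.Agent.Lead.FusionAut
import Cfsg.Agent.Lead.FusionSubnormal

set_option autoImplicit false

/-!
# GFS, piece N1: `O_p(E)` is normal in `F` for `E` normal in `F`

`E` a normal (even only weakly normal) subsystem of the saturated system `F`, over `T`.  Then `E.core` is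
carried to itself by `Aut_F(T)` (transport of normal subgroups of `E` along the invariance of `E`), so the
upper central series of `E.core`, which is strongly closed in `E`, is strongly closed in `F` by the Frattini
clause; the chain criterion (`Fusion.isNormal_iff_chain`) then shows that `E.core` is normal in `F`.
-/

namespace Cfsg.Agent.GFS

open Cfsg Cfsg.FusionSystem Cfsg.Agent.Lead Cfsg.Agent.Lead.StrongInv
open scoped commutatorElement

variable {Ω : Type*} [Group Ω] {S T : Subgroup Ω}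

/-- The image of `Q` (its part in `T`) under an automorphism `α` of `T`, as a subgroup of `Ω`. -/
def gfsImg (α : MulAut T) (Q : Subgroup Ω) : Subgroup Ω :=
  (Q.subgroupOf T).map (T.subtype.comp α.toMonoidHom)

theorem mem_gfsImg {α : MulAut T} {Q : Subgroup Ω} {z : Ω} :
    z ∈ gfsImg α Q ↔ ∃ t : T, (t : Ω) ∈ Q ∧ ((α t : T) : Ω) = z := by
  unfold gfsImg
  constructor
  · rintro ⟨t, ht, rfl⟩
    exact ⟨t, Subgroup.mem_subgroupOf.mp ht, rfl⟩
  · rintro ⟨t, ht, rfl⟩
    exact ⟨t, Subgroup.mem_subgroupOf.mpr ht, rfl⟩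

theorem gfsImg_le (α : MulAut T) (Q : Subgroup Ω) : gfsImg α Q ≤ T := by
  intro z hz
  obtain ⟨t, -, rfl⟩ := mem_gfsImg.mp hz
  exact (α t).2

theorem gfsImg_mono (α : MulAut T) {Q Q' : Subgroup Ω} (h : Q ≤ Q') : gfsImg α Q ≤ gfsImg α Q' := by
  intro z hz
  obtain ⟨t, ht, rfl⟩ := mem_gfsImg.mp hz
  exact mem_gfsImg.mpr ⟨t, h ht, rfl⟩

theorem gfsImg_bot (α : MulAut T) : gfsImg α ⊥ = ⊥ := by
  rw [eq_bot_iff]
  intro z hz
  obtain ⟨t, ht, rfl⟩ := mem_gfsImg.mp hz
  have : t = 1 := Subtype.ext (Subgroup.mem_bot.mp ht)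
  rw [this, map_one]
  exact Subgroup.one_mem _

theorem gfsImg_inv_img (α : MulAut T) {Q : Subgroup Ω} (hQ : Q ≤ T) : gfsImg α⁻¹ (gfsImg α Q) = Q := by
  apply le_antisymm
  · intro z hz
    obtain ⟨t, ht, rfl⟩ := mem_gfsImg.mp hz
    obtain ⟨u, hu, hut⟩ := mem_gfsImg.mp ht
    have : t = α u := Subtype.ext hut.symm
    rw [this, MulAut.inv_apply_self]
    exact hu
  · intro z hz
    refine mem_gfsImg.mpr ⟨α ⟨z, hQ hz⟩, mem_gfsImg.mpr ⟨⟨z, hQ hz⟩, hz, rfl⟩, ?_⟩
    rw [MulAut.inv_apply_self]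

theorem gfsImg_commutator_le (α : MulAut T) {A B C : Subgroup Ω} (h : ⁅A, B⁆ ≤ C) :
    ⁅gfsImg α A, gfsImg α B⁆ ≤ gfsImg α C := by
  rw [Subgroup.commutator_le]
  intro a ha b hb
  obtain ⟨s, hs, rfl⟩ := mem_gfsImg.mp ha
  obtain ⟨t, ht, rfl⟩ := mem_gfsImg.mp hb
  refine mem_gfsImg.mpr ⟨⁅s, t⁆, ?_, ?_⟩
  · exact h (Subgroup.commutator_mem_commutator hs ht)
  · rw [map_commutatorElement]
    rfl

/-- The map of `F` on `T` given by an element of `Aut_F(T)`. -/
theorem gfs_aut_hom (F : FusionSystem S) (hTS : T ≤ S) {α : MulAut T} (hα : α ∈ F.autGroup T) :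
    T.subtype.comp α.toMonoidHom ∈ F.Hom T :=
  (Fusion.mem_autGroup_iff F hTS α).mp hα

/-- Transport of strongly closed subgroups of `E` by `Aut_F(T)`. -/
theorem gfs_stronglyClosed_transport (F : FusionSystem S) (E : FusionSystem T) (hSI : SI F E)
    (hTS : T ≤ S) {α : MulAut T} (hα : α ∈ F.autGroup T) {Q : Subgroup Ω}
    (hQ : E.StronglyClosed Q) : E.StronglyClosed (gfsImg α Q) := by
  refine ⟨gfsImg_le α Q, fun P hP φ hφ x => ?_⟩
  have hPT : P ≤ T := hP.trans (gfsImg_le α Q)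
  have hα' : α⁻¹ ∈ F.autGroup T := Subgroup.inv_mem _ hα
  have hγ := gfs_aut_hom F hTS hα'
  -- `R' := α⁻¹(P)`
  obtain ⟨χ, hχ, hχv⟩ := conj_of_SI F E hSI hPT hφ hγ (gfsImg α⁻¹ P) (by
    intro z
    rw [mem_gfsImg]
    constructor
    · rintro ⟨t, ht, rfl⟩
      exact ⟨t, ht, rfl⟩
    · rintro ⟨r, hr, rfl⟩
      exact ⟨⟨r, hPT hr⟩, hr, rfl⟩)
  have hR'Q : gfsImg α⁻¹ P ≤ Q := by
    have := gfsImg_mono α⁻¹ hP
    rwa [gfsImg_inv_img α hQ.1] at this
  have hx' : (T.subtype.comp (α⁻¹).toMonoidHom) ⟨x, hPT x.2⟩ ∈ gfsImg α⁻¹ P :=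
    mem_gfsImg.mpr ⟨⟨x, hPT x.2⟩, x.2, rfl⟩
  have h1 := hχv x x.2 hx'
  have h2 := hQ.2 (gfsImg α⁻¹ P) hR'Q χ hχ ⟨_, hx'⟩
  rw [h1] at h2
  -- `α⁻¹ (φ x) ∈ Q`, so `φ x ∈ α(Q)`
  have hφT : φ x ∈ T := (E.le_of_mem hφ).2 x
  refine mem_gfsImg.mpr ⟨α⁻¹ ⟨φ x, hφT⟩, ?_, ?_⟩
  · exact h2
  · rw [MulAut.apply_inv_self]

/-- Transport of normal subgroups of `E` by `Aut_F(T)` (chain criterion). -/
theorem gfs_isNormal_transport [Finite S] (p : ℕ) [Fact p.Prime] (hS : IsPGroup p S)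
    (F : FusionSystem S) (E : FusionSystem T) (hEs : E.IsSaturated p) (hSI : SI F E) (hTS : T ≤ S)
    {α : MulAut T} (hα : α ∈ F.autGroup T) {Q : Subgroup Ω} (hQ : E.IsNormal Q) :
    E.IsNormal (gfsImg α Q) := by
  have : Finite T := Fusion.finite_of_le hTS
  have hT : IsPGroup p T := hS.to_le hTS
  obtain ⟨n, Qs, h0, hlast, hmono, hstep⟩ := (Fusion.isNormal_iff_chain p hT E hEs Q).mp hQ
  rw [Fusion.isNormal_iff_chain p hT E hEs (gfsImg α Q)]
  refine ⟨n, fun i => gfsImg α (Qs i), ?_, ?_, ?_, ?_⟩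
  · show gfsImg α (Qs 0) = ⊥
    rw [h0, gfsImg_bot]
  · show gfsImg α (Qs (Fin.last n)) = gfsImg α Q
    rw [hlast]
  · intro i j hij
    exact gfsImg_mono α (hmono hij)
  · intro i
    obtain ⟨hsc, hcomm⟩ := hstep i
    exact ⟨gfs_stronglyClosed_transport F E hSI hTS hα hsc, gfsImg_commutator_le α hcomm⟩

/-- `Aut_F(T)` carries `O_p(E)` into itself. -/
theorem gfs_core_img_le [Finite S] (p : ℕ) [Fact p.Prime] (hS : IsPGroup p S)
    (F : FusionSystem S) (E : FusionSystem T) (hEs : E.IsSaturated p) (hSI : SI F E) (hTS : T ≤ S)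
    {α : MulAut T} (hα : α ∈ F.autGroup T) : gfsImg α E.core ≤ E.core := by
  have : Finite T := Fusion.finite_of_le hTS
  exact le_sSup (gfs_isNormal_transport p hS F E hEs hSI hTS hα (Fusion.core_isNormal E))

/-- `Aut_F(T)` carries every characteristic subgroup of `O_p(E)` into itself. -/
theorem gfs_char_img_le [Finite S] (p : ℕ) [Fact p.Prime] (hS : IsPGroup p S)
    (F : FusionSystem S) (E : FusionSystem T) (hEs : E.IsSaturated p) (hSI : SI F E) (hTS : T ≤ S)
    {α : MulAut T} (hα : α ∈ F.autGroup T) (H : Subgroup E.core) [hH : H.Characteristic] :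
    gfsImg α (H.map E.core.subtype) ≤ H.map E.core.subtype := by
  have hfinT : Finite T := Fusion.finite_of_le hTS
  have hRT : E.core ≤ T := (Fusion.core_isNormal E).1
  have hfinR : Finite E.core := Fusion.finite_of_le (hRT.trans hTS)
  have hR : ∀ x : T, (x : Ω) ∈ E.core → ((α x : T) : Ω) ∈ E.core := fun x hx =>
    gfs_core_img_le p hS F E hEs hSI hTS hα (mem_gfsImg.mpr ⟨x, hx, rfl⟩)
  obtain ⟨γ, -, hγv⟩ := Fusion.exists_restrict_aut F hTS hRT α hα hR
  intro z hz
  obtain ⟨t, ht, rfl⟩ := mem_gfsImg.mp hz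
  obtain ⟨h, hh, hht⟩ := ht
  have hmap : H.map γ.toMonoidHom = H := Subgroup.characteristic_iff_map_eq.mp hH γ
  have hγh : γ h ∈ H := by
    rw [← hmap]
    exact ⟨h, hh, rfl⟩
  refine ⟨γ h, hγh, ?_⟩
  show ((γ h : E.core) : Ω) = ((α t : T) : Ω)
  rw [hγv h]
  have : (⟨(h : Ω), hRT h.2⟩ : T) = t := Subtype.ext hht
  rw [this]

/-- The characteristic subgroups of `O_p(E)` are strongly closed in `F`. -/
theorem gfs_char_stronglyClosed [Finite S] (p : ℕ) [Fact p.Prime] (hS : IsPGroup p S)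
    (F : FusionSystem S) (E : FusionSystem T) (hEs : E.IsSaturated p) (hinv : E.IsInvariantIn F)
    (H : Subgroup E.core) [hH : H.Characteristic] :
    F.StronglyClosed (H.map E.core.subtype) := by
  have hTS : T ≤ S := hinv.2.1.1
  have hfinT : Finite T := Fusion.finite_of_le hTS
  have hSI : SI F E := SI_of_invariant F E hinv
  have hRn : E.IsNormal E.core := Fusion.core_isNormal E
  have hRT : E.core ≤ T := hRn.1
  have hscE : E.StronglyClosed (H.map E.core.subtype) :=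
    Fusion.stronglyClosed_of_isNormal E (Fusion.isNormal_map_of_characteristic E hRn H)
  refine ⟨hscE.1.trans hTS, fun P hP φ hφ x => ?_⟩
  have hPT : P ≤ T := hP.trans hscE.1
  obtain ⟨α, hα, φ₀, hφ₀, hv⟩ := hinv.2.2.2 P hPT φ hφ
  have hφ₀T : φ₀ x ∈ T := (E.le_of_mem hφ₀).2 x
  rw [hv x hφ₀T]
  apply gfs_char_img_le p hS F E hEs hSI hTS hα H
  exact mem_gfsImg.mpr ⟨⟨φ₀ x, hφ₀T⟩, hscE.2 P hP φ₀ hφ₀ x, rfl⟩

/-- **N1**: for `E` weakly normal in `F`, the largest normal subgroup `O_p(E)` of `E` is normal in `F`. -/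
theorem gfs_core_isNormal_of_weaklyNormal [Finite S] (p : ℕ) [Fact p.Prime] (hS : IsPGroup p S)
    (F : FusionSystem S) (E : FusionSystem T) (hE : E.IsWeaklyNormalIn F p) : F.IsNormal E.core := by
  obtain ⟨hEs, hF, hinv⟩ := hE
  have hTS : T ≤ S := hinv.2.1.1
  have hfinT : Finite T := Fusion.finite_of_le hTS
  have hRn : E.IsNormal E.core := Fusion.core_isNormal E
  have hRS : E.core ≤ S := hRn.1.trans hTS
  have hfinR : Finite E.core := Fusion.finite_of_le hRS
  have hnil : Group.IsNilpotent E.core := (hS.to_le hRS).isNilpotent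
  rw [Fusion.isNormal_iff_chain p hS F hF E.core]
  refine ⟨Group.nilpotencyClass E.core,
    fun i => (Subgroup.upperCentralSeries E.core i).map E.core.subtype, ?_, ?_, ?_, ?_⟩
  · show (Subgroup.upperCentralSeries E.core 0).map E.core.subtype = ⊥
    rw [Subgroup.upperCentralSeries_zero, Subgroup.map_bot]
  · show (Subgroup.upperCentralSeries E.core (Group.nilpotencyClass E.core)).map E.core.subtype = E.core
    rw [Subgroup.upperCentralSeries_nilpotencyClass, ← MonoidHom.range_eq_map, Subgroup.range_subtype]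
  · intro i j hij
    exact Subgroup.map_mono (Subgroup.upperCentralSeries_mono E.core hij)
  · intro i
    constructor
    · exact gfs_char_stronglyClosed p hS F E hEs hinv (Subgroup.upperCentralSeries E.core (i.succ : ℕ))
    · rw [Subgroup.commutator_le]
      rintro g hg _ ⟨z, hz, rfl⟩
      have hz' : z ∈ Subgroup.upperCentralSeries E.core ((i : ℕ) + 1) := by
        have : ((i.succ : Fin (Group.nilpotencyClass E.core + 1)) : ℕ) = (i : ℕ) + 1 := Fin.val_succ i
        rw [← this]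
        exact hz
      have h1 := (Subgroup.mem_upperCentralSeries_succ_iff.mp hz') ⟨g, hg⟩
      refine ⟨(⁅z, ⟨g, hg⟩⁆)⁻¹, Subgroup.inv_mem _ h1, ?_⟩
      rw [commutatorElement_inv]
      rfl

/-- **N1**: `O_p(E)` is normal in `F` for `E` normal in `F`. -/
theorem gfs_core_isNormal [Finite S] (p : ℕ) [Fact p.Prime] (hS : IsPGroup p S)
    (F : FusionSystem S) (hF : F.IsSaturated p) (E : FusionSystem T) (hE : E.IsNormalIn F p) :
    F.IsNormal E.core :=
  gfs_core_isNormal_of_weaklyNormal p hS F E hE.1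

/-- `O_p(E) ≤ O_p(F)` for `E` normal in `F`. -/
theorem gfs_core_le_core [Finite S] (p : ℕ) [Fact p.Prime] (hS : IsPGroup p S)
    (F : FusionSystem S) (hF : F.IsSaturated p) (E : FusionSystem T) (hE : E.IsNormalIn F p) :
    E.core ≤ F.core :=
  le_sSup (gfs_core_isNormal p hS F hF E hE)

/-- `O_p(E) ≤ O_p(F)` for `E` subnormal in the saturated system `F`. -/
theorem gfs_core_le_of_isSubnormalIn {T S : Subgroup Ω} {E : FusionSystem T} {F : FusionSystem S} {p : ℕ}
    (hE : E.IsSubnormalIn F p) :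
    ∀ [Fact p.Prime] [Finite S], IsPGroup p S → F.IsSaturated p → E.core ≤ F.core := by
  induction hE with
  | refl F p =>
    intro _ _ _ _
    exact le_rfl
  | step hED hDF ih =>
    intro _ _ hS hF
    have hU := hDF.1.2.2.2.1
    have := Fusion.finite_of_le hU.1
    exact (ih (hS.to_le hU.1) hDF.1.1).trans (gfs_core_le_core _ hS _ hF _ hDF)

end Cfsg.Agent.GFS
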