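import Mathlib
import Cfsg.Prelude.Def_FusionComponents
import Cfsg.Agent.Lead.Fusion
import Cfsg.Agent.Lead.FusionInvariant
import Cfsg.Agent.Lead.FusionNormal
import Cfsg.Agent.Lead.FusionNormalCrit
import Cfsg.Agent.Lead.FusionWeak
import Cfsg.Agent.S5097
import Cfsg.Agent.COP.CentNormal
import Cfsg.Agent.GFS.CoreNormal

/-!
# S5146, top chain, part C: the centralizer system of `O_p(F)`

`D := C_F(Q)`, `Q := O_p(F)`: `Z(Q)` is central in `D`, `O_p(D) ≤ Z(Q)`, so `O_p(D) = Z(D)`; and if `F` is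
not constrained the group `C_S(Q)` of `D` is not contained in `Z(D)`.
-/

set_option autoImplicit false

namespace Cfsg.Agent.GFS

open Cfsg Cfsg.FusionSystem Cfsg.Agent.Lead

variable {Ω : Type*} [Group Ω] {S : Subgroup Ω}

/-- A central subgroup is normal in the system. -/
theorem gfs_top_isNormal_of_isCentral (F : FusionSystem S) {Q : Subgroup Ω} (hQ : F.IsCentral Q) :
    F.IsNormal Q := by
  refine ⟨hQ.1, fun P φ hφ => ?_⟩
  obtain ⟨ψ, hψ, hψP, hψQ⟩ := hQ.2 P φ hφ
  refine ⟨ψ, hψ, hψP, ?_⟩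
  ext z
  constructor
  · rintro ⟨y, hy, rfl⟩
    rw [SetLike.mem_coe, Subgroup.mem_subgroupOf] at hy
    have h1 := hψQ ⟨y.1, hy⟩
    have h2 : Subgroup.inclusion (le_sup_right : Q ≤ P ⊔ Q) ⟨y.1, hy⟩ = y := Subtype.ext rfl
    rw [h2] at h1
    rw [h1]
    exact hy
  · intro hz
    refine ⟨Subgroup.inclusion (le_sup_right : Q ≤ P ⊔ Q) ⟨z, hz⟩, ?_, hψQ ⟨z, hz⟩⟩
    rw [SetLike.mem_coe, Subgroup.mem_subgroupOf]
    exact hz

/-- `Z(F) ≤ O_p(F)`. -/
theorem gfs_top_center_le_core [Finite S] (F : FusionSystem S) : F.center ≤ F.core :=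
  le_sSup (gfs_top_isNormal_of_isCentral F (Fusion.center_isCentral F))

/-- `Z(Q)` is central in `C_F(Q)`. -/
theorem gfs_top_cent_isCentral (F : FusionSystem S) {Q : Subgroup Ω} (hQ : Q ≤ S) :
    (Cfsg.Agent.S5097.centSys F Q hQ).IsCentral (Q ⊓ centralizerIn S Q) := by
  refine ⟨inf_le_right, ?_⟩
  rintro P φ ⟨hφF, hPC, hφC, ψ, hψ, hψP, hψQ⟩
  set Z := Q ⊓ centralizerIn S Q with hZ
  have hle : P ⊔ Z ≤ P ⊔ Q := sup_le_sup_left inf_le_left P
  have hψ' := Fusion.restrict_mem F hψ hle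
  refine ⟨ψ.comp (Subgroup.inclusion hle), ⟨hψ', sup_le hPC inf_le_right, ?_, ?_⟩, ?_, ?_⟩
  · -- values in `C_S(Q)`
    intro x
    have hx : x ∈ ((centralizerIn S Q).comap (ψ.comp (Subgroup.inclusion hle))) := by
      have hsup : (⊤ : Subgroup ↥(P ⊔ Z)) ≤
          (centralizerIn S Q).comap (ψ.comp (Subgroup.inclusion hle)) := by
        have h1 : (P ⊔ Z).subgroupOf (P ⊔ Z) = ⊤ := Subgroup.subgroupOf_self _
        rw [← h1, Subgroup.subgroupOf_sup le_sup_left le_sup_right, sup_le_iff]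
        constructor
        · intro y hy
          rw [Subgroup.mem_subgroupOf] at hy
          rw [Subgroup.mem_comap]
          have h2 := hψP ⟨y.1, hy⟩
          have h3 : (Subgroup.inclusion hle y) =
              Subgroup.inclusion (le_sup_left : P ≤ P ⊔ Q) ⟨y.1, hy⟩ := Subtype.ext rfl
          show ψ (Subgroup.inclusion hle y) ∈ centralizerIn S Q
          rw [h3, h2]
          exact hφC _
        · intro y hy
          rw [Subgroup.mem_subgroupOf] at hy
          rw [Subgroup.mem_comap]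
          have h2 := hψQ ⟨y.1, hy.1⟩
          have h3 : (Subgroup.inclusion hle y) =
              Subgroup.inclusion (le_sup_right : Q ≤ P ⊔ Q) ⟨y.1, hy.1⟩ := Subtype.ext rfl
          show ψ (Subgroup.inclusion hle y) ∈ centralizerIn S Q
          rw [h3, h2]
          exact hy.2
      exact hsup (Subgroup.mem_top x)
    exact hx
  · -- the extension to `(P ⊔ Z) ⊔ Q = P ⊔ Q`
    have heq : P ⊔ Q = (P ⊔ Z) ⊔ Q := by
      rw [sup_assoc, sup_eq_right.mpr (inf_le_left : Z ≤ Q)]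
    obtain ⟨χ, hχ, hχv⟩ := Fusion.exists_hom_of_eq F heq hψ
    refine ⟨χ, hχ, fun x => ?_, fun q => ?_⟩
    · exact hχv x.1 (hle x.2) _
    · exact (hχv q.1 (le_sup_right (a := P) q.2) _).trans (hψQ q)
  · intro x
    exact hψP x
  · intro z
    exact hψQ ⟨z.1, z.2.1⟩

/-- For `D = C_F(O_p(F))`: `O_p(D) ≤ Z(D)`. -/
theorem gfs_top_cent_core_le_center [Finite S] (p : ℕ) [Fact p.Prime] (hS : IsPGroup p S)
    (F : FusionSystem S) (hF : F.IsSaturated p) :
    (Cfsg.Agent.S5097.centSys F F.core (Fusion.core_isNormal F).1).core ≤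
      (Cfsg.Agent.S5097.centSys F F.core (Fusion.core_isNormal F).1).center := by
  have hQ := Fusion.core_isNormal F
  have hDn : (Cfsg.Agent.S5097.centSys F F.core hQ.1).IsNormalIn F p :=
    Cfsg.Agent.COP.cop_centralizer_isNormalIn p hS F hF hQ _ (fun _ => rfl)
  have h1 := gfs_core_le_core p hS F hF _ hDn
  have hfin : Finite ↥(centralizerIn S F.core) := Fusion.finite_of_le inf_le_left
  have h2 : (Cfsg.Agent.S5097.centSys F F.core hQ.1).core ≤ centralizerIn S F.core :=
    (Fusion.core_isNormal (Cfsg.Agent.S5097.centSys F F.core hQ.1)).1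
  exact (le_inf h1 h2).trans (le_sSup (gfs_top_cent_isCentral F hQ.1))

/-- If `F` is not constrained, `C_S(O_p(F))` is not contained in the centre of `C_F(O_p(F))`. -/
theorem gfs_top_cent_not_le_center [Finite S] (p : ℕ) [Fact p.Prime] (hS : IsPGroup p S)
    (F : FusionSystem S) (hF : F.IsSaturated p) (hnc : ¬ F.IsConstrained p) :
    ¬ centralizerIn S F.core ≤
      (Cfsg.Agent.S5097.centSys F F.core (Fusion.core_isNormal F).1).center := by
  intro hle
  apply hnc
  have hQ := Fusion.core_isNormal F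
  have hDn : (Cfsg.Agent.S5097.centSys F F.core hQ.1).IsNormalIn F p :=
    Cfsg.Agent.COP.cop_centralizer_isNormalIn p hS F hF hQ _ (fun _ => rfl)
  have hfin : Finite ↥(centralizerIn S F.core) := Fusion.finite_of_le inf_le_left
  have h1 : centralizerIn S F.core ≤ F.core :=
    hle.trans ((gfs_top_center_le_core _).trans (gfs_core_le_core p hS F hF _ hDn))
  refine ⟨hF, F.core, hQ, hQ.1, fun R hR => ?_⟩
  have hsc := Fusion.stronglyClosed_of_isNormal F hQ
  obtain ⟨φ, hφ, rfl⟩ := hR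
  rw [(Fusion.weaklyClosed_of_stronglyClosed F hsc).2 φ hφ]
  exact h1

end Cfsg.Agent.GFS
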