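import Mathlib
import Cfsg.Prelude.Def_FusionComponents
import Cfsg.Agent.Lead.Fusion
import Cfsg.Agent.Lead.FusionSubnormal
import Cfsg.Agent.Lead.FusionStrongInvD
import Cfsg.Agent.Lead.FusionInvariant
import Cfsg.Agent.GFS.CoreNormal
import Cfsg.Agent.Helper2.PPrimeResC
import Cfsg.Agent.PPN.Local
import Cfsg.Agent.S5141

/-!
# S5146, top chain, part A: generalities

* a system normal in a subnormal system is subnormal; subnormal systems are saturated subsystems;
* a saturated system is weakly normal in itself;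
* the `p'`-residual `R` of `M` is normal in `M`, and every system normal in `R` over the same group
  has the same maps as `R`.
-/

set_option autoImplicit false

namespace Cfsg.Agent.GFS

open Cfsg Cfsg.FusionSystem Cfsg.Agent.Lead Cfsg.Agent.Lead.StrongInv

variable {Ω : Type*} [Group Ω]

/-- A system normal in a subnormal system is subnormal. -/
theorem gfs_top_subnormal_of_normal {T R S : Subgroup Ω} {E : FusionSystem T} {M : FusionSystem R}
    {D : FusionSystem S} {p : ℕ} (hM : M.IsSubnormalIn D p) (hE : E.IsNormalIn M p) :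
    E.IsSubnormalIn D p := by
  induction hM with
  | refl F p => exact IsSubnormalIn.step (IsSubnormalIn.refl E p) hE
  | step _ hDF ih => exact IsSubnormalIn.step (ih hE) hDF

/-- Subnormal systems of a saturated system are saturated. -/
theorem gfs_top_saturated_of_subnormal {T S : Subgroup Ω} {M : FusionSystem T} {D : FusionSystem S}
    {p : ℕ} (hM : M.IsSubnormalIn D p) (hD : D.IsSaturated p) : M.IsSaturated p := by
  induction hM with
  | refl F p => exact hD
  | step _ hDF ih => exact ih hDF.1.1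

/-- Subnormal systems are subsystems. -/
theorem gfs_top_subsystem_of_subnormal {T S : Subgroup Ω} {M : FusionSystem T} {D : FusionSystem S}
    {p : ℕ} (hM : M.IsSubnormalIn D p) : M.IsSubsystemOf D := by
  induction hM with
  | refl F p => exact fun P => subset_rfl
  | step _ hDF ih => exact fun P φ hφ => hDF.1.2.2.1 P (ih P hφ)

variable {S : Subgroup Ω}

/-- Strong invariance of a system in itself. -/
theorem gfs_top_SI_self (F : FusionSystem S) : SI F F := by
  intro P Q hPQ hQS φ hφ hφQ ψ hψ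
  have hψP := Fusion.restrict_mem F hψ hPQ
  set ψP : P →* Ω := ψ.comp (Subgroup.inclusion hPQ) with hψPdef
  obtain ⟨ψ', hψ', hψ'inv⟩ := F.inv_mem hψP
  have hmr : ∀ x : P, ψP x ∈ ψP.range := fun x => ⟨x, rfl⟩
  have hψ'P : ∀ y : ψP.range, ψ' y ∈ P := by
    rintro ⟨_, x, rfl⟩
    rw [hψ'inv x]
    exact x.2
  have hc1 := F.comp_mem hψ' hφ hψ'P
  have hc1Q : ∀ y : ψP.range, (φ.comp (ψ'.codRestrict P hψ'P)) y ∈ Q := fun y => hφQ _
  have hθ := F.comp_mem hc1 hψ hc1Q
  set θ : ψP.range →* Ω :=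
    ψ.comp ((φ.comp (ψ'.codRestrict P hψ'P)).codRestrict Q hc1Q) with hθdef
  have hθv : ∀ x : P, θ ⟨ψP x, hmr x⟩ = ψ ⟨φ x, hφQ x⟩ := by
    intro x
    show ψ ⟨φ ⟨ψ' ⟨ψP x, hmr x⟩, _⟩, _⟩ = ψ ⟨φ x, hφQ x⟩
    apply app_congr ψ
    exact congrArg φ (Subtype.ext (hψ'inv x))
  have heq : ψP.range = (P.subgroupOf Q).map ψ := by
    ext z
    constructor
    · rintro ⟨x, rfl⟩
      exact ⟨Subgroup.inclusion hPQ x, by
        rw [SetLike.mem_coe, Subgroup.mem_subgroupOf]; exact x.2, rfl⟩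
    · rintro ⟨q, hq, rfl⟩
      rw [SetLike.mem_coe, Subgroup.mem_subgroupOf] at hq
      exact ⟨⟨q.1, hq⟩, rfl⟩
  obtain ⟨χ', hχ', hχ'v⟩ := Fusion.exists_hom_of_eq F heq hθ
  refine ⟨χ', hχ', fun x hx => ?_⟩
  exact (hχ'v _ (hmr x) hx).trans (hθv x)

/-- A saturated system is invariant in itself. -/
theorem gfs_top_invariant_self [Finite S] (p : ℕ) [Fact p.Prime] (hS : IsPGroup p S)
    (F : FusionSystem S) (hF : F.IsSaturated p) : F.IsInvariantIn F :=
  invariant_of_SI p hS F hF F (fun _ => subset_rfl)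
    ⟨le_rfl, fun _ _ _ hφ x => (F.le_of_mem hφ).2 x⟩ (gfs_top_SI_self F)

/-- A saturated system is weakly normal in itself. -/
theorem gfs_top_weaklyNormal_self [Finite S] (p : ℕ) [Fact p.Prime] (hS : IsPGroup p S)
    (F : FusionSystem S) (hF : F.IsSaturated p) : F.IsWeaklyNormalIn F p :=
  ⟨hF, hF, gfs_top_invariant_self p hS F hF⟩

variable {T : Subgroup Ω}

/-- A system invariant in a saturated system over the same group has index prime to `p`. -/
theorem gfs_top_primeIndex_of_invariant [Finite T] (p : ℕ) [Fact p.Prime] (hT : IsPGroup p T)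
    (R N : FusionSystem T) (hR : R.IsSaturated p) (hN : N.IsInvariantIn R) :
    N.HasPrimeToPIndexIn R p := by
  refine ⟨hN.1, fun P hPT => ?_⟩
  rw [Subgroup.map_le_iff_le_comap, Subgroup.closure_le]
  rintro ⟨α, hα⟩ ⟨k, hk⟩
  show α ∈ N.autGroup P
  have hk' : orderOf α = p ^ k := by rw [← hk, Subgroup.orderOf_mk]
  exact Cfsg.Agent.PPN.ppn_pElement_mem p hT R le_rfl R N hR (fun _ => subset_rfl) hN hPT α hα k hk'

/-- Index prime to `p` is transitive. -/
theorem gfs_top_primeIndex_trans {p : ℕ} (N R M : FusionSystem T) (h1 : N.HasPrimeToPIndexIn R p)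
    (h2 : R.HasPrimeToPIndexIn M p) : N.HasPrimeToPIndexIn M p := by
  refine ⟨fun P φ hφ => h2.1 P (h1.1 P hφ), fun P hPT => ?_⟩
  rw [Subgroup.map_le_iff_le_comap, Subgroup.closure_le]
  rintro ⟨α, hα⟩ ⟨k, hk⟩
  show α ∈ N.autGroup P
  have hαR : α ∈ R.autGroup P :=
    h2.2 P hPT ⟨⟨α, hα⟩, Subgroup.subset_closure ⟨k, hk⟩, rfl⟩
  have hk' : orderOf (⟨α, hαR⟩ : R.autGroup P) = p ^ k := by
    rw [Subgroup.orderOf_mk, ← hk, Subgroup.orderOf_mk]
  exact h1.2 P hPT ⟨⟨α, hαR⟩, Subgroup.subset_closure ⟨k, hk'⟩, rfl⟩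

/-- The `p'`-residual `R` of a saturated system `M`: normal in `M`, and every system normal in `R`
over the same group has the same maps as `R`. -/
theorem gfs_top_residual [Finite T] (p : ℕ) [Fact p.Prime] (hT : IsPGroup p T)
    (M : FusionSystem T) (hM : M.IsSaturated p) :
    ∃ R : FusionSystem T, R.IsNormalIn M p ∧
      ∀ N : FusionSystem T, N.IsNormalIn R p → ∀ P : Subgroup Ω, N.Hom P = R.Hom P := by
  obtain ⟨R, hR⟩ := Cfsg.Agent.Helper2.PPrimeRes.exists_isPPrimeResidual p hT M hM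
  have hRn : R.IsNormalIn M p :=
    Cfsg.Agent.S5141.result p hT M hM M (gfs_top_weaklyNormal_self p hT M hM) R hR
  refine ⟨R, hRn, fun N hN P => ?_⟩
  have h1 := gfs_top_primeIndex_of_invariant p hT R N hR.1 hN.1.2.2
  have h2 := gfs_top_primeIndex_trans N R M h1 hR.2.1
  exact Set.Subset.antisymm (hN.1.2.2.1 P) (hR.2.2 N hN.1.1 h2 P)

end Cfsg.Agent.GFS
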