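import Mathlib
import Cfsg.Prelude.Def_FusionComponents
import Cfsg.Agent.Lead.FusionMorph3
import Cfsg.Agent.Lead.FusionExt

/-!
# The central extension lemma (class-wise form)

Let `θ : T →* Ω'` be a surjective morphism of fusion systems from `W` (over `T`) onto `Nb` (over `T'`):
every map of `W` induces a map of `Nb`, and every map of `Nb` is induced by a map of `W` on the full
preimage.  Let `Q' ≤ T'` and `Q := preimageAlong θ Q'`.  Suppose every automorphism of `Q` in `W` that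
induces the identity of `Q'` is induced by an element of `T` (hypothesis `(K)`).  Then

* `gfs_cel_fullyAutomized` : if `Q'` is fully automized in `Nb` then `Q` is fully automized in `W`;
* `gfs_cel_receptive`      : if `Q'` is receptive in `Nb` then `Q` is receptive in `W`.

No saturation hypothesis on `W`.
-/

set_option autoImplicit false

namespace Cfsg.Agent.GFS

open Cfsg Cfsg.FusionSystem Cfsg.Agent.Lead

variable {Ω : Type*} [Group Ω] {T : Subgroup Ω} {Ω' : Type*} [Group Ω'] {T' : Subgroup Ω'}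

/-- A lift of the identity is unique: two automorphisms of `P'` lifted by the same `γ` agree. -/
theorem gfs_cel_liftsAut_unique (θ : T →* Ω') (hr : θ.range = T') {P' : Subgroup Ω'} (hP' : P' ≤ T')
    {γ : MulAut ↥(preimageAlong θ P')} {γ₁ γ₂ : MulAut P'}
    (h₁ : Fusion.LiftsAut θ P' γ γ₁) (h₂ : Fusion.LiftsAut θ P' γ γ₂) : γ₁ = γ₂ := by
  ext y
  obtain ⟨x, rfl⟩ := Fusion.toImage_surjective θ hr hP' y
  rw [← h₁ x, ← h₂ x]

/-- Every automorphism of the full preimage in `W` induces an automorphism of `P'` in `Nb`. -/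
theorem gfs_cel_exists_induced [Finite T] (W : FusionSystem T) (Nb : FusionSystem T') (θ : T →* Ω')
    (hθ : W.IsSurjectiveMorphism Nb θ) {P' : Subgroup Ω'} (hP' : P' ≤ T')
    (γ : MulAut ↥(preimageAlong θ P')) (hγ : γ ∈ W.autGroup (preimageAlong θ P')) :
    ∃ γ' ∈ Nb.autGroup P', Fusion.LiftsAut θ P' γ γ' := by
  obtain ⟨⟨hθT', hM⟩, hrange, hL⟩ := hθ
  have hPT : preimageAlong θ P' ≤ T := Fusion.preimageAlong_le θ P'
  have hφ := (Fusion.mem_autGroup_iff W hPT γ).mp hγ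
  obtain ⟨φ', hφ', hind⟩ := hM _ _ hφ
  have himg : imageAlong θ (preimageAlong θ P') = P' := Fusion.imageAlong_preimageAlong θ hrange hP'
  obtain ⟨φ'', hφ'', hφ''eq⟩ := Fusion.exists_hom_of_eq Nb himg hφ'
  obtain ⟨h1, h2, h3, h4⟩ := hind
  -- `φ''` maps `θ x` to `θ (γ x)`
  have key : ∀ x : ↥(preimageAlong θ P'),
      φ'' (Fusion.toImage θ P' x) = ((Fusion.toImage θ P' (γ x) : P') : Ω') := by
    intro x
    have hx' : θ ⟨x.1, hPT x.2⟩ ∈ imageAlong θ (preimageAlong θ P') := h3 x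
    have hx'' : θ ⟨x.1, hPT x.2⟩ ∈ P' := ((Fusion.mem_preimageAlong θ P' x.1).mp x.2).2
    have := hφ''eq (θ ⟨x.1, hPT x.2⟩) hx' hx''
    have e1 : (Fusion.toImage θ P' x : P') = ⟨θ ⟨x.1, hPT x.2⟩, hx''⟩ := Subtype.ext rfl
    rw [e1, this, h4 x]
    rfl
  have hr'' : φ''.range = P' := by
    ext y
    constructor
    · rintro ⟨z, rfl⟩
      obtain ⟨x, rfl⟩ := Fusion.toImage_surjective θ hrange hP' z
      rw [key]
      exact (Fusion.toImage θ P' (γ x)).2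
    · intro hy
      obtain ⟨x, hx⟩ := Fusion.toImage_surjective θ hrange hP' ⟨y, hy⟩
      refine ⟨Fusion.toImage θ P' (γ.symm x), ?_⟩
      rw [key]
      have : γ (γ.symm x) = x := γ.apply_symm_apply x
      rw [this, hx]
  obtain ⟨γ', hγ', hγ'x⟩ := Fusion.exists_aut_of_range_eq Nb hφ'' hr''
  refine ⟨γ', hγ', fun x => ?_⟩
  apply Subtype.ext
  rw [hγ'x, key]

/-- Every automorphism of `Q'` induced by `T'` is lifted by an automorphism of the full preimage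
induced by `T`. -/
theorem gfs_cel_lift_inner [Finite T] (θ : T →* Ω') (hθT' : ∀ s : T, θ s ∈ T') (hr : θ.range = T')
    {Q' : Subgroup Ω'} (hQ' : Q' ≤ T') (c' : MulAut Q') (hc' : c' ∈ autInducedBy T' Q') :
    ∃ c ∈ autInducedBy T (preimageAlong θ Q'), Fusion.LiftsAut θ Q' c c' := by
  have hfin' : Finite T' := Fusion.finite_of_range θ hr
  have : Finite Q' := Fusion.finite_of_le hQ'
  obtain ⟨t', ht', hc't⟩ := (mem_autInducedBy_iff _ _ c').mp hc'
  have ht'r : t' ∈ θ.range := hr ▸ ht'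
  obtain ⟨t, rfl⟩ := ht'r
  have hN' : θ t ∈ Subgroup.normalizer (Q' : Set Ω') := by
    apply mem_normalizer_of_conj_mem_of_finite
    intro y hy
    rw [← hc't ⟨y, hy⟩]
    exact (c' ⟨y, hy⟩).2
  have hN : (t : Ω) ∈ Subgroup.normalizer ((preimageAlong θ Q' : Subgroup Ω) : Set Ω) := by
    have : (t : Ω) ∈ normalizerIn T (preimageAlong θ Q') := by
      rw [Fusion.normalizerIn_preimageAlong θ hθT' hr hQ', Fusion.mem_preimageAlong]
      exact ⟨t.2, Subgroup.mem_inf.mpr ⟨ht', hN'⟩⟩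
    exact (Subgroup.mem_inf.mp this).2
  refine ⟨conjAutHom (preimageAlong θ Q') ⟨t, hN⟩,
    Fusion.conjAutHom_mem_autInducedBy (preimageAlong θ Q') ⟨(t : Ω), hN⟩ t.2, ?_⟩
  have h1 := Fusion.liftsAut_conj θ Q' t hN hN'
  have h2 : conjAutHom Q' ⟨θ t, hN'⟩ = c' := by
    ext y
    rw [hc't y]
    rfl
  rwa [h2] at h1

/-- **Central extension lemma, Sylow part.**  If `Q'` is fully automized in `Nb` and the kernel of
`Aut_W(Q) → Aut_Nb(Q')` lies in `Aut_T(Q)`, then `Q = preimageAlong θ Q'` is fully automized in `W`. -/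
theorem gfs_cel_fullyAutomized [Finite T] (p : ℕ) [Fact p.Prime] (hT : IsPGroup p T)
    (W : FusionSystem T) (Nb : FusionSystem T') (θ : T →* Ω') (hθ : W.IsSurjectiveMorphism Nb θ)
    {Q' : Subgroup Ω'} (hfa : Nb.IsFullyAutomized p Q')
    (hK : ∀ κ ∈ W.autGroup (preimageAlong θ Q'), Fusion.LiftsAut θ Q' κ 1 →
      κ ∈ autInducedBy T (preimageAlong θ Q')) :
    W.IsFullyAutomized p (preimageAlong θ Q') := by
  have hθ' := hθ
  obtain ⟨⟨hθT', hM⟩, hrange, hL⟩ := hθ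
  have hQ' : Q' ≤ T' := hfa.1
  have hQT : preimageAlong θ Q' ≤ T := Fusion.preimageAlong_le θ Q'
  have hfin' : Finite T' := Fusion.finite_of_range θ hrange
  have : Finite Q' := Fusion.finite_of_le hQ'
  have : Finite ↥(preimageAlong θ Q') := Fusion.finite_of_le hQT
  refine ⟨hQT, ?_⟩
  have hle : autInducedBy T (preimageAlong θ Q') ≤ W.autGroup (preimageAlong θ Q') :=
    Fusion.autInducedBy_le_autGroup W hQT
  have hIp : IsPGroup p (autInducedBy T (preimageAlong θ Q')) :=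
    Fusion.isPGroup_autInducedBy p hT _
  obtain ⟨R, hR⟩ := (hIp.comap_subtype (K := W.autGroup (preimageAlong θ Q'))).exists_le_sylow
  refine ⟨R, le_antisymm ?_ hR⟩
  -- the image of `R` in `Aut(Q')`
  let R' : Subgroup (MulAut Q') :=
    { carrier := {γ' | ∃ g : W.autGroup (preimageAlong θ Q'), g ∈ R ∧
        Fusion.LiftsAut θ Q' (g : MulAut ↥(preimageAlong θ Q')) γ'}
      mul_mem' := by
        rintro a b ⟨g, hg, hga⟩ ⟨h, hh, hhb⟩
        exact ⟨g * h, Subgroup.mul_mem _ hg hh, Fusion.liftsAut_mul θ Q' hga hhb⟩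
      one_mem' := ⟨1, Subgroup.one_mem _, Fusion.liftsAut_one θ Q'⟩
      inv_mem' := by
        rintro a ⟨g, hg, hga⟩
        exact ⟨g⁻¹, Subgroup.inv_mem _ hg, Fusion.liftsAut_inv θ Q' hga⟩ }
  have hR'p : IsPGroup p R' := by
    rintro ⟨γ', g, hg, hgγ'⟩
    obtain ⟨k, hk⟩ := R.isPGroup' ⟨g, hg⟩
    refine ⟨k, ?_⟩
    apply Subtype.ext
    have h1 : ((g : MulAut ↥(preimageAlong θ Q')) ^ p ^ k) = 1 := by
      have := congrArg (fun z : R => ((z : W.autGroup (preimageAlong θ Q')) :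
        MulAut ↥(preimageAlong θ Q'))) hk
      simpa using this
    have h2 := Fusion.liftsAut_pow θ Q' hgγ' (p ^ k)
    rw [h1] at h2
    have h3 := gfs_cel_liftsAut_unique θ hrange hQ' h2 (Fusion.liftsAut_one θ Q')
    simpa using h3
  have hR'A : R' ≤ Nb.autGroup Q' := by
    rintro γ' ⟨g, hg, hgγ'⟩
    obtain ⟨γ'', hγ'', hl⟩ := gfs_cel_exists_induced W Nb θ hθ' hQ' g g.2
    rw [gfs_cel_liftsAut_unique θ hrange hQ' hgγ' hl]
    exact hγ''
  have hI'R' : autInducedBy T' Q' ≤ R' := by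
    intro c' hc'
    obtain ⟨c, hc, hcl⟩ := gfs_cel_lift_inner θ hθT' hrange hQ' c' hc'
    exact ⟨⟨c, hle hc⟩, hR (show ((⟨c, hle hc⟩ : W.autGroup (preimageAlong θ Q')) :
      MulAut ↥(preimageAlong θ Q')) ∈ autInducedBy T (preimageAlong θ Q') from hc), hcl⟩
  -- Sylow maximality downstairs
  obtain ⟨P₀, hP₀⟩ := hfa.2
  have hR'eq : R'.subgroupOf (Nb.autGroup Q') = (P₀ : Subgroup (Nb.autGroup Q')) := by
    apply P₀.is_maximal' (hR'p.comap_subtype)
    rw [hP₀]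
    intro x hx
    exact hI'R' (Subgroup.mem_subgroupOf.mp hx)
  intro γ hγ
  rw [Subgroup.mem_subgroupOf]
  obtain ⟨γ', hγ', hl⟩ := gfs_cel_exists_induced W Nb θ hθ' hQ' γ γ.2
  have hγ'R' : γ' ∈ R' := ⟨γ, hγ, hl⟩
  have hγ'I' : γ' ∈ autInducedBy T' Q' := by
    have h1 : (⟨γ', hγ'⟩ : Nb.autGroup Q') ∈ R'.subgroupOf (Nb.autGroup Q') := by
      rw [Subgroup.mem_subgroupOf]; exact hγ'R'
    rw [hR'eq, hP₀, Subgroup.mem_subgroupOf] at h1
    exact h1
  obtain ⟨c, hc, hcl⟩ := gfs_cel_lift_inner θ hθT' hrange hQ' γ' hγ'I'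
  have hκ : Fusion.LiftsAut θ Q' (c⁻¹ * (γ : MulAut ↥(preimageAlong θ Q'))) 1 := by
    have := Fusion.liftsAut_mul θ Q' (Fusion.liftsAut_inv θ Q' hcl) hl
    rwa [inv_mul_cancel] at this
  have hκI := hK _ (Subgroup.mul_mem _ (Subgroup.inv_mem _ (hle hc)) γ.2) hκ
  have : (γ : MulAut ↥(preimageAlong θ Q')) = c * (c⁻¹ * γ) := by group
  rw [this]
  exact Subgroup.mul_mem _ hc hκI

/-- The extender lies in the underlying group. -/
theorem gfs_cel_extender_le (S P : Subgroup Ω) (φ : P →* Ω) : extender S P φ ≤ S := by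
  unfold extender
  rw [Subgroup.closure_le]
  rintro g ⟨hg, -⟩
  exact hg

/-- Every map of `W` on a full preimage induces a map of `Nb`. -/
theorem gfs_cel_exists_induced_hom [Finite T] (W : FusionSystem T) (Nb : FusionSystem T')
    (θ : T →* Ω') (hθ : W.IsSurjectiveMorphism Nb θ) {P' : Subgroup Ω'} (hP' : P' ≤ T')
    (φ : ↥(preimageAlong θ P') →* Ω) (hφ : φ ∈ W.Hom (preimageAlong θ P')) :
    ∃ φ' ∈ Nb.Hom P', ∀ x : ↥(preimageAlong θ P'),
      φ' (Fusion.toImage θ P' x) = θ ⟨φ x, Fusion.map_mem W hφ x⟩ := by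
  obtain ⟨⟨hθT', hM⟩, hrange, hL⟩ := hθ
  have hPT : preimageAlong θ P' ≤ T := Fusion.preimageAlong_le θ P'
  obtain ⟨φ', hφ', hind⟩ := hM _ _ hφ
  have himg : imageAlong θ (preimageAlong θ P') = P' := Fusion.imageAlong_preimageAlong θ hrange hP'
  obtain ⟨φ'', hφ'', hφ''eq⟩ := Fusion.exists_hom_of_eq Nb himg hφ'
  obtain ⟨h1, h2, h3, h4⟩ := hind
  refine ⟨φ'', hφ'', fun x => ?_⟩
  have hx' : θ ⟨x.1, hPT x.2⟩ ∈ imageAlong θ (preimageAlong θ P') := h3 x
  have hx'' : θ ⟨x.1, hPT x.2⟩ ∈ P' := ((Fusion.mem_preimageAlong θ P' x.1).mp x.2).2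
  have := hφ''eq (θ ⟨x.1, hPT x.2⟩) hx' hx''
  have e1 : (Fusion.toImage θ P' x : P') = ⟨θ ⟨x.1, hPT x.2⟩, hx''⟩ := Subtype.ext rfl
  rw [e1, this, h4 x]

/-- The source of a map of `W` onto a full preimage is itself a full preimage. -/
theorem gfs_cel_source_eq [Finite T] (W : FusionSystem T) (Nb : FusionSystem T') (θ : T →* Ω')
    (hθ : W.IsSurjectiveMorphism Nb θ) {Q' : Subgroup Ω'} {P : Subgroup Ω} {φ : P →* Ω}
    (hφ : φ ∈ W.Hom P) (hr : φ.range = preimageAlong θ Q') :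
    preimageAlong θ (imageAlong θ P) = P := by
  have hPT : P ≤ T := Fusion.src_le W hφ
  apply Fusion.preimageAlong_imageAlong_of_le θ hPT
  have hcl := Fusion.kerAlong_stronglyClosed W Nb θ hθ.1
  obtain ⟨ψ, hψ, -, hψr⟩ := Fusion.exists_inv W hφ hr
  intro z hz
  obtain ⟨t', ht', ht⟩ := Fusion.exists_preimage_of_stronglyClosed W hcl
    (Fusion.kerAlong_le_preimageAlong θ Q') hψ z hz
  rw [← hψr, ← ht]
  exact ⟨_, rfl⟩

/-- **Central extension lemma, extension part.**  If `Q'` is receptive in `Nb` and the kernel of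
`Aut_W(Q) → Aut_Nb(Q')` lies in `Aut_T(Q)`, then `Q = preimageAlong θ Q'` is receptive in `W`. -/
theorem gfs_cel_receptive [Finite T] (W : FusionSystem T) (Nb : FusionSystem T') (θ : T →* Ω')
    (hθ : W.IsSurjectiveMorphism Nb θ) {Q' : Subgroup Ω'} (hrec : Nb.IsReceptive Q')
    (hK : ∀ κ ∈ W.autGroup (preimageAlong θ Q'), Fusion.LiftsAut θ Q' κ 1 →
      κ ∈ autInducedBy T (preimageAlong θ Q')) :
    W.IsReceptive (preimageAlong θ Q') := by
  have hθ' := hθ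
  obtain ⟨⟨hθT', hM⟩, hrange, hL⟩ := hθ
  have hQ' : Q' ≤ T' := hrec.1
  have hQT : preimageAlong θ Q' ≤ T := Fusion.preimageAlong_le θ Q'
  have hfin' : Finite T' := Fusion.finite_of_range θ hrange
  refine ⟨hQT, fun P φ hφ hr => ?_⟩
  -- reduce to a source of the form `preimageAlong θ P'`
  have hsrc := gfs_cel_source_eq W Nb θ hθ' hφ hr
  have hP'T' : imageAlong θ P ≤ T' := by
    intro y hy
    obtain ⟨x, -, hxT, rfl⟩ := (Fusion.mem_imageAlong θ P y).mp hy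
    exact hθT' _
  generalize imageAlong θ P = P' at hsrc hP'T'
  subst hsrc
  have hPT : preimageAlong θ P' ≤ T := Fusion.preimageAlong_le θ P'
  have : Finite P' := Fusion.finite_of_le hP'T'
  have : Finite ↥(preimageAlong θ P') := Fusion.finite_of_le hPT
  -- the induced map
  obtain ⟨φ', hφ', hφ'x⟩ := gfs_cel_exists_induced_hom W Nb θ hθ' hP'T' φ hφ
  have hr' : φ'.range = Q' := by
    ext y
    constructor
    · rintro ⟨z, rfl⟩
      obtain ⟨x, rfl⟩ := Fusion.toImage_surjective θ hrange hP'T' z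
      rw [hφ'x]
      have : φ x ∈ preimageAlong θ Q' := hr ▸ ⟨x, rfl⟩
      exact ((Fusion.mem_preimageAlong θ Q' _).mp this).2
    · intro hy
      have hyr : y ∈ θ.range := hrange ▸ hQ' hy
      obtain ⟨s, rfl⟩ := hyr
      have hs : (s : Ω) ∈ preimageAlong θ Q' := (Fusion.mem_preimageAlong θ Q' s.1).mpr ⟨s.2, hy⟩
      rw [← hr] at hs
      obtain ⟨x, hx⟩ := hs
      refine ⟨Fusion.toImage θ P' x, ?_⟩
      rw [hφ'x]
      congr 1
      exact Subtype.ext hx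
  -- the extender maps into the extender
  have hNT : extender T (preimageAlong θ P') φ ≤ T := gfs_cel_extender_le _ _ _
  have hNN' : extender T (preimageAlong θ P') φ ≤ preimageAlong θ (extender T' P' φ') := by
    have hdef : extender T (preimageAlong θ P') φ = Subgroup.closure {g : Ω | g ∈ T ∧
      g ∈ Subgroup.normalizer ((preimageAlong θ P' : Subgroup Ω) : Set Ω) ∧ ∃ h ∈ T,
      ∀ (x : ↥(preimageAlong θ P')) (hx : g * (x : Ω) * g⁻¹ ∈ preimageAlong θ P'),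
      φ ⟨g * x * g⁻¹, hx⟩ = h * φ x * h⁻¹} := rfl
    rw [hdef, Subgroup.closure_le]
    rintro g ⟨hgT, hgN, h, hhT, hh⟩
    rw [SetLike.mem_coe, Fusion.mem_preimageAlong]
    refine ⟨hgT, ?_⟩
    apply Subgroup.subset_closure
    have hgN' : θ ⟨g, hgT⟩ ∈ normalizerIn T' P' := by
      have h1 : g ∈ normalizerIn T (preimageAlong θ P') := Subgroup.mem_inf.mpr ⟨hgT, hgN⟩
      rw [Fusion.normalizerIn_preimageAlong θ hθT' hrange hP'T', Fusion.mem_preimageAlong] at h1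
      exact h1.2
    refine ⟨hθT' _, (Subgroup.mem_inf.mp hgN').2, θ ⟨h, hhT⟩, hθT' _, ?_⟩
    intro y hy
    obtain ⟨x, rfl⟩ := Fusion.toImage_surjective θ hrange hP'T' y
    have hx : g * (x : Ω) * g⁻¹ ∈ preimageAlong θ P' :=
      (Subgroup.mem_normalizer_iff.mp hgN _).mp x.2
    have e1 : (⟨θ ⟨g, hgT⟩ * ((Fusion.toImage θ P' x : P') : Ω') * (θ ⟨g, hgT⟩)⁻¹, hy⟩ : P') =
        Fusion.toImage θ P' ⟨g * x * g⁻¹, hx⟩ := by
      apply Subtype.ext
      show θ ⟨g, hgT⟩ * θ ⟨x.1, hPT x.2⟩ * (θ ⟨g, hgT⟩)⁻¹ = θ ⟨g * x * g⁻¹, hPT hx⟩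
      rw [← map_inv, ← map_mul, ← map_mul]
      rfl
    rw [e1, hφ'x, hφ'x]
    rw [← map_inv, ← map_mul, ← map_mul]
    congr 1
    exact Subtype.ext (hh x hx)
  -- extend downstairs and lift
  obtain ⟨ψ', hψ', hψ'ext⟩ := hrec.2 P' φ' hφ' hr'
  have hN'T' : extender T' P' φ' ≤ T' := gfs_cel_extender_le _ _ _
  obtain ⟨ψ₁, hψ₁, hind₁⟩ := hL _ hN'T' ψ' hψ'
  obtain ⟨hN₁T, hψ₁T, hN₁N', hind₁⟩ := hind₁
  have hPN : preimageAlong θ P' ≤ extender T (preimageAlong θ P') φ :=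
    Fusion.le_extender _ hPT φ (fun x => Fusion.map_mem W hφ x)
  have hPN₁ : preimageAlong θ P' ≤ preimageAlong θ (extender T' P' φ') := hPN.trans hNN'
  -- the restriction of the lift to the source of `φ`
  have hχ := Fusion.restrict_mem W hψ₁ hPN₁
  set χ : ↥(preimageAlong θ P') →* Ω := ψ₁.comp (Subgroup.inclusion hPN₁) with hχdef
  have hχθ : ∀ x : ↥(preimageAlong θ P'),
      θ ⟨χ x, Fusion.map_mem W hχ x⟩ = θ ⟨φ x, Fusion.map_mem W hφ x⟩ := by
    intro x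
    have h1 := hind₁ (Subgroup.inclusion hPN₁ x)
    have hxP' : θ ⟨x.1, hPT x.2⟩ ∈ P' := ((Fusion.mem_preimageAlong θ P' x.1).mp x.2).2
    have h2 := hψ'ext (θ ⟨x.1, hPT x.2⟩) hxP' (hN₁N' (Subgroup.inclusion hPN₁ x))
    have h3 := hφ'x x
    have e1 : (Fusion.toImage θ P' x : P') = ⟨θ ⟨x.1, hPT x.2⟩, hxP'⟩ := Subtype.ext rfl
    rw [e1] at h3
    rw [← h3, ← h2]
    exact h1.symm
  have hχr : χ.range = preimageAlong θ Q' := by
    apply Fusion.range_lift W Nb θ hθ' hφ' hr' hχ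
    refine ⟨hPT, fun x => Fusion.map_mem W hχ x, fun x =>
      ((Fusion.mem_preimageAlong θ P' x.1).mp x.2).2, fun x => ?_⟩
    rw [hχθ x]
    exact hφ'x x
  -- the automorphism `χ ∘ φ⁻¹` of `Q`
  obtain ⟨σ, hσ, hσx, hσr⟩ := Fusion.exists_inv W hφ hr
  have hσP : ∀ y : ↥(preimageAlong θ Q'), σ y ∈ preimageAlong θ P' := fun y => hσr ▸ ⟨y, rfl⟩
  have hκ₀ := W.comp_mem hσ hχ hσP
  set κ₀ : ↥(preimageAlong θ Q') →* Ω := χ.comp (σ.codRestrict (preimageAlong θ P') hσP) with hκ₀def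
  have hκ₀φ : ∀ x : ↥(preimageAlong θ P'), ∀ h : φ x ∈ preimageAlong θ Q', κ₀ ⟨φ x, h⟩ = χ x := by
    intro x h
    show χ ⟨σ ⟨φ x, h⟩, _⟩ = χ x
    congr 1
    exact Subtype.ext (hσx x h)
  have hκ₀r : κ₀.range = preimageAlong θ Q' := by
    ext y
    constructor
    · rintro ⟨z, rfl⟩
      have h0 : κ₀ z ∈ χ.range := ⟨_, rfl⟩
      rwa [hχr] at h0
    · intro hy
      rw [← hχr] at hy
      obtain ⟨x, rfl⟩ := hy
      have h : φ x ∈ preimageAlong θ Q' := hr ▸ ⟨x, rfl⟩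
      exact ⟨⟨φ x, h⟩, hκ₀φ x h⟩
  obtain ⟨κ, hκ, hκx⟩ := Fusion.exists_aut_of_range_eq W hκ₀ hκ₀r
  have hκlift : Fusion.LiftsAut θ Q' κ 1 := by
    intro y
    have hy : (y : Ω) ∈ φ.range := by rw [hr]; exact y.2
    obtain ⟨x, hx⟩ := hy
    have h : φ x ∈ preimageAlong θ Q' := hr ▸ ⟨x, rfl⟩
    have hy' : y = ⟨φ x, h⟩ := Subtype.ext hx.symm
    apply Subtype.ext
    rw [MulAut.one_apply, Fusion.toImage_coe, Fusion.toImage_coe]
    have h1 : ((κ y : ↥(preimageAlong θ Q')) : Ω) = χ x := by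
      rw [hκx, hy', hκ₀φ x h]
    have h2 := hχθ x
    calc θ ⟨((κ y : ↥(preimageAlong θ Q')) : Ω), hQT (κ y).2⟩
        = θ ⟨χ x, Fusion.map_mem W hχ x⟩ := by congr 1; exact Subtype.ext h1
      _ = θ ⟨φ x, Fusion.map_mem W hφ x⟩ := h2
      _ = θ ⟨(y : Ω), hQT y.2⟩ := by congr 1; exact Subtype.ext hx
  obtain ⟨t, htT, ht⟩ := (mem_autInducedBy_iff _ _ κ).mp (hK κ hκ hκlift)
  -- the corrected extension
  have hψN := Fusion.restrict_mem W hψ₁ hNN'
  have hψNT : ∀ x : ↥(extender T (preimageAlong θ P') φ),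
      (ψ₁.comp (Subgroup.inclusion hNN')) x ∈ T := fun x => Fusion.map_mem W hψN x
  have hc := W.conj_mem (P := T) (g := t⁻¹) le_rfl (T.inv_mem htT)
  refine ⟨(conjHom T t⁻¹).comp ((ψ₁.comp (Subgroup.inclusion hNN')).codRestrict T hψNT),
    W.comp_mem hψN hc hψNT, ?_⟩
  intro x hxP hxN
  show t⁻¹ * ψ₁ ⟨x, hNN' hxN⟩ * t⁻¹⁻¹ = φ ⟨x, hxP⟩
  have h : φ ⟨x, hxP⟩ ∈ preimageAlong θ Q' := hr ▸ ⟨⟨x, hxP⟩, rfl⟩
  have h1 : ψ₁ ⟨x, hNN' hxN⟩ = χ ⟨x, hxP⟩ := rfl
  have h2 := ht ⟨φ ⟨x, hxP⟩, h⟩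
  rw [hκx, hκ₀φ ⟨x, hxP⟩ h] at h2
  rw [h1, h2]
  group

end Cfsg.Agent.GFS
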