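import Mathlib
import Cfsg.Prelude.Def_FusionFitting
import Cfsg.Agent.Lead.FusionProduct
import Cfsg.Agent.Lead.FusionNormal
import Cfsg.Agent.Lead.FusionQuasi
import Cfsg.Agent.COP.QsCentral
import Cfsg.Agent.COP.Main

/-!
GFS project, the bookkeeping between "constrained / no component" (S5146) and "`F*(F) = O_p(F)`" (S5310).

* `gfs_fit_no_component`: if the inner system of `O_p(F)` is a generalized Fitting subsystem of `F` then `F` has no
  component (a component lies in the layer, whose group lies in `O_p(F)`; it also centralizes `O_p(F)` by the COP project,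
  so its group is abelian, which a quasisimple system does not allow).
* `gfs_fit_of_no_component`: if `F` has no component, the system over the trivial subgroup is a layer of `F`, and the inner
  system of `O_p(F)` is the central product of itself with that layer.
* `gfs_fit_main`: the statement of S5310, with the statement of S5146 for `F` as a hypothesis.
-/

set_option autoImplicit false
set_option linter.unusedSectionVars false
set_option linter.unusedVariables false
set_option linter.style.haveILetI false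

namespace Cfsg.Agent.GFS

open Cfsg Cfsg.FusionSystem Cfsg.Agent.Lead Cfsg.Agent.COP

variable {Ω : Type*} [Group Ω] {S : Subgroup Ω}

/-! ### From a generalized Fitting subsystem equal to the inner system of `O_p(F)` to "no component" -/

/-- In a central product `D` over `U` of `E₁` over `T₁` and `E₂` over `T₂`, the group `T₂` lies in `U`. -/
theorem gfs_fit_right_le {T₁ T₂ U : Subgroup Ω} (E₁ : FusionSystem T₁) (E₂ : FusionSystem T₂)
    (D : FusionSystem U) (h : IsCentralProductOf E₁ E₂ D) : T₂ ≤ U := by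
  obtain ⟨D₀, -, Z, θ, -, -, -, -, hθ2, hfac⟩ := h
  intro y hy
  have hmem : ((1, y) : Ω × Ω) ∈ T₁.prod T₂ := Subgroup.mem_prod.mpr ⟨T₁.one_mem, hy⟩
  have h1 : θ ⟨(1, y), hmem⟩ = y := hθ2 y hmem
  have h2 : θ ⟨(1, y), hmem⟩ ∈ θ.range := ⟨_, rfl⟩
  rw [hfac.2.2.1, h1] at h2
  exact h2

/-- The group of a subsystem lies in the group of the system. -/
theorem gfs_fit_le_of_isSubsystemOf {U T : Subgroup Ω} (C : FusionSystem U) (E : FusionSystem T)
    (h : C.IsSubsystemOf E) : U ≤ T :=
  (E.le_of_mem (h U (C.conj_mem (le_refl U) U.one_mem))).1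

theorem gfs_fit_no_component [Finite S] (p : ℕ) [Fact p.Prime] (hS : IsPGroup p S)
    (F : FusionSystem S) (hF : F.IsSaturated p)
    (hfit : (innerFusionSystem F.core).IsGeneralizedFittingOf F p) :
    ¬ ∃ (T : Subgroup Ω) (C : FusionSystem T), C.IsComponentIn F p := by
  obtain ⟨T, E, hlay, hcp⟩ := hfit
  rintro ⟨U, C, hC⟩
  have hcore : F.IsNormal F.core := Fusion.core_isNormal F
  have hUT : U ≤ T := gfs_fit_le_of_isSubsystemOf C E (hlay.2.1 U C hC)
  have hTR : T ≤ F.core := gfs_fit_right_le _ E _ hcp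
  have hUC : U ≤ centralizerIn S F.core := cop_component_le_centralizerIn p hS F hF C hC hcore
  have hUS : U ≤ S := (hUT.trans hTR).trans hcore.1
  haveI : Finite U := Fusion.finite_of_le hUS
  have hUp : IsPGroup p U := hS.to_le hUS
  apply Fusion.not_commutative_of_quasisimple p hUp C hC.2
  refine ⟨⟨fun a b => ?_⟩⟩
  apply Subtype.ext
  show (a : Ω) * (b : Ω) = (b : Ω) * (a : Ω)
  have ha : (a : Ω) ∈ Subgroup.centralizer (F.core : Set Ω) := (hUC a.2).2
  have hb : (b : Ω) ∈ F.core := hTR (hUT b.2)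
  exact (Subgroup.mem_centralizer_iff.mp ha (b : Ω) hb).symm

/-! ### The trivial system is a layer when there is no component -/

theorem gfs_fit_bot_isLayerOf [Finite S] (p : ℕ) [Fact p.Prime] (hS : IsPGroup p S)
    (F : FusionSystem S) (hF : F.IsSaturated p)
    (hno : ¬ ∃ (T : Subgroup Ω) (C : FusionSystem T), C.IsComponentIn F p) :
    (innerFusionSystem (⊥ : Subgroup Ω)).IsLayerOf F p := by
  refine ⟨cop_inner_isNormalIn p hS F hF (Fusion.bot_isNormal F), ?_, ?_⟩
  · intro U C hC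
    exact absurd ⟨U, C, hC⟩ hno
  · intro R D hD _ P φ hφ
    obtain ⟨hP, g, hg, hgφ⟩ := hφ
    have hg1 : g = 1 := Subgroup.mem_bot.mp hg
    have hPR : P ≤ R := hP.trans bot_le
    have e : φ = conjHom P 1 := by
      ext x
      rw [hgφ x, hg1]
      rfl
    rw [e]
    exact D.conj_mem hPR R.one_mem

/-! ### The inner system of `R` is the central product of itself and the trivial system -/

/-- The first projection on `R × ⊥`. -/
def gfsFitTheta (R : Subgroup Ω) : ↥(R.prod (⊥ : Subgroup Ω)) →* Ω :=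
  (MonoidHom.fst Ω Ω).comp (R.prod (⊥ : Subgroup Ω)).subtype

theorem gfsFitTheta_apply (R : Subgroup Ω) (s : ↥(R.prod (⊥ : Subgroup Ω))) :
    gfsFitTheta R s = (s : Ω × Ω).1 := rfl

theorem gfs_fit_snd_eq_one (R : Subgroup Ω) {x : Ω × Ω} (hx : x ∈ R.prod (⊥ : Subgroup Ω)) :
    x.2 = 1 := Subgroup.mem_bot.mp (Subgroup.mem_prod.mp hx).2

theorem gfs_fit_mem_prod (R : Subgroup Ω) {a : Ω} (ha : a ∈ R) :
    ((a, 1) : Ω × Ω) ∈ R.prod (⊥ : Subgroup Ω) :=
  Subgroup.mem_prod.mpr ⟨ha, Subgroup.one_mem _⟩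

theorem gfs_fit_mem_preimage (R : Subgroup Ω) {P' : Subgroup Ω} {x : Ω × Ω} :
    x ∈ preimageAlong (gfsFitTheta R) P' ↔ x.1 ∈ P' ∧ x.1 ∈ R ∧ x.2 = 1 := by
  constructor
  · rintro ⟨s, hs, rfl⟩
    exact ⟨hs, (Subgroup.mem_prod.mp s.2).1, gfs_fit_snd_eq_one R s.2⟩
  · rintro ⟨h1, h2, h3⟩
    have hx : x ∈ R.prod (⊥ : Subgroup Ω) :=
      Subgroup.mem_prod.mpr ⟨h2, by rw [h3]; exact Subgroup.one_mem _⟩
    exact ⟨⟨x, hx⟩, h1, rfl⟩

theorem gfs_fit_isFactorSystem (R : Subgroup Ω) :
    (Fusion.productSystem (innerFusionSystem R) (innerFusionSystem (⊥ : Subgroup Ω))).IsFactorSystem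
      (⊥ : Subgroup (Ω × Ω)) (gfsFitTheta R) (innerFusionSystem R) := by
  refine ⟨bot_le, fun s => ?_, ?_, fun P' φ' => ?_⟩
  · rw [gfsFitTheta_apply, Subgroup.mem_bot]
    constructor
    · intro h
      exact Prod.ext h (gfs_fit_snd_eq_one R s.2)
    · intro h
      rw [h]
      rfl
  · apply le_antisymm
    · rintro _ ⟨s, rfl⟩
      exact (Subgroup.mem_prod.mp s.2).1
    · intro a ha
      exact ⟨⟨(a, 1), gfs_fit_mem_prod R ha⟩, rfl⟩
  · have hQle : preimageAlong (gfsFitTheta R) P' ≤ R.prod (⊥ : Subgroup Ω) := by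
      intro x hx
      obtain ⟨h1, h2, h3⟩ := (gfs_fit_mem_preimage R).mp hx
      exact Subgroup.mem_prod.mpr ⟨h2, by rw [h3]; exact Subgroup.one_mem _⟩
    constructor
    · rintro ⟨hP', g, hg, hgφ⟩
      refine ⟨hP', conjHom (preimageAlong (gfsFitTheta R) P') ((g, 1) : Ω × Ω),
        (Fusion.productSystem (innerFusionSystem R) (innerFusionSystem (⊥ : Subgroup Ω))).conj_mem
          hQle (gfs_fit_mem_prod R hg), hQle, ?_, ?_, ?_⟩
      · intro x
        exact ((Fusion.productSystem (innerFusionSystem R)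
          (innerFusionSystem (⊥ : Subgroup Ω))).le_of_mem
          ((Fusion.productSystem (innerFusionSystem R)
            (innerFusionSystem (⊥ : Subgroup Ω))).conj_mem hQle (gfs_fit_mem_prod R hg))).2 x
      · intro x
        exact ((gfs_fit_mem_preimage R).mp x.2).1
      · intro x
        rw [hgφ]
        rfl
    · rintro ⟨hP', φ, hφ, hP, hφm, hPm, hind⟩
      obtain ⟨-, φ₁, ⟨-, g, hg, hgφ₁⟩, φ₂, -, hprod⟩ := hφ
      refine ⟨hP', g, hg, fun y => ?_⟩
      have hyQ : (((y : Ω), 1) : Ω × Ω) ∈ preimageAlong (gfsFitTheta R) P' :=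
        (gfs_fit_mem_preimage R).mpr ⟨y.2, hP' y.2, rfl⟩
      have h1 := hind ⟨((y : Ω), 1), hyQ⟩
      have e1 : (⟨gfsFitTheta R ⟨(((y : Ω), 1) : Ω × Ω), hP hyQ⟩, hPm ⟨_, hyQ⟩⟩ : P') = y :=
        Subtype.ext rfl
      rw [e1] at h1
      rw [h1, gfsFitTheta_apply]
      have h2 := hprod ⟨((y : Ω), 1), hyQ⟩ (Fusion.fst_mem_map _ _) (Fusion.snd_mem_map _ _)
      show (φ ⟨((y : Ω), 1), hyQ⟩).1 = g * (y : Ω) * g⁻¹
      rw [h2]
      exact hgφ₁ _

theorem gfs_fit_isCentralProductOf (R : Subgroup Ω) :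
    IsCentralProductOf (innerFusionSystem R) (innerFusionSystem (⊥ : Subgroup Ω))
      (innerFusionSystem R) := by
  refine ⟨Fusion.productSystem (innerFusionSystem R) (innerFusionSystem (⊥ : Subgroup Ω)),
    Fusion.productSystem_isProductSystem _ _, ⊥, gfsFitTheta R, bot_le, bot_inf_eq _, bot_inf_eq _,
    fun x hx => rfl, fun y hy => ?_, gfs_fit_isFactorSystem R⟩
  have hy1 : y = 1 := Subgroup.mem_bot.mp (Subgroup.mem_prod.mp hy).2
  rw [gfsFitTheta_apply]
  exact hy1.symm

theorem gfs_fit_of_no_component [Finite S] (p : ℕ) [Fact p.Prime] (hS : IsPGroup p S)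
    (F : FusionSystem S) (hF : F.IsSaturated p)
    (hno : ¬ ∃ (T : Subgroup Ω) (C : FusionSystem T), C.IsComponentIn F p) :
    (innerFusionSystem F.core).IsGeneralizedFittingOf F p :=
  ⟨⊥, innerFusionSystem (⊥ : Subgroup Ω), gfs_fit_bot_isLayerOf p hS F hF hno,
    gfs_fit_isCentralProductOf F.core⟩

/-! ### S5310 from S5146 -/

/-- The statement of S5310 for `F`, given the statement of S5146 for `F`. -/
theorem gfs_fit_main [Finite S] (p : ℕ) [Fact p.Prime] (hS : IsPGroup p S)
    (F : FusionSystem S) (hF : F.IsSaturated p)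
    (h5146 : F.IsConstrained p ↔
      ¬ ∃ (T : Subgroup Ω) (C : FusionSystem T), C.IsComponentIn F p) :
    F.IsConstrained p ↔ (innerFusionSystem F.core).IsGeneralizedFittingOf F p :=
  ⟨fun h => gfs_fit_of_no_component p hS F hF (h5146.mp h),
    fun h => h5146.mpr (gfs_fit_no_component p hS F hF h)⟩

end Cfsg.Agent.GFS
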