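import Mathlib
import Cfsg.Prelude.Def_FusionComponents
import Cfsg.Agent.Lead.FusionFactor
import Cfsg.Agent.Lead.FusionAut

set_option autoImplicit false

/-!
# Lifting a normal subsystem through a central quotient (N2), part 0: definitions

`M` is a saturated fusion system over `S`, `Z` a central subgroup, `θ : S →* Ω'` reads the factor system
`Mb = M/Z`, and `Nb` is a normal subsystem of `Mb` over `T'`.  `T` is the full preimage of `T'`.
For `P ≤ T` the group `gflA P` is generated by the `p'`-elements of `Aut_M(P)` inducing maps of `Nb`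
and by the `M`-conjugates of the automorphisms induced by `T`; `gflN` is the smallest fusion system
over `T` inside `M` that contains `gflA R` for every `R` in the family `gflH` of the preimages of the
`Nb`-centric subgroups.  (Plan and proof: `notes/N2_helper8.md`.)
-/

namespace Cfsg.Agent.GFS

open Cfsg Cfsg.FusionSystem Cfsg.Agent.Lead

universe u v

variable {Ω : Type u} [Group Ω] {S : Subgroup Ω} {Ω' : Type v} [Group Ω'] {S' T' : Subgroup Ω'}

/-- The standing hypotheses of the lifting theorem. -/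
structure GflSetup (p : ℕ) (M : FusionSystem S) (Z : Subgroup Ω) (θ : S →* Ω')
    (Mb : FusionSystem S') (Nb : FusionSystem T') : Prop where
  hS : IsPGroup p S
  sat : M.IsSaturated p
  cen : Z ≤ M.center
  fac : M.IsFactorSystem Z θ Mb
  nrm : Nb.IsNormalIn Mb p

/-- The automorphism `α` of `P`, as a homomorphism into the ambient group. -/
abbrev gflHom {P : Subgroup Ω} (α : MulAut P) : P →* Ω := P.subtype.comp α.toMonoidHom

/-- `α ∈ Aut(P)` induces a map of `Nb` on the image of `P`. -/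
def GflB (θ : S →* Ω') (Nb : FusionSystem T') (P : Subgroup Ω) (α : MulAut P) : Prop :=
  ∃ φ' ∈ Nb.Hom (imageAlong θ P), InducedAlong θ (gflHom α) φ'

/-- `α ∈ Aut(P)` is trivial modulo `Z`. -/
def GflK (Z P : Subgroup Ω) (α : MulAut P) : Prop :=
  ∀ x : P, (x : Ω)⁻¹ * ((α x : P) : Ω) ∈ Z

/-- The generators of `gflA P`: the `p'`-elements of `Aut_M(P)` inducing maps of `Nb`, and the
`M`-conjugates of the automorphisms induced by elements of `T`. -/
def gflGen (p : ℕ) (M : FusionSystem S) (θ : S →* Ω') (Nb : FusionSystem T') (P : Subgroup Ω) :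
    Set (MulAut P) :=
  {α | α ∈ M.autGroup P ∧ GflB θ Nb P α ∧ (orderOf α).Coprime p} ∪
    {α | ∃ φ ∈ M.Hom P, ∃ t ∈ preimageAlong θ T', ∀ x : P, φ (α x) = t * φ x * t⁻¹}

/-- The prescribed automizer `A(P)`. -/
def gflA (p : ℕ) (M : FusionSystem S) (θ : S →* Ω') (Nb : FusionSystem T') (P : Subgroup Ω) :
    Subgroup (MulAut P) :=
  Subgroup.closure (gflGen p M θ Nb P)

/-- The family `H`: the subgroups of `T` containing `Z` whose image is `Nb`-centric. -/
def gflH (Z : Subgroup Ω) (θ : S →* Ω') (Nb : FusionSystem T') : Set (Subgroup Ω) :=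
  {P | Z ≤ P ∧ P ≤ preimageAlong θ T' ∧ Nb.IsCentric (imageAlong θ P)}

/-- The lift: the smallest fusion system over `T` inside `M` containing `gflA R` for all `R ∈ H`. -/
def gflN (p : ℕ) (M : FusionSystem S) (Z : Subgroup Ω) (θ : S →* Ω') (Nb : FusionSystem T') :
    FusionSystem (preimageAlong θ T') where
  Hom P := {φ | φ ∈ M.Hom P ∧ P ≤ preimageAlong θ T' ∧ (∀ x : P, φ x ∈ preimageAlong θ T') ∧
    ∀ D : FusionSystem (preimageAlong θ T'),
      (∀ R ∈ gflH Z θ Nb, gflA p M θ Nb R ≤ D.autGroup R) → φ ∈ D.Hom P}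
  le_of_mem h := ⟨h.2.1, h.2.2.1⟩
  injective_of_mem h := M.injective_of_mem h.1
  conj_mem := by
    intro P g hP hg
    have hTS : preimageAlong θ T' ≤ S := Fusion.preimageAlong_le θ T'
    refine ⟨M.conj_mem (hP.trans hTS) (hTS hg), hP, fun x => ?_, fun D _ => D.conj_mem hP hg⟩
    exact Subgroup.mul_mem _ (Subgroup.mul_mem _ hg (hP x.2)) (Subgroup.inv_mem _ hg)
  comp_mem := by
    intro P Q φ ψ hφ hψ h
    refine ⟨M.comp_mem hφ.1 hψ.1 h, hφ.2.1, fun x => hψ.2.2.1 _, fun D hD => ?_⟩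
    exact D.comp_mem (hφ.2.2.2 D hD) (hψ.2.2.2 D hD) h
  inv_mem := by
    intro P φ hφ
    obtain ⟨ψ, hψ, hinv⟩ := M.inv_mem hφ.1
    refine ⟨ψ, ⟨hψ, ?_, ?_, fun D hD => ?_⟩, hinv⟩
    · rintro _ ⟨x, rfl⟩
      exact hφ.2.2.1 x
    · rintro ⟨_, x, rfl⟩
      rw [hinv x]
      exact hφ.2.1 x.2
    · obtain ⟨ψ', hψ', hinv'⟩ := D.inv_mem (hφ.2.2.2 D hD)
      have : ψ = ψ' := by
        apply MonoidHom.ext
        rintro ⟨_, x, rfl⟩
        exact (hinv x).trans (hinv' x).symm
      rw [this]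
      exact hψ'

theorem gflN_le (p : ℕ) (M : FusionSystem S) (Z : Subgroup Ω) (θ : S →* Ω') (Nb : FusionSystem T') :
    (gflN p M Z θ Nb).IsSubsystemOf M := fun _ _ h => h.1

theorem gflN_min (p : ℕ) (M : FusionSystem S) (Z : Subgroup Ω) (θ : S →* Ω') (Nb : FusionSystem T')
    (D : FusionSystem (preimageAlong θ T'))
    (hD : ∀ R ∈ gflH Z θ Nb, gflA p M θ Nb R ≤ D.autGroup R) : gflN p M Z θ Nb ≤ D :=
  fun _ _ h => h.2.2.2 D hD

end Cfsg.Agent.GFS
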