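import Mathlib
import Cfsg.Agent.GFS.LiftDefs
import Cfsg.Agent.CPS.Maps
import Cfsg.Agent.Lead.FusionGrun
import Cfsg.Agent.Lead.FusionStrongInvD
import Cfsg.Agent.Lead.FusionSat2
import Cfsg.Agent.Lead.FusionMorph
import Cfsg.Agent.OLV.HConj
import Cfsg.Agent.OLV.ELe

set_option autoImplicit false

/-!
# Lifting a normal subsystem through a central quotient (N2), part 1a: bookkeeping

Notation of `LiftDefs`.  Nothing here needs more than the definitions, the factor-system morphism and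
the strong invariance of `Nb` in `Mb`.
-/

namespace Cfsg.Agent.GFS

open Cfsg Cfsg.FusionSystem Cfsg.Agent.Lead Cfsg.Agent.Lead.StrongInv

universe u v

variable {Ω : Type u} [Group Ω] {S : Subgroup Ω} {Ω' : Type v} [Group Ω'] {S' T' : Subgroup Ω'}
variable {p : ℕ} {M : FusionSystem S} {Z : Subgroup Ω} {θ : S →* Ω'} {Mb : FusionSystem S'}
  {Nb : FusionSystem T'}

theorem gfl_T_le (θ : S →* Ω') (T' : Subgroup Ω') : preimageAlong θ T' ≤ S :=
  Fusion.preimageAlong_le θ T'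

/-- An automorphism of `P` that a map `φ` of the system intertwines with conjugation by `g ∈ S` is an
automorphism of the system. -/
theorem gfl_aut_of_conj (F : FusionSystem S) {P : Subgroup Ω} {φ : P →* Ω} (hφ : φ ∈ F.Hom P) {g : Ω}
    (hg : g ∈ S) (α : MulAut P) (hα : ∀ x : P, φ (α x) = g * φ x * g⁻¹) : α ∈ F.autGroup P := by
  have hPS : P ≤ S := (F.le_of_mem hφ).1
  rw [Fusion.mem_autGroup_iff F hPS]
  obtain ⟨ψ, hψ, hinv⟩ := F.inv_mem hφ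
  have hrS : φ.range ≤ S := by
    rintro _ ⟨x, rfl⟩
    exact (F.le_of_mem hφ).2 x
  have hc : conjHom φ.range g ∈ F.Hom φ.range := F.conj_mem hrS hg
  have h1 : ∀ x : P, φ x ∈ φ.range := fun x => ⟨x, rfl⟩
  have hφ₁ := F.comp_mem hφ hc h1
  have h2 : ∀ x : P, ((conjHom φ.range g).comp (φ.codRestrict φ.range h1)) x ∈ φ.range := by
    intro x
    refine ⟨α x, ?_⟩
    rw [hα x]
    rfl
  have hφ₂ := F.comp_mem hφ₁ hψ h2
  convert hφ₂ using 1
  ext x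
  have h3 : ψ ⟨φ (α x), ⟨α x, rfl⟩⟩ = ((α x : P) : Ω) := hinv (α x)
  show ((α x : P) : Ω) = ψ ⟨g * φ x * g⁻¹, h2 x⟩
  rw [← h3]
  congr 1
  exact Subtype.ext (hα x)

/-! ### Maps inducing maps of `Nb` -/

/-- `φ` induces a map of `Nb` on the image of its source. -/
def GflHomInd (θ : S →* Ω') (Nb : FusionSystem T') (P : Subgroup Ω) (φ : P →* Ω) : Prop :=
  ∃ φ' ∈ Nb.Hom (imageAlong θ P), InducedAlong θ φ φ'

theorem gflB_iff_ind {P : Subgroup Ω} (α : MulAut P) : GflB θ Nb P α ↔ GflHomInd θ Nb P (gflHom α) :=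
  Iff.rfl

theorem gfl_image_mem (θ : S →* Ω') {P : Subgroup Ω} (hP : P ≤ S) (x : P) :
    θ ⟨x, hP x.2⟩ ∈ imageAlong θ P :=
  (Fusion.mem_imageAlong θ P _).mpr ⟨x, x.2, hP x.2, rfl⟩

theorem gfl_image_le {P : Subgroup Ω} (hP : P ≤ preimageAlong θ T') : imageAlong θ P ≤ T' := by
  intro y hy
  obtain ⟨r, hr, hrS, rfl⟩ := (Fusion.mem_imageAlong θ P y).mp hy
  exact ((Fusion.mem_preimageAlong θ T' r).mp (hP hr)).2

theorem gfl_image_mono (θ : S →* Ω') {P Q : Subgroup Ω} (hPQ : P ≤ Q) :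
    imageAlong θ P ≤ imageAlong θ Q := by
  intro y hy
  obtain ⟨r, hr, hrS, rfl⟩ := (Fusion.mem_imageAlong θ P y).mp hy
  exact (Fusion.mem_imageAlong θ Q _).mpr ⟨r, hPQ hr, hrS, rfl⟩

theorem gflHomInd_conj {P : Subgroup Ω} (hP : P ≤ preimageAlong θ T') {g : Ω}
    (hg : g ∈ preimageAlong θ T') : GflHomInd θ Nb P (conjHom P g) := by
  have hTS := gfl_T_le θ T'
  obtain ⟨hgS, hg'⟩ := (Fusion.mem_preimageAlong θ T' g).mp hg
  refine ⟨conjHom (imageAlong θ P) (θ ⟨g, hgS⟩), Nb.conj_mem (gfl_image_le hP) hg', hP.trans hTS,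
    fun x => S.mul_mem (S.mul_mem hgS (hTS (hP x.2))) (S.inv_mem hgS),
    fun x => gfl_image_mem θ (hP.trans hTS) x, fun x => ?_⟩
  show θ ⟨g, hgS⟩ * θ ⟨x, _⟩ * (θ ⟨g, hgS⟩)⁻¹ = θ ⟨g * x * g⁻¹, _⟩
  rw [← map_inv, ← map_mul, ← map_mul]
  rfl

theorem gflHomInd_comp {P Q : Subgroup Ω} {φ : P →* Ω} {ψ : Q →* Ω} (hφ : GflHomInd θ Nb P φ)
    (hψ : GflHomInd θ Nb Q ψ) (hPQ : ∀ x : P, φ x ∈ Q) :
    GflHomInd θ Nb P (ψ.comp (φ.codRestrict Q hPQ)) := by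
  obtain ⟨φ', hφ', hP, hφS, hPP', e1⟩ := hφ
  obtain ⟨ψ', hψ', hQ, hψS, hQQ', e2⟩ := hψ
  have h' : ∀ y : imageAlong θ P, φ' y ∈ imageAlong θ Q := by
    rintro ⟨y, hy⟩
    obtain ⟨r, hr, hrS, rfl⟩ := (Fusion.mem_imageAlong θ P y).mp hy
    have := e1 ⟨r, hr⟩
    rw [app_congr φ' hy (hPP' ⟨r, hr⟩) rfl, this]
    exact (Fusion.mem_imageAlong θ Q _).mpr ⟨φ ⟨r, hr⟩, hPQ _, hφS _, rfl⟩
  refine ⟨ψ'.comp (φ'.codRestrict _ h'), Nb.comp_mem hφ' hψ' h', hP, fun x => hψS _, hPP',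
    fun x => ?_⟩
  show ψ' ⟨φ' ⟨θ ⟨x, hP x.2⟩, hPP' x⟩, _⟩ = θ ⟨ψ ⟨φ x, hPQ x⟩, _⟩
  rw [← e2 ⟨φ x, hPQ x⟩]
  exact app_congr ψ' _ _ (e1 x)

theorem gflHomInd_inv {P : Subgroup Ω} {φ : P →* Ω} (hφ : GflHomInd θ Nb P φ) {Q : Subgroup Ω}
    (hr : φ.range = Q) {ψ : Q →* Ω} (hinv : ∀ x : P, ∀ h : φ x ∈ Q, ψ ⟨φ x, h⟩ = (x : Ω)) :
    GflHomInd θ Nb Q ψ := by
  obtain ⟨φ', hφ', hP, hφS, hPP', e1⟩ := hφ
  subst hr
  have hQS : φ.range ≤ S := by
    rintro _ ⟨x, rfl⟩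
    exact hφS x
  have hr' : φ'.range = imageAlong θ φ.range := by
    ext y
    constructor
    · rintro ⟨⟨z, hz⟩, rfl⟩
      obtain ⟨r, hr, hrS, rfl⟩ := (Fusion.mem_imageAlong θ P z).mp hz
      rw [app_congr φ' hz (hPP' ⟨r, hr⟩) rfl, e1 ⟨r, hr⟩]
      exact (Fusion.mem_imageAlong θ _ _).mpr ⟨φ ⟨r, hr⟩, ⟨_, rfl⟩, hφS _, rfl⟩
    · intro hy
      obtain ⟨_, ⟨x, rfl⟩, hrS, rfl⟩ := (Fusion.mem_imageAlong θ _ y).mp hy
      exact ⟨⟨θ ⟨x, hP x.2⟩, hPP' x⟩, e1 x⟩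
  obtain ⟨ψ', hψ', hinv', -⟩ := Fusion.exists_inv Nb hφ' hr'
  have hψS : ∀ y : φ.range, ψ y ∈ S := by
    rintro ⟨_, x, rfl⟩
    rw [hinv x ⟨x, rfl⟩]
    exact hP x.2
  refine ⟨ψ', hψ', hQS, hψS, fun y => gfl_image_mem θ hQS y, ?_⟩
  rintro ⟨_, x, rfl⟩
  have h1 : φ' ⟨θ ⟨x, hP x.2⟩, hPP' x⟩ ∈ imageAlong θ φ.range := by
    rw [e1 x]
    exact gfl_image_mem θ hQS ⟨φ x, ⟨x, rfl⟩⟩
  have h2 := hinv' ⟨θ ⟨x, hP x.2⟩, hPP' x⟩ h1
  have h3 : ψ' ⟨θ ⟨φ x, hQS ⟨x, rfl⟩⟩, gfl_image_mem θ hQS ⟨φ x, ⟨x, rfl⟩⟩⟩ =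
      ψ' ⟨φ' ⟨θ ⟨x, hP x.2⟩, hPP' x⟩, h1⟩ := app_congr ψ' _ _ (e1 x).symm
  rw [h3, h2]
  show θ ⟨x, hP x.2⟩ = θ ⟨ψ ⟨φ x, ⟨x, rfl⟩⟩, _⟩
  congr 1
  exact Subtype.ext (hinv x ⟨x, rfl⟩).symm

theorem gflHomInd_restrict {P R : Subgroup Ω} {φ : P →* Ω} (hφ : GflHomInd θ Nb P φ) (hRP : R ≤ P) :
    GflHomInd θ Nb R (φ.comp (Subgroup.inclusion hRP)) := by
  obtain ⟨φ', hφ', hP, hφS, hPP', e1⟩ := hφ
  refine ⟨φ'.comp (Subgroup.inclusion (gfl_image_mono θ hRP)),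
    Fusion.restrict_mem Nb hφ' (gfl_image_mono θ hRP), hRP.trans hP, fun x => hφS _,
    fun x => gfl_image_mem θ (hRP.trans hP) x, fun x => ?_⟩
  exact e1 (Subgroup.inclusion hRP x)

theorem gflHomInd_subtype {P : Subgroup Ω} (hP : P ≤ preimageAlong θ T') :
    GflHomInd θ Nb P P.subtype :=
  ⟨(imageAlong θ P).subtype, Fusion.subtype_mem Nb (gfl_image_le hP), hP.trans (gfl_T_le θ T'),
    fun x => gfl_T_le θ T' (hP x.2), fun x => gfl_image_mem θ (hP.trans (gfl_T_le θ T')) x,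
    fun _ => rfl⟩

/-- The naive preimage of `Nb`: the maps of `M` between subgroups of `T` inducing maps of `Nb`. -/
def gflX (M : FusionSystem S) (θ : S →* Ω') (Nb : FusionSystem T') :
    FusionSystem (preimageAlong θ T') where
  Hom P := {φ | φ ∈ M.Hom P ∧ P ≤ preimageAlong θ T' ∧ (∀ x : P, φ x ∈ preimageAlong θ T') ∧
    GflHomInd θ Nb P φ}
  le_of_mem h := ⟨h.2.1, h.2.2.1⟩
  injective_of_mem h := M.injective_of_mem h.1
  conj_mem := by
    intro P g hP hg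
    have hTS := gfl_T_le θ T'
    exact ⟨M.conj_mem (hP.trans hTS) (hTS hg), hP,
      fun x => Subgroup.mul_mem _ (Subgroup.mul_mem _ hg (hP x.2)) (Subgroup.inv_mem _ hg),
      gflHomInd_conj hP hg⟩
  comp_mem := by
    intro P Q φ ψ hφ hψ h
    exact ⟨M.comp_mem hφ.1 hψ.1 h, hφ.2.1, fun x => hψ.2.2.1 _, gflHomInd_comp hφ.2.2.2 hψ.2.2.2 h⟩
  inv_mem := by
    intro P φ hφ
    obtain ⟨ψ, hψ, hinv⟩ := M.inv_mem hφ.1
    refine ⟨ψ, ⟨hψ, ?_, ?_, gflHomInd_inv hφ.2.2.2 rfl (fun x _ => hinv x)⟩, hinv⟩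
    · rintro _ ⟨x, rfl⟩
      exact hφ.2.2.1 x
    · rintro ⟨_, x, rfl⟩
      rw [hinv x]
      exact hφ.2.1 x.2

theorem gflX_le (M : FusionSystem S) (θ : S →* Ω') (Nb : FusionSystem T') :
    (gflX M θ Nb).IsSubsystemOf M := fun _ _ h => h.1

/-- the range of an induced map is the image of the range -/
theorem gfl_range_induced {P : Subgroup Ω} {φ : P →* Ω} {φ' : imageAlong θ P →* Ω'}
    (hind : InducedAlong θ φ φ') : φ'.range = imageAlong θ φ.range := by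
  obtain ⟨hP, hφS, hPP', e1⟩ := hind
  ext y
  constructor
  · rintro ⟨⟨z, hz⟩, rfl⟩
    obtain ⟨r, hr, hrS, rfl⟩ := (Fusion.mem_imageAlong θ P z).mp hz
    rw [app_congr φ' hz (hPP' ⟨r, hr⟩) rfl, e1 ⟨r, hr⟩]
    exact (Fusion.mem_imageAlong θ _ _).mpr ⟨φ ⟨r, hr⟩, ⟨_, rfl⟩, hφS _, rfl⟩
  · intro hy
    obtain ⟨_, ⟨x, rfl⟩, hrS, rfl⟩ := (Fusion.mem_imageAlong θ _ y).mp hy
    exact ⟨⟨θ ⟨x, hP x.2⟩, hPP' x⟩, e1 x⟩

/-- Centricity in an invariant subsystem is preserved by the maps of the big system. -/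
theorem gfl_centric_conj {Ω₀ : Type*} [Group Ω₀] {S₀ T₀ : Subgroup Ω₀} {F : FusionSystem S₀}
    {E : FusionSystem T₀} (hinv : E.IsInvariantIn F) {P : Subgroup Ω₀} (hP : E.IsCentric P)
    {φ : P →* Ω₀} (hφ : φ ∈ F.Hom P) : E.IsCentric φ.range := by
  have hPT : P ≤ T₀ := hP.1
  obtain ⟨α, hα, φ₀, hφ₀, hv⟩ := hinv.2.2.2 P hPT φ hφ
  have hR₀ : E.IsCentric φ₀.range := Fusion.isCentric_of_isConj E hP ⟨φ₀, hφ₀, rfl⟩
  have hmap := Cfsg.Agent.OLV.olv_isCentric_map hinv α hα hR₀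
  have heq : (φ₀.range.subgroupOf T₀).map (T₀.subtype.comp α.toMonoidHom) = φ.range := by
    ext y
    constructor
    · rintro ⟨t, ht, rfl⟩
      obtain ⟨x, hx⟩ := Subgroup.mem_subgroupOf.mp ht
      have h1 := hv x ((E.le_of_mem hφ₀).2 x)
      have e1 : (⟨φ₀ x, (E.le_of_mem hφ₀).2 x⟩ : T₀) = t := Subtype.ext hx
      rw [e1] at h1
      exact ⟨x, h1⟩
    · rintro ⟨x, rfl⟩
      have h1 := hv x ((E.le_of_mem hφ₀).2 _)
      refine ⟨⟨φ₀ x, (E.le_of_mem hφ₀).2 _⟩, ?_, h1.symm⟩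
      exact Subgroup.mem_subgroupOf.mpr ⟨x, rfl⟩
  rw [← heq]
  exact hmap

section setup

variable [Finite S] [Fact p.Prime] (h : GflSetup p M Z θ Mb Nb)

include h

theorem GflSetup.ZS : Z ≤ S := h.fac.1

theorem GflSetup.ker (s : S) : θ s = 1 ↔ (s : Ω) ∈ Z := h.fac.2.1 s

theorem GflSetup.central : M.IsCentral Z :=
  ⟨h.ZS, fun _ _ hφ => Cfsg.Agent.CPS.cps_maps_ext_central M h.cen hφ⟩

theorem GflSetup.Zsc : M.StronglyClosed Z :=
  Fusion.stronglyClosed_of_isCentral p h.hS M h.sat h.central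

theorem GflSetup.surj : M.IsSurjectiveMorphism Mb θ :=
  Fusion.isSurjectiveMorphism_of_isFactorSystem p h.hS M h.sat Z h.Zsc θ Mb h.fac

theorem GflSetup.inv : Nb.IsInvariantIn Mb := h.nrm.1.2.2

theorem GflSetup.T'sc : Mb.StronglyClosed T' := h.inv.2.1

theorem GflSetup.si : SI Mb Nb := SI_of_invariant Mb Nb h.inv

theorem gfl_Z_le_T : Z ≤ preimageAlong θ T' := by
  intro z hz
  rw [Fusion.mem_preimageAlong]
  refine ⟨h.ZS hz, ?_⟩
  rw [(h.ker ⟨z, h.ZS hz⟩).mpr hz]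
  exact Subgroup.one_mem _

/-- maps of `M` fix `Z` pointwise -/
theorem gfl_fix_Z {P : Subgroup Ω} {φ : P →* Ω} (hφ : φ ∈ M.Hom P) (x : P) (hx : (x : Ω) ∈ Z) :
    φ x = x :=
  Cfsg.Agent.CPS.cps_fix_of_le_center M h.cen hφ x hx

theorem gfl_stronglyClosed : M.StronglyClosed (preimageAlong θ T') := by
  refine ⟨gfl_T_le θ T', fun R hR φ hφ x => ?_⟩
  obtain ⟨φ', hφ', hPS, hφS, hP', hind⟩ := h.surj.1.2 R φ hφ
  rw [Fusion.mem_preimageAlong]
  refine ⟨hφS x, ?_⟩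
  rw [← hind x]
  have hle : imageAlong θ R ≤ T' := by
    intro y hy
    obtain ⟨r, hr, hrS, rfl⟩ := (Fusion.mem_imageAlong θ R y).mp hy
    exact ((Fusion.mem_preimageAlong θ T' r).mp (hR hr)).2
  exact h.T'sc.2 _ hle φ' hφ' _

theorem GflSetup.Nbsat : Nb.IsSaturated p := h.nrm.1.1

theorem GflSetup.Mbsat : Mb.IsSaturated p := h.nrm.1.2.1

theorem GflSetup.T'le : T' ≤ S' := h.T'sc.1

/-- transport of `B` along an isomorphism of `M` (strong invariance of `Nb` in `Mb`) -/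
theorem gflB_congr {P Q : Subgroup Ω} (hP : P ≤ preimageAlong θ T') {φ : P →* Ω}
    (hφ : φ ∈ M.Hom P) (hr : φ.range = Q) {α : MulAut P} (hα : GflB θ Nb P α) :
    GflB θ Nb Q (MulAut.congr (Fusion.equivOfRange φ (M.injective_of_mem hφ) hr) α) := by
  subst hr
  set e := Fusion.equivOfRange φ (M.injective_of_mem hφ) rfl with he
  obtain ⟨α', hα', hPS, hαS, hPP', e1⟩ := hα
  obtain ⟨φ', hφ', hPS2, hφS, hPP2, e2⟩ := h.surj.1.2 P φ hφ
  have hPT' : imageAlong θ P ≤ T' := gfl_image_le hP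
  have hα'P : ∀ y : imageAlong θ P, α' y ∈ imageAlong θ P := by
    rintro ⟨y, hy⟩
    obtain ⟨r, hr, hrS, rfl⟩ := (Fusion.mem_imageAlong θ P y).mp hy
    rw [app_congr α' hy (hPP' ⟨r, hr⟩) rfl, e1 ⟨r, hr⟩]
    exact gfl_image_mem θ hPS (α ⟨r, hr⟩)
  obtain ⟨χ, hχ, hχv⟩ := h.si (imageAlong θ P) (imageAlong θ P) le_rfl hPT' α' hα' hα'P φ' hφ'
  have hQS : φ.range ≤ S := Fusion.range_le M hφ
  have heq : ((imageAlong θ P).subgroupOf (imageAlong θ P)).map φ' = imageAlong θ φ.range := by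
    ext y
    constructor
    · rintro ⟨⟨z, hz⟩, -, rfl⟩
      obtain ⟨r, hr, hrS, rfl⟩ := (Fusion.mem_imageAlong θ P z).mp hz
      rw [app_congr φ' hz (hPP2 ⟨r, hr⟩) rfl, e2 ⟨r, hr⟩]
      exact (Fusion.mem_imageAlong θ _ _).mpr ⟨φ ⟨r, hr⟩, ⟨_, rfl⟩, hφS _, rfl⟩
    · intro hy
      obtain ⟨_, ⟨x, rfl⟩, hxS, rfl⟩ := (Fusion.mem_imageAlong θ _ y).mp hy
      refine ⟨⟨θ ⟨x, hPS2 x.2⟩, hPP2 x⟩, ?_, e2 x⟩
      rw [SetLike.mem_coe, Subgroup.mem_subgroupOf]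
      exact hPP2 x
  obtain ⟨χ', hχ', hχ'v⟩ := Fusion.exists_hom_of_eq Nb heq hχ
  refine ⟨χ', hχ', hQS, fun y => hQS (SetLike.coe_mem _), fun y => gfl_image_mem θ hQS y, ?_⟩
  intro y
  obtain ⟨r, rfl⟩ := e.surjective y
  have hmem : θ ⟨φ r, hφS r⟩ ∈ ((imageAlong θ P).subgroupOf (imageAlong θ P)).map φ' := by
    rw [heq]
    exact gfl_image_mem θ hQS ⟨φ r, ⟨r, rfl⟩⟩
  have s1 : χ' ⟨θ ⟨((e r : φ.range) : Ω), hQS (e r).2⟩, gfl_image_mem θ hQS (e r)⟩ =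
      χ ⟨θ ⟨φ r, hφS r⟩, hmem⟩ := hχ'v _ hmem _
  have hmem2 : φ' (Subgroup.inclusion le_rfl (⟨θ ⟨r, hPS2 r.2⟩, hPP2 r⟩ : imageAlong θ P)) ∈
      ((imageAlong θ P).subgroupOf (imageAlong θ P)).map φ' := by
    have : φ' (Subgroup.inclusion le_rfl (⟨θ ⟨r, hPS2 r.2⟩, hPP2 r⟩ : imageAlong θ P)) =
        θ ⟨φ r, hφS r⟩ := e2 r
    rw [this]
    exact hmem
  have s2 := hχv ⟨θ ⟨r, hPS2 r.2⟩, hPP2 r⟩ hmem2
  have s3 : χ ⟨θ ⟨φ r, hφS r⟩, hmem⟩ =
      χ ⟨φ' (Subgroup.inclusion le_rfl (⟨θ ⟨r, hPS2 r.2⟩, hPP2 r⟩ : imageAlong θ P)), hmem2⟩ :=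
    app_congr χ _ _ (e2 r).symm
  rw [s1, s3, s2]
  have s4 : (⟨α' ⟨θ ⟨r, hPS2 r.2⟩, hPP2 r⟩, hα'P _⟩ : imageAlong θ P) =
      ⟨θ ⟨((α r : P) : Ω), hPS2 (α r).2⟩, hPP2 (α r)⟩ := Subtype.ext (e1 r)
  rw [s4, e2 (α r)]
  congr 1
  apply Subtype.ext
  show φ (α r) = ((e (α (e.symm (e r))) : φ.range) : Ω)
  rw [MulEquiv.symm_apply_apply]
  rfl

/-- `A(P) ≤ Aut_M(P)` -/
theorem gfl_A_le {P : Subgroup Ω} (hP : P ≤ preimageAlong θ T') :
    gflA p M θ Nb P ≤ M.autGroup P := by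
  unfold gflA
  rw [Subgroup.closure_le]
  rintro α (⟨hαM, -, -⟩ | ⟨φ, hφ, t, ht, hαt⟩)
  · exact hαM
  · exact gfl_aut_of_conj M hφ (gfl_T_le θ T' ht) α hαt

/-- `Aut_T(P) ≤ A(P)` for every `P ≤ T` -/
theorem gfl_autT_le_A {P : Subgroup Ω} (hP : P ≤ preimageAlong θ T') :
    autInducedBy (preimageAlong θ T') P ≤ gflA p M θ Nb P := by
  unfold autInducedBy gflA
  apply Subgroup.closure_mono
  rintro α ⟨g, hg, hα⟩
  right
  exact ⟨P.subtype, Fusion.subtype_mem M (hP.trans (gfl_T_le θ T')), g, hg, hα⟩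

/-- transport of `A` along an isomorphism of `M` -/
theorem gfl_A_congr {P Q : Subgroup Ω} (hP : P ≤ preimageAlong θ T') {φ : P →* Ω}
    (hφ : φ ∈ M.Hom P) (hr : φ.range = Q) {α : MulAut P} (hα : α ∈ gflA p M θ Nb P) :
    MulAut.congr (Fusion.equivOfRange φ (M.injective_of_mem hφ) hr) α ∈ gflA p M θ Nb Q := by
  set e := Fusion.equivOfRange φ (M.injective_of_mem hφ) hr with he
  have hle : (gflA p M θ Nb P).map (MulAut.congr e).toMonoidHom ≤ gflA p M θ Nb Q := by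
    unfold gflA
    rw [MonoidHom.map_closure, Subgroup.closure_le]
    rintro _ ⟨α, (⟨hαM, hαB, hαo⟩ | ⟨φ₀, hφ₀, t, ht, hαt⟩), rfl⟩
    · apply Subgroup.subset_closure
      left
      refine ⟨Fusion.congr_mem_autGroup M hφ hr α hαM, gflB_congr h hP hφ hr hαB, ?_⟩
      have : orderOf ((MulAut.congr e) α) = orderOf α := MulEquiv.orderOf_eq _ _
      show (orderOf ((MulAut.congr e) α)).Coprime p
      rw [this]
      exact hαo
    · apply Subgroup.subset_closure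
      right
      have h1 := Fusion.equivOfRange_symm_mem M hφ hr
      have h2 := M.comp_mem h1 hφ₀ (fun y => (e.symm y).2)
      refine ⟨_, h2, t, ht, fun y => ?_⟩
      have h3 := hαt (e.symm y)
      show φ₀ ⟨((e.symm (e (α (e.symm y))) : P) : Ω), _⟩ = t * φ₀ ⟨((e.symm y : P) : Ω), _⟩ * t⁻¹
      rw [← h3]
      have h4 : e.symm (e (α (e.symm y))) = α (e.symm y) := MulEquiv.symm_apply_apply e _
      exact congrArg φ₀ (Subtype.ext (congrArg Subtype.val h4))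
  exact hle ⟨α, hα, rfl⟩

/-- `M`-invariance of the family `A`: transport along any map of `M`. -/
theorem gfl_A_conj {P : Subgroup Ω} (hP : P ≤ preimageAlong θ T') {φ : P →* Ω} (hφ : φ ∈ M.Hom P)
    {α : MulAut P} (hα : α ∈ gflA p M θ Nb P) (α' : MulAut φ.range)
    (hαα' : ∀ x : P, ((α' ⟨φ x, ⟨x, rfl⟩⟩ : φ.range) : Ω) = φ (α x)) :
    α' ∈ gflA p M θ Nb φ.range := by
  have h1 := gfl_A_congr h hP hφ rfl hα
  set e := Fusion.equivOfRange φ (M.injective_of_mem hφ) rfl with he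
  have : α' = MulAut.congr e α := by
    apply MulEquiv.ext
    intro y
    obtain ⟨r, rfl⟩ := e.surjective y
    apply Subtype.ext
    show ((α' ⟨φ r, ⟨r, rfl⟩⟩ : φ.range) : Ω) = ((e (α (e.symm (e r))) : φ.range) : Ω)
    rw [MulEquiv.symm_apply_apply, hαα' r]
    rfl
  rw [this]
  exact h1

/-- existence form of `gfl_A_conj` -/
theorem gfl_A_conj_ex {P : Subgroup Ω} (hP : P ≤ preimageAlong θ T') {φ : P →* Ω}
    (hφ : φ ∈ M.Hom P) {α : MulAut P} (hα : α ∈ gflA p M θ Nb P) :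
    ∃ α' ∈ gflA p M θ Nb φ.range, ∀ x : P, ((α' ⟨φ x, ⟨x, rfl⟩⟩ : φ.range) : Ω) = φ (α x) := by
  refine ⟨_, gfl_A_congr h hP hφ rfl hα, fun x => ?_⟩
  set e := Fusion.equivOfRange φ (M.injective_of_mem hφ) rfl with he
  show ((e (α (e.symm (e x))) : φ.range) : Ω) = φ (α x)
  rw [MulEquiv.symm_apply_apply]
  rfl

/-- `A(P)` is normal in `Aut_M(P)`. -/
theorem gfl_A_normal {P : Subgroup Ω} (hP : P ≤ preimageAlong θ T') {β α : MulAut P}
    (hβ : β ∈ M.autGroup P) (hα : α ∈ gflA p M θ Nb P) : β * α * β⁻¹ ∈ gflA p M θ Nb P := by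
  have hPS : P ≤ S := hP.trans (gfl_T_le θ T')
  have hβM := (Fusion.mem_autGroup_iff M hPS β).mp hβ
  have h1 := gfl_A_congr h hP hβM (range_aut P β) hα
  set e := Fusion.equivOfRange _ (M.injective_of_mem hβM) (range_aut P β) with he
  have : β * α * β⁻¹ = MulAut.congr e α := by
    apply MulEquiv.ext
    intro y
    have hβe : ∀ z : P, e z = β z := fun z => Subtype.ext rfl
    obtain ⟨r, rfl⟩ := e.surjective y
    show β (α (β⁻¹ (e r))) = e (α (e.symm (e r)))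
    rw [MulEquiv.symm_apply_apply, hβe, hβe]
    congr 2
    exact (MulAut.inv_apply_self _ β r)
  rw [this]
  exact h1

/-- `A(P) ≤ B(P)`: the elements of `A(P)` induce maps of `Nb`. -/
theorem gfl_A_le_X {P : Subgroup Ω} (hP : P ≤ preimageAlong θ T') :
    gflA p M θ Nb P ≤ (gflX M θ Nb).autGroup P := by
  have hPS : P ≤ S := hP.trans (gfl_T_le θ T')
  unfold gflA
  rw [Subgroup.closure_le]
  rintro α (⟨hαM, hαB, -⟩ | ⟨φ, hφ, t, ht, hαt⟩)
  · rw [SetLike.mem_coe, Fusion.mem_autGroup_iff (gflX M θ Nb) hP]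
    exact ⟨(Fusion.mem_autGroup_iff M hPS α).mp hαM, hP, fun x => hP (α x).2, hαB⟩
  · -- `α = e⁻¹ c_t e` with `e = φ`
    have hsc := gfl_stronglyClosed h
    have hQT : φ.range ≤ preimageAlong θ T' := by
      rintro _ ⟨x, rfl⟩
      exact hsc.2 P hP φ hφ x
    have hαM : α ∈ M.autGroup P := gfl_aut_of_conj M hφ (gfl_T_le θ T' ht) α hαt
    rw [SetLike.mem_coe, Fusion.mem_autGroup_iff (gflX M θ Nb) hP]
    refine ⟨(Fusion.mem_autGroup_iff M hPS α).mp hαM, hP, fun x => hP (α x).2, ?_⟩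
    -- the inverse of `φ`
    obtain ⟨ψ, hψ, hinv, hψr⟩ := Fusion.exists_inv M hφ rfl
    -- conjugation by `t` on `φ.range`, as an automorphism
    have hct : ∀ y : φ.range, t * (y : Ω) * t⁻¹ ∈ φ.range := by
      rintro ⟨_, x, rfl⟩
      exact ⟨α x, hαt x⟩
    let c : MulAut φ.range := MulAut.congr (Fusion.equivOfRange φ (M.injective_of_mem hφ) rfl) α
    have hc : ∀ y : φ.range, ((c y : φ.range) : Ω) = t * (y : Ω) * t⁻¹ := by
      intro y
      obtain ⟨r, rfl⟩ := (Fusion.equivOfRange φ (M.injective_of_mem hφ) rfl).surjective y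
      show ((Fusion.equivOfRange φ (M.injective_of_mem hφ) rfl
        (α ((Fusion.equivOfRange φ (M.injective_of_mem hφ) rfl).symm
          (Fusion.equivOfRange φ (M.injective_of_mem hφ) rfl r))) : φ.range) : Ω) = _
      rw [MulEquiv.symm_apply_apply]
      exact hαt r
    have hcB : GflB θ Nb φ.range c := by
      have h0 : GflHomInd θ Nb φ.range (conjHom φ.range t) := gflHomInd_conj hQT ht
      have : gflHom c = conjHom φ.range t := by
        ext y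
        exact hc y
      show GflHomInd θ Nb φ.range (gflHom c)
      rw [this]
      exact h0
    have h2 := gflB_congr h hQT hψ hψr hcB
    have : MulAut.congr (Fusion.equivOfRange ψ (M.injective_of_mem hψ) hψr) c = α := by
      apply MulEquiv.ext
      intro x
      set e := Fusion.equivOfRange φ (M.injective_of_mem hφ) rfl with he
      set e' := Fusion.equivOfRange ψ (M.injective_of_mem hψ) hψr with he'
      have hee : ∀ z : P, e' (e z) = z := fun z => Subtype.ext (hinv z ⟨z, rfl⟩)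
      have hsym : ∀ z : P, e'.symm z = e z := by
        intro z
        rw [MulEquiv.symm_apply_eq, hee]
      show e' (e (α (e.symm (e'.symm x)))) = α x
      rw [hee, hsym, MulEquiv.symm_apply_apply]
    rw [this] at h2
    exact h2

theorem gfl_A_B {P : Subgroup Ω} (hP : P ≤ preimageAlong θ T') {α : MulAut P}
    (hα : α ∈ gflA p M θ Nb P) : GflB θ Nb P α :=
  ((Fusion.mem_autGroup_iff (gflX M θ Nb) hP α).mp (gfl_A_le_X h hP hα)).2.2.2

theorem GflSetup.range : θ.range = S' := h.fac.2.2.1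

theorem GflSetup.finS' : Finite S' := Fusion.finite_of_range θ h.range

theorem GflSetup.finT' : Finite T' := by
  haveI := h.finS'
  exact Finite.of_injective (Subgroup.inclusion h.T'le) (Subgroup.inclusion_injective _)

theorem gfl_image_T : imageAlong θ (preimageAlong θ T') = T' :=
  Fusion.imageAlong_preimageAlong θ h.range h.T'le

theorem gfl_pre_image {P : Subgroup Ω} (hZP : Z ≤ P) (hPS : P ≤ S) :
    preimageAlong θ (imageAlong θ P) = P := by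
  rw [Fusion.preimageAlong_imageAlong θ h.ZS h.ker hPS]
  exact sup_eq_left.mpr hZP

/-- the generators lie in `N` -/
theorem gfl_gen_le_N {R : Subgroup Ω} (hR : R ∈ gflH Z θ Nb) :
    gflA p M θ Nb R ≤ (gflN p M Z θ Nb).autGroup R := by
  intro α hα
  have hRT : R ≤ preimageAlong θ T' := hR.2.1
  have hRS : R ≤ S := hRT.trans (gfl_T_le θ T')
  rw [Fusion.mem_autGroup_iff (gflN p M Z θ Nb) hRT]
  refine ⟨(Fusion.mem_autGroup_iff M hRS α).mp (gfl_A_le h hRT hα), hRT, fun x => hRT (α x).2,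
    fun D hD => ?_⟩
  exact (Fusion.mem_autGroup_iff D hRT α).mp (hD R hR hα)

theorem gflN_le_X : gflN p M Z θ Nb ≤ gflX M θ Nb :=
  gflN_min p M Z θ Nb (gflX M θ Nb) (fun R hR => gfl_A_le_X h hR.2.1)

/-- `N` lies in the naive preimage: its maps induce maps of `Nb`. -/
theorem gfl_N_induced {P : Subgroup Ω} {φ : P →* Ω} (hφ : φ ∈ (gflN p M Z θ Nb).Hom P) :
    ∃ φ' ∈ Nb.Hom (imageAlong θ P), InducedAlong θ φ φ' :=
  (gflN_le_X h P hφ).2.2.2

/-- `H` is closed under `M`-conjugacy and under overgroups inside `T`. -/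
theorem gfl_H_conj {P : Subgroup Ω} (hP : P ∈ gflH Z θ Nb) {φ : P →* Ω} (hφ : φ ∈ M.Hom P) :
    φ.range ∈ gflH Z θ Nb := by
  obtain ⟨hZP, hPT, hPc⟩ := hP
  refine ⟨?_, ?_, ?_⟩
  · intro z hz
    exact ⟨⟨z, hZP hz⟩, gfl_fix_Z h hφ ⟨z, hZP hz⟩ hz⟩
  · rintro _ ⟨x, rfl⟩
    exact (gfl_stronglyClosed h).2 P hPT φ hφ x
  · obtain ⟨φ', hφ', hind⟩ := h.surj.1.2 P φ hφ
    have := gfl_centric_conj h.inv hPc hφ'
    rwa [gfl_range_induced hind] at this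

theorem gfl_H_mono {P Q : Subgroup Ω} (hP : P ∈ gflH Z θ Nb) (hPQ : P ≤ Q)
    (hQ : Q ≤ preimageAlong θ T') : Q ∈ gflH Z θ Nb :=
  ⟨hP.1.trans hPQ, hQ,
    Fusion.isCentric_of_le Nb (gfl_image_mono θ hPQ) (gfl_image_le hQ) hP.2.2⟩

theorem gfl_T_mem_H : preimageAlong θ T' ∈ gflH Z θ Nb := by
  refine ⟨gfl_Z_le_T h, le_rfl, ?_⟩
  rw [gfl_image_T h]
  haveI := h.finT'
  exact Cfsg.Agent.OLV.olv_isCentric_top Nb

/-- elements of `Z` commute with the elements of `S` -/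
theorem gfl_Z_comm {z s : Ω} (hz : z ∈ Z) (hs : s ∈ S) : s * z = z * s := by
  have h1 := gfl_fix_Z h (M.conj_mem h.ZS hs) ⟨z, hz⟩ hz
  have h2 : s * z * s⁻¹ = z := h1
  calc s * z = s * z * s⁻¹ * s := by group
    _ = z * s := by rw [h2]

/-- an element of `Aut_M(P)` fixes the elements of `Z` lying in `P` -/
theorem gfl_aut_fix_Z {P : Subgroup Ω} (hPS : P ≤ S) {α : MulAut P} (hα : α ∈ M.autGroup P)
    (x : P) (hx : (x : Ω) ∈ Z) : α x = x :=
  Subtype.ext (gfl_fix_Z h ((Fusion.mem_autGroup_iff M hPS α).mp hα) x hx)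

omit [Finite S] [Fact p.Prime] h in
theorem gflK_one (P : Subgroup Ω) : GflK Z P 1 := by
  intro x
  show (x : Ω)⁻¹ * (x : Ω) ∈ Z
  rw [inv_mul_cancel]
  exact Z.one_mem

omit [Finite S] [Fact p.Prime] h in
theorem gflK_mul {P : Subgroup Ω} {α β : MulAut P} (hα : GflK Z P α) (hβ : GflK Z P β) :
    GflK Z P (α * β) := by
  intro x
  have h1 := hβ x
  have h2 := hα (β x)
  have : (x : Ω)⁻¹ * (((α * β) x : P) : Ω) =
      ((x : Ω)⁻¹ * ((β x : P) : Ω)) * (((β x : P) : Ω)⁻¹ * ((α (β x) : P) : Ω)) := by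
    show (x : Ω)⁻¹ * ((α (β x) : P) : Ω) = _
    group
  rw [this]
  exact Z.mul_mem h1 h2

omit [Finite S] [Fact p.Prime] h in
theorem gflK_inv {P : Subgroup Ω} {α : MulAut P} (hα : GflK Z P α) : GflK Z P α⁻¹ := by
  intro x
  have h1 := hα (α⁻¹ x)
  rw [MulAut.apply_inv_self] at h1
  have : (x : Ω)⁻¹ * ((α⁻¹ x : P) : Ω) = (((α⁻¹ x : P) : Ω)⁻¹ * (x : Ω))⁻¹ := by group
  rw [this]
  exact Z.inv_mem h1

/-- conjugation by `Aut_M(P)` preserves `K_P` -/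
theorem gflK_conj {P : Subgroup Ω} (hZP : Z ≤ P) (hPS : P ≤ S) {α β : MulAut P}
    (hβ : β ∈ M.autGroup P) (hα : GflK Z P α) : GflK Z P (β * α * β⁻¹) := by
  intro x
  set y := β⁻¹ x with hy
  have hx : x = β y := by rw [hy, MulAut.apply_inv_self]
  have h1 := hα y
  set z : P := ⟨(y : Ω)⁻¹ * ((α y : P) : Ω), hZP h1⟩ with hz
  have h2 : β z = z := gfl_aut_fix_Z h hPS hβ z h1
  have h3 : α y = y * z := by
    apply Subtype.ext
    show ((α y : P) : Ω) = (y : Ω) * ((y : Ω)⁻¹ * ((α y : P) : Ω))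
    group
  have h4 : (β * α * β⁻¹) x = x * z := by
    show β (α (β⁻¹ x)) = x * z
    rw [← hy, h3, map_mul, h2, hx]
  rw [h4]
  show (x : Ω)⁻¹ * ((x : Ω) * (z : Ω)) ∈ Z
  rw [inv_mul_cancel_left]
  exact h1

/-- elements of `Aut_M(P)` trivial mod `Z` commute with each other -/
theorem gfl_K_comm {P : Subgroup Ω} (hZP : Z ≤ P) {α β : MulAut P} (hα : α ∈ M.autGroup P)
    (hβ : β ∈ M.autGroup P) (hαK : GflK Z P α) (hβK : GflK Z P β) : α * β = β * α := by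
  by_cases hPS : P ≤ S
  · apply MulEquiv.ext
    intro x
    have ha := hαK x
    have hb := hβK x
    set za : P := ⟨(x : Ω)⁻¹ * ((α x : P) : Ω), hZP ha⟩ with hza
    set zb : P := ⟨(x : Ω)⁻¹ * ((β x : P) : Ω), hZP hb⟩ with hzb
    have h1 : α x = x * za := by
      apply Subtype.ext
      show ((α x : P) : Ω) = (x : Ω) * ((x : Ω)⁻¹ * ((α x : P) : Ω))
      group
    have h2 : β x = x * zb := by
      apply Subtype.ext
      show ((β x : P) : Ω) = (x : Ω) * ((x : Ω)⁻¹ * ((β x : P) : Ω))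
      group
    have h3 : α zb = zb := gfl_aut_fix_Z h hPS hα zb hb
    have h4 : β za = za := gfl_aut_fix_Z h hPS hβ za ha
    show α (β x) = β (α x)
    rw [h1, h2, map_mul, map_mul, h1, h2, h3, h4, mul_assoc, mul_assoc]
    congr 1
    apply Subtype.ext
    exact gfl_Z_comm h hb (hPS za.2)
  · -- `Aut_M(P)` is trivial when `P` is not inside `S`
    have htriv : ∀ γ ∈ M.autGroup P, γ = 1 := by
      intro γ hγ
      have hbot : M.autGroup P = ⊥ := by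
        unfold FusionSystem.autGroup
        rw [Subgroup.closure_eq_bot_iff]
        intro δ hδ
        exact absurd (M.le_of_mem hδ).1 hPS
      rw [hbot] at hγ
      exact Subgroup.mem_bot.mp hγ
    rw [htriv α hα, htriv β hβ]

/-- the powers of an automorphism trivial mod `Z` -/
theorem gflK_pow {P : Subgroup Ω} (hZP : Z ≤ P) (hPS : P ≤ S) {α : MulAut P}
    (hα : α ∈ M.autGroup P) (hαK : GflK Z P α) (x : P) (n : ℕ) :
    (((α ^ n) x : P) : Ω) = (x : Ω) * ((x : Ω)⁻¹ * ((α x : P) : Ω)) ^ n := by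
  have h1 := hαK x
  set z : P := ⟨(x : Ω)⁻¹ * ((α x : P) : Ω), hZP h1⟩ with hz
  have h2 : α z = z := gfl_aut_fix_Z h hPS hα z h1
  have h3 : α x = x * z := by
    apply Subtype.ext
    show ((α x : P) : Ω) = (x : Ω) * ((x : Ω)⁻¹ * ((α x : P) : Ω))
    group
  have key : ∀ n : ℕ, (α ^ n) x = x * z ^ n := by
    intro n
    induction n with
    | zero => simp
    | succ n ih =>
      rw [pow_succ', MulAut.mul_apply, ih, map_mul, map_pow, h2, h3, mul_assoc, ← pow_succ']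
  rw [key n]
  rfl

/-- at a fully `M`-normalized `P ⊇ Z`, the automorphisms trivial mod `Z` are induced by `S` -/
theorem gfl_K_le_autS {P : Subgroup Ω} (hZP : Z ≤ P) (hfn : M.IsFullyNormalized P) {α : MulAut P}
    (hα : α ∈ M.autGroup P) (hαK : GflK Z P α) : α ∈ autInducedBy S P := by
  have hPS : P ≤ S := hfn.1
  obtain ⟨-, -, R, hR⟩ :=
    Fusion.fullyCentralized_fullyAutomized_of_fullyNormalized p h.hS M h.sat hfn
  let K : Subgroup (M.autGroup P) :=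
    { carrier := {a | GflK Z P a.1}
      one_mem' := gflK_one P
      mul_mem' := fun ha hb => gflK_mul ha hb
      inv_mem' := fun ha => gflK_inv ha }
  haveI : K.Normal := ⟨fun a ha b => gflK_conj h hZP hPS b.2 ha⟩
  have hZp : IsPGroup p Z := by
    have : IsPGroup p (Z.subgroupOf S) := h.hS.to_subgroup _
    exact (this.map (S.subtype)).to_le (by
      intro z hz
      exact ⟨⟨z, h.ZS hz⟩, hz, rfl⟩)
  haveI : Finite Z := Finite.of_injective (Subgroup.inclusion h.ZS) (Subgroup.inclusion_injective _)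
  obtain ⟨k, hk⟩ := IsPGroup.iff_card.mp hZp
  have hKp : IsPGroup p K := by
    rintro ⟨⟨a, ha⟩, haK⟩
    refine ⟨k, ?_⟩
    apply Subtype.ext
    apply Subtype.ext
    show a ^ p ^ k = 1
    apply MulEquiv.ext
    intro x
    apply Subtype.ext
    rw [gflK_pow h hZP hPS ha haK x (p ^ k)]
    have h1 : ((x : Ω)⁻¹ * ((a x : P) : Ω)) ^ p ^ k = 1 := by
      have := pow_card_eq_one' (G := Z) (x := ⟨_, haK x⟩)
      rw [hk] at this
      exact congrArg Subtype.val this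
    rw [h1, mul_one]
    rfl
  have hle := hKp.le_sylow_of_normal R
  have hmem : (⟨α, hα⟩ : M.autGroup P) ∈ (R : Subgroup (M.autGroup P)) := hle (show _ ∈ K from hαK)
  rw [hR] at hmem
  exact Subgroup.mem_subgroupOf.mp hmem

/-- `GflK` = inducing the identity downstairs -/
theorem gfl_K_iff {P : Subgroup Ω} (hPS : P ≤ S) {α : MulAut P} (hα : α ∈ M.autGroup P) :
    GflK Z P α ↔ InducedAlong θ (gflHom α) (imageAlong θ P).subtype := by
  constructor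
  · intro hK
    refine ⟨hPS, fun x => hPS (α x).2, fun x => gfl_image_mem θ hPS x, fun x => ?_⟩
    show θ ⟨x, hPS x.2⟩ = θ ⟨((α x : P) : Ω), hPS (α x).2⟩
    have h1 := (h.ker (⟨x, hPS x.2⟩⁻¹ * ⟨α x, hPS (α x).2⟩)).mpr (hK x)
    rw [map_mul, map_inv, inv_mul_eq_one] at h1
    exact h1
  · rintro ⟨hP, hαS, hPP', e1⟩ x
    have h1 : θ ⟨x, hP x.2⟩ = θ ⟨((α x : P) : Ω), hαS x⟩ := e1 x
    have h2 : θ (⟨x, hP x.2⟩⁻¹ * ⟨((α x : P) : Ω), hαS x⟩) = 1 := by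
      rw [map_mul, map_inv, inv_mul_eq_one]
      exact h1
    exact (h.ker _).mp h2

end setup

end Cfsg.Agent.GFS
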