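import Mathlib
import Cfsg.Prelude.Def_FusionComponents
import Cfsg.Agent.Lead.FusionFactor
import Cfsg.Agent.Lead.FusionAut
import Cfsg.Agent.Lead.FusionSat2
import Cfsg.Agent.Lead.FusionInner
import Cfsg.Agent.Lead.FusionFocal
import Cfsg.Agent.Lead.FusionExtT
import Cfsg.Agent.Lead.FusionKNorm6
import Cfsg.Agent.S5096

set_option autoImplicit false

/-!
# N2, piece P3: the global coherence (G), abstract form

`N` is a fusion system over `T`, generated (inside some ambient system) by prescribed automizers `A R`, `R` in a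
family `H` closed under `N`-conjugacy and overgroups; `θ` maps `T` onto `T'` and carries `N` to a saturated system
`Nb` over `T'`; every member of `H` is a full preimage; the family `A` is invariant under the maps of `N`, compatible
with restriction (RC), contains the automorphisms induced by `T`, and maps onto the automizers of `Nb`.  Then
`Aut_N(P) ≤ A P` for every `P ∈ H` (`gfl_G_le`).  Plan: `notes/N2_helper8.md`, section 6.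
-/

namespace Cfsg.Agent.GFS

open Cfsg Cfsg.FusionSystem Cfsg.Agent.Lead

universe u v

variable {Ω : Type u} [Group Ω] {S T : Subgroup Ω} {Ω' : Type v} [Group Ω'] {T' : Subgroup Ω'}

/-- The hypotheses of the abstract coherence theorem. -/
structure GflGHyp (p : ℕ) (θ : S →* Ω') (N : FusionSystem T) (Nb : FusionSystem T')
    (H : Set (Subgroup Ω)) (A : (P : Subgroup Ω) → Subgroup (MulAut P)) : Prop where
  hTS : T ≤ S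
  pre_T : preimageAlong θ T' = T
  img_T : imageAlong θ T = T'
  satb : Nb.IsSaturated p
  H_le : ∀ P ∈ H, P ≤ T
  H_pre : ∀ P ∈ H, preimageAlong θ (imageAlong θ P) = P
  H_up : ∀ P ∈ H, ∀ Q : Subgroup Ω, P ≤ Q → Q ≤ T → Q ∈ H
  H_conj : ∀ P ∈ H, ∀ φ ∈ N.Hom P, φ.range ∈ H
  H_top : T ∈ H
  gen : ∀ W : FusionSystem T, (∀ R ∈ H, A R ≤ W.autGroup R) → N ≤ W
  A_le : ∀ R ∈ H, A R ≤ N.autGroup R
  A_inn : ∀ R ∈ H, autInducedBy T R ≤ A R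
  A_inv : ∀ P ∈ H, ∀ φ ∈ N.Hom P, ∀ a ∈ A P, ∃ a' ∈ A φ.range,
    ∀ x : P, ((a' ⟨φ x, ⟨x, rfl⟩⟩ : φ.range) : Ω) = φ (a x)
  RC : ∀ U ∈ H, ∀ P ∈ H, ∀ hPU : P ≤ U, ∀ a ∈ A U, ∀ β : MulAut P,
    (∀ x : P, ((β x : P) : Ω) = ((a ⟨x, hPU x.2⟩ : U) : Ω)) → β ∈ A P
  ind : ∀ (P : Subgroup Ω) (φ : P →* Ω), φ ∈ N.Hom P →
    ∃ φ' ∈ Nb.Hom (imageAlong θ P), InducedAlong θ φ φ'
  lift : ∀ (P' : Subgroup Ω') (φ' : P' →* Ω'), φ' ∈ Nb.Hom P' →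
    ∃ φ ∈ N.Hom (preimageAlong θ P'), InducedAlong θ φ φ'
  onto : ∀ P ∈ H, ∀ α' ∈ Nb.autGroup (imageAlong θ P),
    ∃ α ∈ A P, InducedAlong θ (P.subtype.comp α.toMonoidHom)
      ((imageAlong θ P).subtype.comp α'.toMonoidHom)

/-! ## Pure lemmas on images and preimages -/

theorem gfl_G_imageAlong_mono (θ : S →* Ω') {P Q : Subgroup Ω} (h : P ≤ Q) :
    imageAlong θ P ≤ imageAlong θ Q := by
  intro y hy
  obtain ⟨x, hx, hxS, rfl⟩ := (Fusion.mem_imageAlong θ P y).mp hy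
  exact (Fusion.mem_imageAlong θ Q _).mpr ⟨x, h hx, hxS, rfl⟩

theorem gfl_G_preimageAlong_mono (θ : S →* Ω') {P Q : Subgroup Ω'} (h : P ≤ Q) :
    preimageAlong θ P ≤ preimageAlong θ Q := by
  intro y hy
  obtain ⟨hyS, hy'⟩ := (Fusion.mem_preimageAlong θ P y).mp hy
  exact (Fusion.mem_preimageAlong θ Q y).mpr ⟨hyS, h hy'⟩

theorem gfl_G_mem_image (θ : S →* Ω') {P : Subgroup Ω} {x : Ω} (hx : x ∈ P) (hxS : x ∈ S) :
    θ ⟨x, hxS⟩ ∈ imageAlong θ P :=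
  (Fusion.mem_imageAlong θ P _).mpr ⟨x, hx, hxS, rfl⟩

/-- A map of the system from `Q` into `Q` is an automorphism of the system. -/
theorem gfl_G_aut_of_hom [Finite T] (F : FusionSystem T) {Q : Subgroup Ω} (ψ : Q →* Ω)
    (hψ : ψ ∈ F.Hom Q) (hQ : ∀ x : Q, ψ x ∈ Q) :
    ∃ β ∈ F.autGroup Q, ∀ x : Q, ((β x : Q) : Ω) = ψ x := by
  have hQS : Q ≤ T := Fusion.src_le F hψ
  have : Finite Q := Fusion.finite_of_le hQS
  set f' : Q →* Q := ψ.codRestrict Q hQ with hf'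
  have hinj : Function.Injective f' := by
    intro x y hxy
    exact F.injective_of_mem hψ (congrArg Subtype.val hxy)
  have hbij : Function.Bijective f' := ⟨hinj, Finite.injective_iff_surjective.mp hinj⟩
  refine ⟨MulEquiv.ofBijective f' hbij, ?_, fun x => rfl⟩
  rw [Fusion.mem_autGroup_iff F hQS]
  have : Q.subtype.comp (MulEquiv.ofBijective f' hbij : MulAut Q).toMonoidHom = ψ := by
    ext x
    rfl
  rw [this]
  exact hψ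

/-- An injective self-map of a finite subgroup is onto. -/
theorem gfl_G_surj_of_inj {Q R : Subgroup Ω} [Finite R] (ψ : Q →* Ω) (hinj : Function.Injective ψ)
    (hRQ : R ≤ Q) (hR : ∀ (x : Ω) (hx : x ∈ R), ψ ⟨x, hRQ hx⟩ ∈ R) (y : Ω) (hy : y ∈ R) :
    ∃ (x : Ω) (hx : x ∈ R), ψ ⟨x, hRQ hx⟩ = y := by
  set f : R → R := fun x => ⟨ψ ⟨x.1, hRQ x.2⟩, hR x.1 x.2⟩ with hf
  have hfinj : Function.Injective f := by
    intro a b hab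
    have h1 : ψ ⟨a.1, hRQ a.2⟩ = ψ ⟨b.1, hRQ b.2⟩ := congrArg Subtype.val hab
    have h2 := hinj h1
    exact Subtype.ext (congrArg (fun z : Q => (z : Ω)) h2)
  obtain ⟨x, hx⟩ := (Finite.injective_iff_surjective.mp hfinj) ⟨y, hy⟩
  exact ⟨x.1, x.2, congrArg Subtype.val hx⟩

/-- The image of a subgroup of the source. -/
def gflGImg {Q : Subgroup Ω} (φ : Q →* Ω) (R : Subgroup Ω) : Subgroup Ω := (R.subgroupOf Q).map φ

theorem gfl_G_mem_img {Q : Subgroup Ω} (φ : Q →* Ω) (R : Subgroup Ω) (y : Ω) :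
    y ∈ gflGImg φ R ↔ ∃ (x : Ω) (hxQ : x ∈ Q), x ∈ R ∧ φ ⟨x, hxQ⟩ = y := by
  unfold gflGImg
  constructor
  · rintro ⟨m, hm, rfl⟩
    rw [SetLike.mem_coe, Subgroup.mem_subgroupOf] at hm
    exact ⟨m.1, m.2, hm, rfl⟩
  · rintro ⟨x, hxQ, hx, rfl⟩
    refine ⟨⟨x, hxQ⟩, ?_, rfl⟩
    rw [SetLike.mem_coe, Subgroup.mem_subgroupOf]
    exact hx

theorem gfl_G_img_eq_range {Q R : Subgroup Ω} (φ : Q →* Ω) (hRQ : R ≤ Q) :
    gflGImg φ R = (φ.comp (Subgroup.inclusion hRQ)).range := by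
  ext y
  rw [gfl_G_mem_img]
  constructor
  · rintro ⟨x, hxQ, hx, rfl⟩
    exact ⟨⟨x, hx⟩, rfl⟩
  · rintro ⟨x, rfl⟩
    exact ⟨x.1, hRQ x.2, x.2, rfl⟩

theorem gfl_G_img_isConj (N : FusionSystem T) {Q R : Subgroup Ω} {φ : Q →* Ω} (hφ : φ ∈ N.Hom Q)
    (hRQ : R ≤ Q) : N.IsConj R (gflGImg φ R) :=
  ⟨_, Fusion.restrict_mem N hφ hRQ, (gfl_G_img_eq_range φ hRQ).symm⟩

theorem gfl_G_img_comp {Q Q' R : Subgroup Ω} (φ : Q →* Ω) (ψ : Q' →* Ω) (h : ∀ x : Q, φ x ∈ Q') :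
    gflGImg (ψ.comp (φ.codRestrict Q' h)) R = gflGImg ψ (gflGImg φ R) := by
  ext y
  rw [gfl_G_mem_img, gfl_G_mem_img]
  constructor
  · rintro ⟨x, hxQ, hx, rfl⟩
    exact ⟨φ ⟨x, hxQ⟩, h _, (gfl_G_mem_img φ R _).mpr ⟨x, hxQ, hx, rfl⟩, rfl⟩
  · rintro ⟨z, hzQ', hz, rfl⟩
    obtain ⟨x, hxQ, hx, rfl⟩ := (gfl_G_mem_img φ R z).mp hz
    exact ⟨x, hxQ, hx, rfl⟩

theorem gfl_G_img_le {Q Q' R : Subgroup Ω} (φ : Q →* Ω) (h : ∀ x : Q, φ x ∈ Q') :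
    gflGImg φ R ≤ Q' := by
  intro y hy
  obtain ⟨x, hxQ, -, rfl⟩ := (gfl_G_mem_img φ R y).mp hy
  exact h _

theorem gfl_G_image_range (θ : S →* Ω') {P : Subgroup Ω} {φ : P →* Ω} {φ' : imageAlong θ P →* Ω'}
    (h : InducedAlong θ φ φ') : imageAlong θ φ.range = φ'.range := by
  obtain ⟨hP, hφS, hP', hind⟩ := h
  ext y
  rw [Fusion.mem_imageAlong]
  constructor
  · rintro ⟨_, ⟨x, rfl⟩, hxS, rfl⟩
    exact ⟨⟨θ ⟨x, hP x.2⟩, hP' x⟩, hind x⟩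
  · rintro ⟨⟨z, hz⟩, rfl⟩
    obtain ⟨x, hx, hxS, rfl⟩ := (Fusion.mem_imageAlong θ P z).mp hz
    exact ⟨φ ⟨x, hx⟩, ⟨_, rfl⟩, hφS _, (hind ⟨x, hx⟩).symm⟩

section Hyp

variable {p : ℕ} {θ : S →* Ω'} {N : FusionSystem T} {Nb : FusionSystem T'} {H : Set (Subgroup Ω)}
  {A : (P : Subgroup Ω) → Subgroup (MulAut P)}

theorem GflGHyp.mem_T (d : GflGHyp p θ N Nb H A) {x : Ω} (hxS : x ∈ S) (h : θ ⟨x, hxS⟩ ∈ T') :
    x ∈ T := by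
  rw [← d.pre_T]
  exact (Fusion.mem_preimageAlong θ T' x).mpr ⟨hxS, h⟩

theorem GflGHyp.map_mem_T' (d : GflGHyp p θ N Nb H A) {x : Ω} (hx : x ∈ T) (hxS : x ∈ S) :
    θ ⟨x, hxS⟩ ∈ T' := by
  rw [← d.img_T]
  exact gfl_G_mem_image θ hx hxS

theorem GflGHyp.exists_of_mem_T' (d : GflGHyp p θ N Nb H A) {y : Ω'} (hy : y ∈ T') :
    ∃ (x : Ω) (_ : x ∈ T) (hxS : x ∈ S), θ ⟨x, hxS⟩ = y := by
  rw [← d.img_T] at hy
  exact (Fusion.mem_imageAlong θ T y).mp hy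

theorem GflGHyp.image_le (d : GflGHyp p θ N Nb H A) {P : Subgroup Ω} (hP : P ≤ T) :
    imageAlong θ P ≤ T' := by
  rw [← d.img_T]
  exact gfl_G_imageAlong_mono θ hP

theorem GflGHyp.preimage_le (d : GflGHyp p θ N Nb H A) {P' : Subgroup Ω'} (hP' : P' ≤ T') :
    preimageAlong θ P' ≤ T := by
  rw [← d.pre_T]
  exact gfl_G_preimageAlong_mono θ hP'

theorem GflGHyp.image_preimage (d : GflGHyp p θ N Nb H A) {P' : Subgroup Ω'} (hP' : P' ≤ T') :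
    imageAlong θ (preimageAlong θ P') = P' := by
  apply le_antisymm
  · intro y hy
    obtain ⟨x, hx, hxS, rfl⟩ := (Fusion.mem_imageAlong θ _ y).mp hy
    obtain ⟨_, h⟩ := (Fusion.mem_preimageAlong θ P' x).mp hx
    exact h
  · intro y hy
    obtain ⟨x, _, hxS, rfl⟩ := d.exists_of_mem_T' (hP' hy)
    exact gfl_G_mem_image θ ((Fusion.mem_preimageAlong θ P' x).mpr ⟨hxS, hy⟩) hxS

theorem GflGHyp.mem_of_map_mem (d : GflGHyp p θ N Nb H A) {X : Subgroup Ω} (hX : X ∈ H) {x : Ω}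
    (hxS : x ∈ S) (h : θ ⟨x, hxS⟩ ∈ imageAlong θ X) : x ∈ X := by
  rw [← d.H_pre X hX]
  exact (Fusion.mem_preimageAlong θ _ x).mpr ⟨hxS, h⟩

theorem GflGHyp.ker_mem (d : GflGHyp p θ N Nb H A) {X : Subgroup Ω} (hX : X ∈ H) {z : Ω}
    (hzS : z ∈ S) (h : θ ⟨z, hzS⟩ = 1) : z ∈ X := by
  apply d.mem_of_map_mem hX hzS
  rw [h]
  exact Subgroup.one_mem _

/-- The induced map, in a form that accepts any membership proofs. -/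
theorem GflGHyp.ind' (d : GflGHyp p θ N Nb H A) {P : Subgroup Ω} {φ : P →* Ω} (hφ : φ ∈ N.Hom P) :
    ∃ φ' ∈ Nb.Hom (imageAlong θ P), InducedAlong θ φ φ' ∧
      ∀ (x : Ω) (hx : x ∈ P) (hxS : x ∈ S) (h1 : θ ⟨x, hxS⟩ ∈ imageAlong θ P)
        (h2 : φ ⟨x, hx⟩ ∈ S), φ' ⟨θ ⟨x, hxS⟩, h1⟩ = θ ⟨φ ⟨x, hx⟩, h2⟩ := by
  obtain ⟨φ', hφ', hind⟩ := d.ind P φ hφ
  refine ⟨φ', hφ', hind, ?_⟩
  obtain ⟨hP, hφS, hP', hind⟩ := hind
  intro x hx hxS h1 h2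
  exact hind ⟨x, hx⟩

/-- Maps of `N` are well defined and injective modulo the kernel of `θ`. -/
theorem GflGHyp.map_eq_iff (d : GflGHyp p θ N Nb H A) {P : Subgroup Ω} {φ : P →* Ω}
    (hφ : φ ∈ N.Hom P) (x y : Ω) (hx : x ∈ P) (hy : y ∈ P) (hxS : x ∈ S) (hyS : y ∈ S)
    (h1 : φ ⟨x, hx⟩ ∈ S) (h2 : φ ⟨y, hy⟩ ∈ S) :
    θ ⟨φ ⟨x, hx⟩, h1⟩ = θ ⟨φ ⟨y, hy⟩, h2⟩ ↔ θ ⟨x, hxS⟩ = θ ⟨y, hyS⟩ := by
  obtain ⟨φ', hφ', -, hind⟩ := d.ind' hφ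
  have e1 := hind x hx hxS (gfl_G_mem_image θ hx hxS) h1
  have e2 := hind y hy hyS (gfl_G_mem_image θ hy hyS) h2
  rw [← e1, ← e2]
  constructor
  · intro h
    exact congrArg Subtype.val (Nb.injective_of_mem hφ' h)
  · intro h
    congr 1
    exact Subtype.ext h

theorem GflGHyp.isConj_image (d : GflGHyp p θ N Nb H A) {P R : Subgroup Ω} (h : N.IsConj P R) :
    Nb.IsConj (imageAlong θ P) (imageAlong θ R) := by
  obtain ⟨φ, hφ, rfl⟩ := h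
  obtain ⟨φ', hφ', hind⟩ := d.ind P φ hφ
  exact ⟨φ', hφ', (gfl_G_image_range θ hind).symm⟩

theorem GflGHyp.isConj_mem (d : GflGHyp p θ N Nb H A) {P R : Subgroup Ω} (hP : P ∈ H)
    (h : N.IsConj P R) : R ∈ H := by
  obtain ⟨φ, hφ, rfl⟩ := h
  exact d.H_conj P hP φ hφ

/-- The image of the normalizer lies in the normalizer of the image. -/
theorem GflGHyp.normalizer_le (d : GflGHyp p θ N Nb H A) (R : Subgroup Ω) :
    normalizerIn T R ≤ preimageAlong θ (normalizerIn T' (imageAlong θ R)) := by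
  intro x hx
  have hxT : x ∈ T := hx.1
  have hxN : x ∈ Subgroup.normalizer (R : Set Ω) := hx.2
  have hxS : x ∈ S := d.hTS hxT
  rw [Fusion.mem_preimageAlong]
  refine ⟨hxS, d.map_mem_T' hxT hxS, ?_⟩
  have key : ∀ (g : Ω) (hgS : g ∈ S), g ∈ Subgroup.normalizer (R : Set Ω) →
      ∀ y ∈ imageAlong θ R, θ ⟨g, hgS⟩ * y * (θ ⟨g, hgS⟩)⁻¹ ∈ imageAlong θ R := by
    intro g hgS hgN y hy
    obtain ⟨r, hr, hrS, rfl⟩ := (Fusion.mem_imageAlong θ R y).mp hy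
    have h1 : g * r * g⁻¹ ∈ R := (Subgroup.mem_normalizer_iff.mp hgN r).mp hr
    have h2 : θ ⟨g, hgS⟩ * θ ⟨r, hrS⟩ * (θ ⟨g, hgS⟩)⁻¹ =
        θ ⟨g * r * g⁻¹, S.mul_mem (S.mul_mem hgS hrS) (S.inv_mem hgS)⟩ := by
      rw [← map_inv, ← map_mul, ← map_mul]
      rfl
    rw [h2]
    exact gfl_G_mem_image θ h1 _
  apply mem_normalizer_of_conj_mem
  · exact key x hxS hxN
  · intro y hy
    have h3 := key x⁻¹ (S.inv_mem hxS) (Subgroup.inv_mem _ hxN) y hy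
    have h4 : θ ⟨x⁻¹, S.inv_mem hxS⟩ = (θ ⟨x, hxS⟩)⁻¹ := by
      rw [← map_inv]
      rfl
    rw [h4, inv_inv] at h3
    exact h3

/-- An element of `T` whose image normalizes the image of a member of `H` normalizes it. -/
theorem GflGHyp.mem_normalizer (d : GflGHyp p θ N Nb H A) {R₀ : Subgroup Ω} (hR₀ : R₀ ∈ H) {x : Ω}
    (hxT : x ∈ T) (hxS : x ∈ S) (h : θ ⟨x, hxS⟩ ∈ normalizerIn T' (imageAlong θ R₀)) :
    x ∈ normalizerIn T R₀ := by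
  refine ⟨hxT, ?_⟩
  have hR₀S : R₀ ≤ S := (d.H_le R₀ hR₀).trans d.hTS
  have hn : θ ⟨x, hxS⟩ ∈ Subgroup.normalizer ((imageAlong θ R₀ : Subgroup Ω') : Set Ω') := h.2
  apply mem_normalizer_of_conj_mem
  · intro r hr
    have hrS := hR₀S hr
    have hm : x * r * x⁻¹ ∈ S := S.mul_mem (S.mul_mem hxS hrS) (S.inv_mem hxS)
    apply d.mem_of_map_mem hR₀ hm
    have h2 : θ ⟨x * r * x⁻¹, hm⟩ = θ ⟨x, hxS⟩ * θ ⟨r, hrS⟩ * (θ ⟨x, hxS⟩)⁻¹ := by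
      rw [← map_inv, ← map_mul, ← map_mul]
      rfl
    rw [h2]
    exact (Subgroup.mem_normalizer_iff.mp hn _).mp (gfl_G_mem_image θ hr hrS)
  · intro r hr
    have hrS := hR₀S hr
    have hm : x⁻¹ * r * x ∈ S := S.mul_mem (S.mul_mem (S.inv_mem hxS) hrS) hxS
    apply d.mem_of_map_mem hR₀ hm
    have h2 : θ ⟨x⁻¹ * r * x, hm⟩ = (θ ⟨x, hxS⟩)⁻¹ * θ ⟨r, hrS⟩ * θ ⟨x, hxS⟩ := by
      rw [← map_inv, ← map_mul, ← map_mul]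
      rfl
    rw [h2]
    have h3 := (Subgroup.mem_normalizer_iff.mp (Subgroup.inv_mem _ hn) _).mp
      (gfl_G_mem_image θ hr hrS)
    rw [inv_inv] at h3
    exact h3

/-- Lifts of maps of `Nb` whose source is the image of a full preimage. -/
theorem GflGHyp.lift' (d : GflGHyp p θ N Nb H A) {X : Subgroup Ω}
    (hX : preimageAlong θ (imageAlong θ X) = X) {φ' : imageAlong θ X →* Ω'}
    (hφ' : φ' ∈ Nb.Hom (imageAlong θ X)) : ∃ φ ∈ N.Hom X, InducedAlong θ φ φ' := by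
  have h := d.lift _ φ' hφ'
  rw [hX] at h
  exact h

/-- Surjectivity onto the automizers, for full preimages. -/
theorem GflGHyp.onto' (d : GflGHyp p θ N Nb H A) {X' : Subgroup Ω'} (hX' : X' ≤ T')
    (hX : preimageAlong θ X' ∈ H) {β' : MulAut X'} (hβ' : β' ∈ Nb.autGroup X') :
    ∃ a ∈ A (preimageAlong θ X'),
      InducedAlong θ ((preimageAlong θ X').subtype.comp a.toMonoidHom)
        (X'.subtype.comp β'.toMonoidHom) := by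
  have h := d.onto _ hX
  rw [d.image_preimage hX'] at h
  exact h β' hβ'

/-- Invariance of the family `A`, with the target as a separate subgroup. -/
theorem GflGHyp.A_inv' (d : GflGHyp p θ N Nb H A) {P P' : Subgroup Ω} (hP : P ∈ H) {φ : P →* Ω}
    (hφ : φ ∈ N.Hom P) (hr : φ.range = P') {a : MulAut P} (ha : a ∈ A P) :
    ∃ a' ∈ A P', ∀ (x : P) (h : φ x ∈ P'), ((a' ⟨φ x, h⟩ : P') : Ω) = φ (a x) := by
  subst hr
  obtain ⟨a', ha', h⟩ := d.A_inv P hP φ hφ a ha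
  exact ⟨a', ha', fun x _ => h x⟩

end Hyp

section Main

variable {p : ℕ} [Fact p.Prime] {θ : S →* Ω'} {N : FusionSystem T} {Nb : FusionSystem T'}
  {H : Set (Subgroup Ω)} {A : (P : Subgroup Ω) → Subgroup (MulAut P)}

omit [Fact p.Prime] in
/-- The base point of the `N`-class of `P`: its image is fully normalized in `Nb`. -/
theorem GflGHyp.exists_base [Finite T'] (d : GflGHyp p θ N Nb H A) {P : Subgroup Ω} (hP : P ∈ H) :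
    ∃ R₀, N.IsConj P R₀ ∧ Nb.IsFullyNormalized (imageAlong θ R₀) := by
  have hPb : imageAlong θ P ≤ T' := d.image_le (d.H_le P hP)
  obtain ⟨Qb, hconj, hfn⟩ := Fusion.exists_isConj_fullyNormalized Nb hPb
  obtain ⟨φb, hφb, hr⟩ := hconj
  obtain ⟨φ, hφ, hind⟩ := d.lift' (d.H_pre P hP) hφb
  refine ⟨φ.range, ⟨φ, hφ, rfl⟩, ?_⟩
  rw [gfl_G_image_range θ hind, hr]
  exact hfn

/-- The reference maps `N_T(R) → N_T(R₀)` carrying `R` onto `R₀`. -/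
theorem GflGHyp.exists_chi [Finite T] [Finite T'] (hT' : IsPGroup p T') (d : GflGHyp p θ N Nb H A)
    {P R₀ : Subgroup Ω} (hP : P ∈ H) (hR₀ : N.IsConj P R₀)
    (hfn : Nb.IsFullyNormalized (imageAlong θ R₀)) (R : Subgroup Ω) (hR : N.IsConj P R) :
    ∃ χ : normalizerIn T R →* Ω, χ ∈ N.Hom (normalizerIn T R) ∧
      (∀ x, χ x ∈ normalizerIn T R₀) ∧ gflGImg χ R = R₀ := by
  have hRH : R ∈ H := d.isConj_mem hP hR
  have hR₀H : R₀ ∈ H := d.isConj_mem hP hR₀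
  have hRT : R ≤ T := d.H_le R hRH
  have hconjb : Nb.IsConj (imageAlong θ R) (imageAlong θ R₀) :=
    d.isConj_image (Fusion.isConj_trans N (Fusion.isConj_symm N hR) hR₀)
  obtain ⟨hfc, hfa⟩ := Fusion.fullyCentralized_fullyAutomized_of_fullyNormalized p hT' Nb d.satb hfn
  have hrec := Fusion.receptive_of_fullyCentralized p hT' Nb d.satb hfc
  obtain ⟨ρb, hρb, hρbN, hρbR⟩ := Fusion.exists_hom_normalizerIn p hT' Nb hfa hrec hconjb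
  obtain ⟨ρ, hρ, hind⟩ := d.lift _ ρb hρb
  have hle := d.normalizer_le (θ := θ) R
  have hχ := Fusion.restrict_mem N hρ hle
  obtain ⟨hPS, hρS, hP', hI⟩ := hind
  have hval : ∀ x : normalizerIn T R, (ρ.comp (Subgroup.inclusion hle)) x ∈ normalizerIn T R₀ := by
    intro x
    have h1 : ρ ⟨x.1, hle x.2⟩ ∈ T := Fusion.map_mem N hρ _
    apply d.mem_normalizer hR₀H h1 (hρS _)
    rw [← hI ⟨x.1, hle x.2⟩]
    exact hρbN _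
  have himg : gflGImg (ρ.comp (Subgroup.inclusion hle)) R ≤ R₀ := by
    intro y hy
    obtain ⟨x, hxN, hx, rfl⟩ := (gfl_G_mem_img _ R y).mp hy
    apply d.mem_of_map_mem hR₀H (hρS ⟨x, hle hxN⟩)
    rw [← hI ⟨x, hle hxN⟩, ← hρbR]
    refine ⟨_, ?_, rfl⟩
    rw [SetLike.mem_coe, Subgroup.mem_subgroupOf]
    exact gfl_G_mem_image θ hx _
  refine ⟨ρ.comp (Subgroup.inclusion hle), hχ, hval, ?_⟩
  have : Finite R₀ := Fusion.finite_of_le (d.H_le R₀ hR₀H)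
  apply Subgroup.eq_of_le_of_card_ge himg
  have h1 := Fusion.card_eq_of_isConj N (gfl_G_img_isConj N hχ (Fusion.le_normalizerIn hRT))
  have h2 := Fusion.card_eq_of_isConj N hR
  have h3 := Fusion.card_eq_of_isConj N hR₀
  rw [← h1, ← h2, h3]

/-- The coherence predicate with respect to the reference maps `chi`. -/
def GflGPr (N : FusionSystem T) (A : (P : Subgroup Ω) → Subgroup (MulAut P)) (P R₀ : Subgroup Ω)
    (chi : ∀ R : Subgroup Ω, normalizerIn T R →* Ω) (Q : Subgroup Ω) (φ : Q →* Ω) : Prop :=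
  ∀ R : Subgroup Ω, R ≤ Q → N.IsConj P R →
    ∃ a₀ ∈ A R₀, ∀ (x : Ω) (_ : x ∈ R) (hxQ : x ∈ Q) (h1 : x ∈ normalizerIn T R)
      (h2 : φ ⟨x, hxQ⟩ ∈ normalizerIn T (gflGImg φ R)) (h3 : chi R ⟨x, h1⟩ ∈ R₀),
      ((a₀ ⟨chi R ⟨x, h1⟩, h3⟩ : R₀) : Ω) = chi (gflGImg φ R) ⟨φ ⟨x, hxQ⟩, h2⟩

/-- The properties of the reference maps. -/
structure GflGChi (N : FusionSystem T) (P R₀ : Subgroup Ω)
    (chi : ∀ R : Subgroup Ω, normalizerIn T R →* Ω) : Prop where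
  mem : ∀ R, N.IsConj P R → chi R ∈ N.Hom (normalizerIn T R)
  val : ∀ R, N.IsConj P R → ∀ x, chi R x ∈ normalizerIn T R₀
  img : ∀ R, N.IsConj P R → gflGImg (chi R) R = R₀

omit [Fact p.Prime] in
theorem GflGChi.map_mem {P R₀ : Subgroup Ω} {chi : ∀ R : Subgroup Ω, normalizerIn T R →* Ω}
    (c : GflGChi N P R₀ chi) {R : Subgroup Ω} (hR : N.IsConj P R) {x : Ω} (hx : x ∈ R)
    (h1 : x ∈ normalizerIn T R) : chi R ⟨x, h1⟩ ∈ R₀ := by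
  rw [← c.img R hR]
  exact (gfl_G_mem_img _ R _).mpr ⟨x, h1, hx, rfl⟩

omit [Fact p.Prime] in
theorem gfl_G_pr_comp {P R₀ : Subgroup Ω} {chi : ∀ R : Subgroup Ω, normalizerIn T R →* Ω}
    {Q₁ Q₂ : Subgroup Ω} {φ : Q₁ →* Ω} {ψ : Q₂ →* Ω} (h : ∀ x : Q₁, φ x ∈ Q₂)
    (hφ : φ ∈ N.Hom Q₁) (h1 : GflGPr N A P R₀ chi Q₁ φ)
    (h2 : GflGPr N A P R₀ chi Q₂ ψ) : GflGPr N A P R₀ chi Q₁ (ψ.comp (φ.codRestrict Q₂ h)) := by
  intro R hRQ hR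
  obtain ⟨a₀, ha₀, e₀⟩ := h1 R hRQ hR
  have hR2 : N.IsConj P (gflGImg φ R) := Fusion.isConj_trans N hR (gfl_G_img_isConj N hφ hRQ)
  have hle2 : gflGImg φ R ≤ Q₂ := gfl_G_img_le φ h
  obtain ⟨a₁, ha₁, e₁⟩ := h2 (gflGImg φ R) hle2 hR2
  refine ⟨a₁ * a₀, Subgroup.mul_mem _ ha₁ ha₀, ?_⟩
  rw [gfl_G_img_comp φ ψ h]
  intro x hx hxQ hn1 hn2 h3
  have hφx : φ ⟨x, hxQ⟩ ∈ gflGImg φ R := (gfl_G_mem_img φ R _).mpr ⟨x, hxQ, hx, rfl⟩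
  have hT2 : gflGImg φ R ≤ T := Fusion.isConj_tgt_le N hR2
  have hn : φ ⟨x, hxQ⟩ ∈ normalizerIn T (gflGImg φ R) := Fusion.le_normalizerIn hT2 hφx
  have E0 := e₀ x hx hxQ hn1 hn h3
  have h3' : chi (gflGImg φ R) ⟨φ ⟨x, hxQ⟩, hn⟩ ∈ R₀ := by
    rw [← E0]
    exact (a₀ _).2
  have E1 := e₁ (φ ⟨x, hxQ⟩) hφx (h _) hn hn2 h3'
  rw [MulAut.mul_apply]
  have e : a₀ ⟨chi R ⟨x, hn1⟩, h3⟩ = ⟨chi (gflGImg φ R) ⟨φ ⟨x, hxQ⟩, hn⟩, h3'⟩ := Subtype.ext E0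
  rw [e]
  exact E1

omit [Fact p.Prime] in
theorem gfl_G_pr_inv {P R₀ : Subgroup Ω} {chi : ∀ R : Subgroup Ω, normalizerIn T R →* Ω}
    (c : GflGChi N P R₀ chi) {Q : Subgroup Ω} {φ : Q →* Ω} {ψ : φ.range →* Ω}
    (h1 : GflGPr N A P R₀ chi Q φ) (hψ : ψ ∈ N.Hom φ.range)
    (hinv : ∀ x : Q, ψ ⟨φ x, ⟨x, rfl⟩⟩ = (x : Ω)) : GflGPr N A P R₀ chi φ.range ψ := by
  intro R' hR'Q hR'
  have hψQ : ∀ z : φ.range, ψ z ∈ Q := by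
    rintro ⟨_, x, rfl⟩
    rw [hinv x]
    exact x.2
  have hRQ : gflGImg ψ R' ≤ Q := gfl_G_img_le ψ hψQ
  have hR : N.IsConj P (gflGImg ψ R') :=
    Fusion.isConj_trans N hR' (gfl_G_img_isConj N hψ hR'Q)
  have key : gflGImg φ (gflGImg ψ R') = R' := by
    ext y
    rw [gfl_G_mem_img]
    constructor
    · rintro ⟨x, hxQ, hx, rfl⟩
      obtain ⟨z, hzr, hz, hzx⟩ := (gfl_G_mem_img ψ R' x).mp hx
      obtain ⟨x', rfl⟩ := hzr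
      have h2 : ψ ⟨φ x', ⟨x', rfl⟩⟩ = x := hzx
      rw [hinv x'] at h2
      have h3 : x' = ⟨x, hxQ⟩ := Subtype.ext h2
      rw [← h3]
      exact hz
    · intro hy
      obtain ⟨x, rfl⟩ := hR'Q hy
      exact ⟨x.1, x.2, (gfl_G_mem_img ψ R' _).mpr ⟨φ x, ⟨x, rfl⟩, hy, hinv x⟩, rfl⟩
  obtain ⟨a₀, ha₀, e₀⟩ := h1 (gflGImg ψ R') hRQ hR
  rw [key] at e₀
  refine ⟨a₀⁻¹, Subgroup.inv_mem _ ha₀, ?_⟩
  intro y hy hyQ hn1 hn2 h3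
  obtain ⟨x, rfl⟩ := hyQ
  have hxR : (x : Ω) ∈ gflGImg ψ R' := (gfl_G_mem_img ψ R' _).mpr ⟨φ x, ⟨x, rfl⟩, hy, hinv x⟩
  have hRT : gflGImg ψ R' ≤ T := Fusion.isConj_tgt_le N hR
  have hn : (x : Ω) ∈ normalizerIn T (gflGImg ψ R') := Fusion.le_normalizerIn hRT hxR
  have h3' : chi (gflGImg ψ R') ⟨x, hn⟩ ∈ R₀ := c.map_mem hR hxR hn
  have E0 := e₀ x.1 hxR x.2 hn hn1 h3'
  have e1 : (⟨chi R' ⟨φ x, hn1⟩, h3⟩ : R₀) = a₀ ⟨chi (gflGImg ψ R') ⟨x, hn⟩, h3'⟩ :=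
    Subtype.ext E0.symm
  rw [e1, MulAut.inv_apply_self]
  show chi (gflGImg ψ R') ⟨x, hn⟩ = chi (gflGImg ψ R') ⟨ψ ⟨φ x, _⟩, hn2⟩
  congr 1
  exact Subtype.ext (hinv x).symm

omit [Fact p.Prime] in
theorem gfl_G_pr_restrict {P R₀ : Subgroup Ω} {chi : ∀ R : Subgroup Ω, normalizerIn T R →* Ω}
    {Q Q' : Subgroup Ω} {φ : Q →* Ω} (hQ' : Q' ≤ Q) (h1 : GflGPr N A P R₀ chi Q φ) :
    GflGPr N A P R₀ chi Q' (φ.comp (Subgroup.inclusion hQ')) := by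
  intro R hRQ' hR
  obtain ⟨a₀, ha₀, e₀⟩ := h1 R (hRQ'.trans hQ') hR
  have himg : gflGImg (φ.comp (Subgroup.inclusion hQ')) R = gflGImg φ R := by
    ext y
    rw [gfl_G_mem_img, gfl_G_mem_img]
    constructor
    · rintro ⟨x, hxQ', hx, rfl⟩
      exact ⟨x, hQ' hxQ', hx, rfl⟩
    · rintro ⟨x, hxQ, hx, rfl⟩
      exact ⟨x, hRQ' hx, hx, rfl⟩
  refine ⟨a₀, ha₀, ?_⟩
  rw [himg]
  intro x hx hxQ hn1 hn2 h3
  exact e₀ x hx (hQ' hxQ) hn1 hn2 h3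

/-- The CLAIM: the elements of `A R'`, `R' ∈ H`, satisfy the coherence predicate, given the key lemma `KL` at the
base point. -/
theorem GflGHyp.claim [Finite T] (hT : IsPGroup p T) (d : GflGHyp p θ N Nb H A)
    {P R₀ : Subgroup Ω} {chi : ∀ R : Subgroup Ω, normalizerIn T R →* Ω} (c : GflGChi N P R₀ chi)
    (hP : P ∈ H)
    (KL : ∀ (U : Subgroup Ω) (θ₀ : U →* Ω), θ₀ ∈ N.Hom U → ∀ hR₀U : R₀ ≤ U,
      U ≤ normalizerIn T R₀ → Nat.card P < Nat.card U →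
      (∀ (y : Ω) (hy : y ∈ R₀), θ₀ ⟨y, hR₀U hy⟩ ∈ R₀) →
      ∃ a₀ ∈ A R₀, ∀ (y : Ω) (hy : y ∈ R₀), ((a₀ ⟨y, hy⟩ : R₀) : Ω) = θ₀ ⟨y, hR₀U hy⟩)
    {R' : Subgroup Ω} (hR' : R' ∈ H) {a : MulAut R'} (ha : a ∈ A R') :
    GflGPr N A P R₀ chi R' (R'.subtype.comp a.toMonoidHom) := by
  intro R hRR' hR
  have hR'T : R' ≤ T := d.H_le R' hR'
  have hRT : R ≤ T := hRR'.trans hR'T
  have hRH : R ∈ H := d.isConj_mem hP hR
  have hα : R'.subtype.comp a.toMonoidHom ∈ N.Hom R' :=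
    (Fusion.mem_autGroup_iff N hR'T a).mp (d.A_le R' hR' ha)
  rcases eq_or_lt_of_le hRR' with heq | hlt
  · subst heq
    have himg : gflGImg (R.subtype.comp a.toMonoidHom) R = R := by
      ext y
      rw [gfl_G_mem_img]
      constructor
      · rintro ⟨x, hxQ, hx, rfl⟩
        exact (a ⟨x, hxQ⟩).2
      · intro hy
        obtain ⟨z, hz⟩ := a.surjective ⟨y, hy⟩
        exact ⟨z.1, z.2, z.2, congrArg Subtype.val hz⟩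
    rw [himg]
    have hf := Fusion.restrict_mem N (c.mem R hR) (Fusion.le_normalizerIn hRT)
    have hfr : ((chi R).comp (Subgroup.inclusion (Fusion.le_normalizerIn hRT))).range = R₀ := by
      rw [← gfl_G_img_eq_range]
      exact c.img R hR
    obtain ⟨a', ha', e⟩ := d.A_inv' hRH hf hfr ha
    refine ⟨a', ha', ?_⟩
    intro x hx hxQ hn1 hn2 h3
    exact e ⟨x, hx⟩ h3
  · -- `R < R'`
    have : Finite R' := Fusion.finite_of_le hR'T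
    have hR'p : IsPGroup p R' := hT.to_le hR'T
    have hRN₁ : R ≤ normalizerIn R' R := Fusion.le_normalizerIn hRR'
    have hN₁R' : normalizerIn R' R ≤ R' := inf_le_left
    have hN₁N : normalizerIn R' R ≤ normalizerIn T R := inf_le_inf_right _ hR'T
    have hf₁ := Fusion.restrict_mem N (c.mem R hR) hN₁N
    set f₁ : ↥(normalizerIn R' R) →* Ω := (chi R).comp (Subgroup.inclusion hN₁N) with hf₁def
    obtain ⟨g₁, hg₁, hg₁inv, hg₁r⟩ := Fusion.exists_inv N hf₁ rfl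
    have hα₁ := Fusion.restrict_mem N hα hN₁R'
    set α₁ : ↥(normalizerIn R' R) →* Ω :=
      (R'.subtype.comp a.toMonoidHom).comp (Subgroup.inclusion hN₁R') with hα₁def
    have haR : N.IsConj P (gflGImg (R'.subtype.comp a.toMonoidHom) R) :=
      Fusion.isConj_trans N hR (gfl_G_img_isConj N hα hRR')
    -- `α₁` maps `N_{R'}(R)` into `N_T(aR)`
    have hα₁N : ∀ x : ↥(normalizerIn R' R),
        α₁ x ∈ normalizerIn T (gflGImg (R'.subtype.comp a.toMonoidHom) R) := by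
      intro x
      refine ⟨Fusion.map_mem N hα₁ x, ?_⟩
      have key : ∀ z : ↥(normalizerIn R' R), ∀ y ∈ gflGImg (R'.subtype.comp a.toMonoidHom) R,
          α₁ z * y * (α₁ z)⁻¹ ∈ gflGImg (R'.subtype.comp a.toMonoidHom) R := by
        intro z y hy
        obtain ⟨r, hrR', hr, rfl⟩ := (gfl_G_mem_img _ R y).mp hy
        have hzn : (z : Ω) ∈ Subgroup.normalizer (R : Set Ω) := z.2.2
        have h1 : (z : Ω) * r * (z : Ω)⁻¹ ∈ R := (Subgroup.mem_normalizer_iff.mp hzn r).mp hr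
        refine (gfl_G_mem_img _ R _).mpr ⟨(z : Ω) * r * (z : Ω)⁻¹, hRR' h1, h1, ?_⟩
        have h2 : (⟨(z : Ω) * r * (z : Ω)⁻¹, hRR' h1⟩ : R') =
            ⟨z, hN₁R' z.2⟩ * ⟨r, hrR'⟩ * ⟨z, hN₁R' z.2⟩⁻¹ := rfl
        rw [h2, map_mul, map_mul, map_inv]
        rfl
      apply mem_normalizer_of_conj_mem
      · exact key x
      · intro y hy
        have h3 := key x⁻¹ y hy
        rw [map_inv, inv_inv] at h3
        exact h3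
    have hg₁N₁ : ∀ u : f₁.range, g₁ u ∈ normalizerIn R' R := by
      intro u
      have h0 : g₁ u ∈ g₁.range := ⟨u, rfl⟩
      rwa [hg₁r] at h0
    have hk₁ := N.comp_mem hg₁ hα₁ hg₁N₁
    set k₁ : f₁.range →* Ω := α₁.comp (g₁.codRestrict (normalizerIn R' R) hg₁N₁) with hk₁def
    have hk₁N : ∀ u : f₁.range,
        k₁ u ∈ normalizerIn T (gflGImg (R'.subtype.comp a.toMonoidHom) R) := fun u => hα₁N _
    have hθ₀ := N.comp_mem hk₁ (c.mem _ haR) hk₁N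
    set θ₀ : f₁.range →* Ω :=
      (chi (gflGImg (R'.subtype.comp a.toMonoidHom) R)).comp (k₁.codRestrict _ hk₁N) with hθ₀def
    -- formula for `θ₀`
    have hform : ∀ (x : Ω) (hx : x ∈ normalizerIn R' R) (hu : f₁ ⟨x, hx⟩ ∈ f₁.range)
        (h2 : (R'.subtype.comp a.toMonoidHom) ⟨x, hN₁R' hx⟩ ∈
          normalizerIn T (gflGImg (R'.subtype.comp a.toMonoidHom) R)),
        θ₀ ⟨f₁ ⟨x, hx⟩, hu⟩ =
          chi (gflGImg (R'.subtype.comp a.toMonoidHom) R)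
            ⟨(R'.subtype.comp a.toMonoidHom) ⟨x, hN₁R' hx⟩, h2⟩ := by
      intro x hx hu h2
      have e1 : g₁ ⟨f₁ ⟨x, hx⟩, hu⟩ = x := hg₁inv ⟨x, hx⟩ hu
      have e2 : (⟨g₁ ⟨f₁ ⟨x, hx⟩, hu⟩, hg₁N₁ _⟩ : ↥(normalizerIn R' R)) = ⟨x, hx⟩ := Subtype.ext e1
      show chi _ ⟨α₁ ⟨g₁ ⟨f₁ ⟨x, hx⟩, hu⟩, hg₁N₁ _⟩, _⟩ = _
      congr 1
      apply Subtype.ext
      show α₁ ⟨g₁ ⟨f₁ ⟨x, hx⟩, hu⟩, hg₁N₁ _⟩ = _
      rw [e2]
      rfl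
    have hR₀U : R₀ ≤ f₁.range := by
      intro y hy
      rw [← c.img R hR] at hy
      obtain ⟨x, hxN, hx, rfl⟩ := (gfl_G_mem_img _ R y).mp hy
      exact ⟨⟨x, hRN₁ hx⟩, rfl⟩
    have hUN : f₁.range ≤ normalizerIn T R₀ := by
      rintro _ ⟨x, rfl⟩
      exact c.val R hR _
    have hcard : Nat.card P < Nat.card f₁.range := by
      have h1 := Fusion.card_eq_of_isConj N hR
      have h2 : Nat.card ↥(normalizerIn R' R) = Nat.card f₁.range :=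
        Fusion.card_eq_of_isConj N ⟨f₁, hf₁, rfl⟩
      rw [h1, ← h2]
      exact Fusion.card_lt_card_normalizerIn hR'p hRR' hlt.ne
    have hinj₁ := N.injective_of_mem hf₁
    have hpres : ∀ (y : Ω) (hy : y ∈ R₀), θ₀ ⟨y, hR₀U hy⟩ ∈ R₀ := by
      intro y hy
      have hy' := hy
      rw [← c.img R hR] at hy'
      obtain ⟨x, hxN, hx, rfl⟩ := (gfl_G_mem_img _ R _).mp hy'
      have hax : (R'.subtype.comp a.toMonoidHom) ⟨x, hRR' hx⟩ ∈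
          gflGImg (R'.subtype.comp a.toMonoidHom) R :=
        (gfl_G_mem_img _ R _).mpr ⟨x, hRR' hx, hx, rfl⟩
      have h2 := Fusion.le_normalizerIn (Fusion.isConj_tgt_le N haR) hax
      have := hform x (hRN₁ hx) (hR₀U hy) h2
      show θ₀ ⟨f₁ ⟨x, hRN₁ hx⟩, hR₀U hy⟩ ∈ R₀
      rw [this]
      exact c.map_mem haR hax h2
    obtain ⟨a₀, ha₀, e⟩ := KL f₁.range θ₀ hθ₀ hR₀U hUN hcard hpres
    refine ⟨a₀, ha₀, ?_⟩
    intro x hx hxQ hn1 hn2 h3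
    rw [e (chi R ⟨x, hn1⟩) h3]
    exact hform x (hRN₁ hx) (hR₀U h3) hn2

/-! ## The key lemma at the base point: Alperin induction in the normalizer system downstairs -/

omit [Fact p.Prime] in
theorem gfl_G_mem_comapMap {Y₁ Y₂ : Subgroup Ω} (t : Y₁ →* Ω) (x : Ω) :
    x ∈ (Y₂.comap t).map Y₁.subtype ↔ ∃ h : x ∈ Y₁, t ⟨x, h⟩ ∈ Y₂ := by
  constructor
  · rintro ⟨m, hm, rfl⟩
    exact ⟨m.2, hm⟩
  · rintro ⟨h, ht⟩
    exact ⟨⟨x, h⟩, ht, rfl⟩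

/-- The lifting predicate on the maps of the normalizer system of the image of the base point: `tb` is induced by
a map `t` of `N` defined on a subgroup containing `R₀` and the full preimage of the source, with `t|R₀ ∈ A R₀`. -/
def GflGPr' (θ : S →* Ω') (N : FusionSystem T) (A : (P : Subgroup Ω) → Subgroup (MulAut P))
    (R₀ : Subgroup Ω) (Vb : Subgroup Ω') (tb : Vb →* Ω') : Prop :=
  ∃ (Y : Subgroup Ω) (t : Y →* Ω) (hR₀Y : R₀ ≤ Y), t ∈ N.Hom Y ∧ preimageAlong θ Vb ≤ Y ∧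
    (∃ a ∈ A R₀, ∀ (y : Ω) (hy : y ∈ R₀), ((a ⟨y, hy⟩ : R₀) : Ω) = t ⟨y, hR₀Y hy⟩) ∧
    ∀ (x : Ω) (hxY : x ∈ Y) (hxS : x ∈ S) (hxV : θ ⟨x, hxS⟩ ∈ Vb) (htS : t ⟨x, hxY⟩ ∈ S),
      tb ⟨θ ⟨x, hxS⟩, hxV⟩ = θ ⟨t ⟨x, hxY⟩, htS⟩

omit [Fact p.Prime] in
theorem GflGHyp.np_conj (d : GflGHyp p θ N Nb H A) {R₀ : Subgroup Ω} (hR₀ : R₀ ∈ H)
    (Vb : Subgroup Ω') (g' : Ω') (hVb : Vb ≤ normalizerIn T' (imageAlong θ R₀))
    (hg' : g' ∈ normalizerIn T' (imageAlong θ R₀)) : GflGPr' θ N A R₀ Vb (conjHom Vb g') := by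
  obtain ⟨g, hgT, hgS, rfl⟩ := d.exists_of_mem_T' hg'.1
  have hgN : g ∈ normalizerIn T R₀ := d.mem_normalizer hR₀ hgT hgS hg'
  have hR₀T : R₀ ≤ T := d.H_le R₀ hR₀
  refine ⟨normalizerIn T R₀, conjHom (normalizerIn T R₀) g, Fusion.le_normalizerIn hR₀T,
    N.conj_mem inf_le_left hgT, ?_, ?_, ?_⟩
  · intro x hx
    obtain ⟨hxS, hxV⟩ := (Fusion.mem_preimageAlong θ Vb x).mp hx
    have h1 := hVb hxV
    exact d.mem_normalizer hR₀ (d.mem_T hxS h1.1) hxS h1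
  · refine ⟨conjAutHom R₀ ⟨g, hgN.2⟩, d.A_inn R₀ hR₀
      (Fusion.conjAutHom_mem_autInducedBy R₀ ⟨g, hgN.2⟩ hgT), fun y hy => rfl⟩
  · intro x hxY hxS hxV htS
    show θ ⟨g, hgS⟩ * θ ⟨x, hxS⟩ * (θ ⟨g, hgS⟩)⁻¹ = θ ⟨g * x * g⁻¹, htS⟩
    rw [← map_inv, ← map_mul, ← map_mul]
    rfl

omit [Fact p.Prime] in
theorem GflGHyp.np_comp (d : GflGHyp p θ N Nb H A) {R₀ : Subgroup Ω}
    (P Q : Subgroup Ω') (φ : P →* Ω') (ψ : Q →* Ω') (h : ∀ x : P, φ x ∈ Q)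
    (h1 : GflGPr' θ N A R₀ P φ) (h2 : GflGPr' θ N A R₀ Q ψ) :
    GflGPr' θ N A R₀ P (ψ.comp (φ.codRestrict Q h)) := by
  obtain ⟨Y₁, t₁, hR₁, ht₁, hpre₁, ⟨a₁, ha₁, e₁⟩, hi₁⟩ := h1
  obtain ⟨Y₂, t₂, hR₂, ht₂, hpre₂, ⟨a₂, ha₂, e₂⟩, hi₂⟩ := h2
  have hYY₁ : (Y₂.comap t₁).map Y₁.subtype ≤ Y₁ := by
    intro x hx
    exact ((gfl_G_mem_comapMap t₁ x).mp hx).1
  have ht₁' := Fusion.restrict_mem N ht₁ hYY₁
  have hval : ∀ x : ↥((Y₂.comap t₁).map Y₁.subtype), (t₁.comp (Subgroup.inclusion hYY₁)) x ∈ Y₂ := by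
    intro x
    exact ((gfl_G_mem_comapMap t₁ x.1).mp x.2).2
  have ht := N.comp_mem ht₁' ht₂ hval
  have hR₀Y : R₀ ≤ (Y₂.comap t₁).map Y₁.subtype := by
    intro y hy
    rw [gfl_G_mem_comapMap]
    refine ⟨hR₁ hy, ?_⟩
    rw [← e₁ y hy]
    exact hR₂ (a₁ ⟨y, hy⟩).2
  refine ⟨_, _, hR₀Y, ht, ?_, ⟨a₂ * a₁, Subgroup.mul_mem _ ha₂ ha₁, ?_⟩, ?_⟩
  · intro x hx
    obtain ⟨hxS, hxV⟩ := (Fusion.mem_preimageAlong θ P x).mp hx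
    rw [gfl_G_mem_comapMap]
    refine ⟨hpre₁ hx, ?_⟩
    apply hpre₂
    have htS : t₁ ⟨x, hpre₁ hx⟩ ∈ S := d.hTS (Fusion.map_mem N ht₁ _)
    rw [Fusion.mem_preimageAlong]
    refine ⟨htS, ?_⟩
    rw [← hi₁ x (hpre₁ hx) hxS hxV htS]
    exact h _
  · intro y hy
    rw [MulAut.mul_apply]
    have E2 := e₂ (a₁ ⟨y, hy⟩).1 (a₁ ⟨y, hy⟩).2
    rw [E2]
    show t₂ ⟨(a₁ ⟨y, hy⟩ : R₀), _⟩ = t₂ ⟨t₁ ⟨y, _⟩, _⟩
    congr 1
    exact Subtype.ext (e₁ y hy)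
  · intro x hxY hxS hxV htS
    have hxY₁ := hYY₁ hxY
    have htS₁ : t₁ ⟨x, hxY₁⟩ ∈ S := d.hTS (Fusion.map_mem N ht₁ _)
    have E1 := hi₁ x hxY₁ hxS hxV htS₁
    have hY₂ : t₁ ⟨x, hxY₁⟩ ∈ Y₂ := hval ⟨x, hxY⟩
    have hV₂ : θ ⟨t₁ ⟨x, hxY₁⟩, htS₁⟩ ∈ Q := by
      rw [← E1]
      exact h _
    have E2 := hi₂ (t₁ ⟨x, hxY₁⟩) hY₂ htS₁ hV₂ htS
    refine Eq.trans ?_ E2
    show ψ ⟨φ ⟨θ ⟨x, hxS⟩, hxV⟩, _⟩ = _
    congr 1
    exact Subtype.ext E1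

omit [Fact p.Prime] in
theorem GflGHyp.np_inv (d : GflGHyp p θ N Nb H A) {R₀ : Subgroup Ω} (hR₀ : R₀ ∈ H)
    (P : Subgroup Ω') (hPT' : P ≤ T') (φ : P →* Ω') (ψ : φ.range →* Ω')
    (h1 : GflGPr' θ N A R₀ P φ) (hinv : ∀ x : P, ψ ⟨φ x, ⟨x, rfl⟩⟩ = (x : Ω')) :
    GflGPr' θ N A R₀ φ.range ψ := by
  obtain ⟨Y₁, t₁, hR₁, ht₁, hpre₁, ⟨a₁, ha₁, e₁⟩, hi₁⟩ := h1
  obtain ⟨s, hs, hsinv, hsr⟩ := Fusion.exists_inv N ht₁ rfl
  -- preimages under `a₁`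
  have hpre : ∀ (y : Ω) (hy : y ∈ R₀),
      t₁ ⟨(a₁⁻¹ ⟨y, hy⟩ : R₀), hR₁ (a₁⁻¹ ⟨y, hy⟩).2⟩ = y := by
    intro y hy
    have h2 := e₁ (a₁⁻¹ ⟨y, hy⟩).1 (a₁⁻¹ ⟨y, hy⟩).2
    rw [← h2]
    show ((a₁ (a₁⁻¹ ⟨y, hy⟩) : R₀) : Ω) = y
    rw [MulAut.apply_inv_self]
  have hR₀Y : R₀ ≤ t₁.range := by
    intro y hy
    exact ⟨⟨_, hR₁ (a₁⁻¹ ⟨y, hy⟩).2⟩, hpre y hy⟩
  have hY₁S : ∀ x : Y₁, t₁ x ∈ S := fun x => d.hTS (Fusion.map_mem N ht₁ x)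
  have hY₁S' : Y₁ ≤ S := (Fusion.src_le N ht₁).trans d.hTS
  refine ⟨t₁.range, s, hR₀Y, hs, ?_, ⟨a₁⁻¹, Subgroup.inv_mem _ ha₁, ?_⟩, ?_⟩
  · intro x hx
    obtain ⟨hxS, hxV⟩ := (Fusion.mem_preimageAlong θ φ.range x).mp hx
    obtain ⟨⟨w, hw⟩, hφw⟩ := hxV
    obtain ⟨v, hvT, hvS, rfl⟩ := d.exists_of_mem_T' (hPT' hw)
    have hvY₁ : v ∈ Y₁ := hpre₁ ((Fusion.mem_preimageAlong θ P v).mpr ⟨hvS, hw⟩)
    have E := hi₁ v hvY₁ hvS hw (hY₁S _)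
    -- `z := (t₁ v)⁻¹ x` lies in the kernel
    have hzS : (t₁ ⟨v, hvY₁⟩)⁻¹ * x ∈ S := S.mul_mem (S.inv_mem (hY₁S _)) hxS
    have hz1 : θ ⟨(t₁ ⟨v, hvY₁⟩)⁻¹ * x, hzS⟩ = 1 := by
      have h3 : (⟨(t₁ ⟨v, hvY₁⟩)⁻¹ * x, hzS⟩ : S) = ⟨t₁ ⟨v, hvY₁⟩, hY₁S _⟩⁻¹ * ⟨x, hxS⟩ := rfl
      rw [h3, map_mul, map_inv, ← E, hφw, inv_mul_cancel]
    have hz := hR₀Y (d.ker_mem hR₀ hzS hz1)
    have h4 : x = t₁ ⟨v, hvY₁⟩ * ((t₁ ⟨v, hvY₁⟩)⁻¹ * x) := by group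
    rw [h4]
    exact Subgroup.mul_mem _ ⟨_, rfl⟩ hz
  · intro y hy
    have h2 : (⟨y, hR₀Y hy⟩ : t₁.range) =
        ⟨t₁ ⟨(a₁⁻¹ ⟨y, hy⟩ : R₀), hR₁ (a₁⁻¹ ⟨y, hy⟩).2⟩, MonoidHom.mem_range.mpr ⟨_, rfl⟩⟩ :=
      Subtype.ext (hpre y hy).symm
    rw [h2]
    exact (hsinv ⟨(a₁⁻¹ ⟨y, hy⟩ : R₀), hR₁ (a₁⁻¹ ⟨y, hy⟩).2⟩ _).symm
  · intro x hxY hxS hxV htS
    obtain ⟨w, rfl⟩ := hxY
    obtain ⟨⟨u, hu⟩, hφu⟩ := hxV
    obtain ⟨v, hvT, hvS, rfl⟩ := d.exists_of_mem_T' (hPT' hu)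
    have hvY₁ : v ∈ Y₁ := hpre₁ ((Fusion.mem_preimageAlong θ P v).mpr ⟨hvS, hu⟩)
    have E := hi₁ v hvY₁ hvS hu (hY₁S _)
    have h5 : θ ⟨t₁ ⟨v, hvY₁⟩, hY₁S _⟩ = θ ⟨t₁ w, hxS⟩ := by
      rw [← E]
      exact hφu
    have h6 : θ ⟨v, hvS⟩ = θ ⟨w.1, hY₁S' w.2⟩ :=
      (d.map_eq_iff ht₁ v w.1 hvY₁ w.2 hvS (hY₁S' w.2) (hY₁S _) hxS).mp h5
    have h7 : (⟨θ ⟨t₁ w, hxS⟩, MonoidHom.mem_range.mpr ⟨⟨θ ⟨v, hvS⟩, hu⟩, hφu⟩⟩ : φ.range) =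
        ⟨φ ⟨θ ⟨v, hvS⟩, hu⟩, MonoidHom.mem_range.mpr ⟨_, rfl⟩⟩ := Subtype.ext hφu.symm
    rw [h7, hinv]
    show θ ⟨v, hvS⟩ = θ ⟨s ⟨t₁ w, _⟩, htS⟩
    rw [h6]
    congr 1
    apply Subtype.ext
    exact (hsinv w _).symm

omit [Fact p.Prime] in
theorem GflGHyp.np_base [Finite T] [Finite T'] (d : GflGHyp p θ N Nb H A) {R₀ : Subgroup Ω}
    (hR₀ : R₀ ∈ H) (V : Subgroup Ω') (α : MulAut V)
    (hα : V.subtype.comp α.toMonoidHom ∈ Nb.normalizerHom (imageAlong θ R₀) V) :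
    GflGPr' θ N A R₀ V (V.subtype.comp α.toMonoidHom) := by
  have hR₀T : R₀ ≤ T := d.H_le R₀ hR₀
  have hR₀S : R₀ ≤ S := hR₀T.trans d.hTS
  have hR₀b : imageAlong θ R₀ ≤ T' := d.image_le hR₀T
  obtain ⟨hαNb, hVN, hαval, ψ, hψ, hψext, hψR⟩ := hα
  have hψR₀ : ∀ x : imageAlong θ R₀, ψ (Subgroup.inclusion le_sup_right x) ∈ imageAlong θ R₀ := by
    intro x
    have h0 : ψ (Subgroup.inclusion le_sup_right x) ∈
        ((imageAlong θ R₀).subgroupOf (V ⊔ imageAlong θ R₀)).map ψ := by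
      refine ⟨_, ?_, rfl⟩
      rw [SetLike.mem_coe, Subgroup.mem_subgroupOf]
      exact x.2
    rwa [hψR] at h0
  have hψmem : ∀ x : ↥(V ⊔ imageAlong θ R₀), ψ x ∈ V ⊔ imageAlong θ R₀ := by
    apply Fusion.sup_map_mem
    · intro x
      rw [hψext]
      exact (le_sup_left : V ≤ V ⊔ imageAlong θ R₀) (α x).2
    · intro x
      exact (le_sup_right : imageAlong θ R₀ ≤ V ⊔ imageAlong θ R₀) (hψR₀ x)
  obtain ⟨β', hβ', eβ'⟩ := gfl_G_aut_of_hom Nb ψ hψ hψmem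
  have hVpT' : V ⊔ imageAlong θ R₀ ≤ T' := sup_le (hVN.trans inf_le_left) hR₀b
  have hR₀Vp : R₀ ≤ preimageAlong θ (V ⊔ imageAlong θ R₀) := by
    intro x hx
    rw [Fusion.mem_preimageAlong]
    exact ⟨hR₀S hx, (le_sup_right : imageAlong θ R₀ ≤ V ⊔ imageAlong θ R₀)
      (gfl_G_mem_image θ hx (hR₀S hx))⟩
  have hVpT : preimageAlong θ (V ⊔ imageAlong θ R₀) ≤ T := d.preimage_le hVpT'
  have hVpH : preimageAlong θ (V ⊔ imageAlong θ R₀) ∈ H := d.H_up R₀ hR₀ _ hR₀Vp hVpT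
  obtain ⟨a, ha, hind⟩ := d.onto' hVpT' hVpH hβ'
  obtain ⟨hPS, haS, hP', hI⟩ := hind
  have ht : (preimageAlong θ (V ⊔ imageAlong θ R₀)).subtype.comp a.toMonoidHom ∈
      N.Hom (preimageAlong θ (V ⊔ imageAlong θ R₀)) :=
    (Fusion.mem_autGroup_iff N hVpT a).mp (d.A_le _ hVpH ha)
  -- `a` preserves `R₀`
  have hpres : ∀ x : R₀, ((a ⟨x, hR₀Vp x.2⟩ : ↥(preimageAlong θ (V ⊔ imageAlong θ R₀))) : Ω) ∈ R₀ := by
    intro x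
    apply d.mem_of_map_mem hR₀ (haS ⟨x, hR₀Vp x.2⟩)
    have h1 := hI ⟨x, hR₀Vp x.2⟩
    rw [← h1]
    show ((β' ⟨θ ⟨x, _⟩, _⟩ : ↥(V ⊔ imageAlong θ R₀)) : Ω') ∈ imageAlong θ R₀
    rw [eβ']
    exact hψR₀ ⟨θ ⟨x, hR₀S x.2⟩, gfl_G_mem_image θ x.2 _⟩
  have htR := Fusion.restrict_mem N ht hR₀Vp
  obtain ⟨β, -, eβ⟩ := gfl_G_aut_of_hom N _ htR hpres
  have hβA : β ∈ A R₀ := d.RC _ hVpH R₀ hR₀ hR₀Vp a ha β (fun x => eβ x)
  refine ⟨_, _, hR₀Vp, ht, gfl_G_preimageAlong_mono θ le_sup_left, ⟨β, hβA, fun y hy => eβ ⟨y, hy⟩⟩, ?_⟩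
  intro x hxY hxS hxV htS
  have h1 := hI ⟨x, hxY⟩
  refine Eq.trans ?_ h1
  show ((α ⟨θ ⟨x, hxS⟩, hxV⟩ : V) : Ω') = ((β' ⟨θ ⟨x, _⟩, _⟩ : ↥(V ⊔ imageAlong θ R₀)) : Ω')
  rw [eβ']
  exact (hψext ⟨θ ⟨x, hxS⟩, hxV⟩).symm

/-- Every map of the normalizer system of the image of the base point satisfies the lifting predicate. -/
theorem GflGHyp.norm_pred [Finite T] [Finite T'] (hT' : IsPGroup p T') (d : GflGHyp p θ N Nb H A)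
    {R₀ : Subgroup Ω} (hR₀ : R₀ ∈ H) (hfn : Nb.IsFullyNormalized (imageAlong θ R₀))
    {Vb : Subgroup Ω'} {tb : Vb →* Ω'} (htb : tb ∈ Nb.normalizerHom (imageAlong θ R₀) Vb) :
    GflGPr' θ N A R₀ Vb tb := by
  have hR₀b : imageAlong θ R₀ ≤ T' := d.image_le (d.H_le R₀ hR₀)
  have hsat : (Cfsg.Agent.S5096.normSys Nb (imageAlong θ R₀) hR₀b).IsSaturated p :=
    Fusion.normalizerSystem_isSaturated p hT' Nb d.satb _ hfn _ (fun _ => rfl)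
  have : Finite (normalizerIn T' (imageAlong θ R₀)) := Fusion.finite_of_le inf_le_left
  have hNp : IsPGroup p (normalizerIn T' (imageAlong θ R₀)) := hT'.to_le inf_le_left
  refine Fusion.pred_of_alperin_ind p hNp (Cfsg.Agent.S5096.normSys Nb (imageAlong θ R₀) hR₀b) hsat
    (GflGPr' θ N A R₀) ?_ ?_ ?_ ?_ htb
  · intro Vb g hVb hg
    exact d.np_conj hR₀ Vb g hVb hg
  · intro P Q φ ψ h _ _ h1 h2
    exact d.np_comp P Q φ ψ h h1 h2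
  · intro P φ ψ hφ h1 _ hinv
    have hPT' : P ≤ T' := (Fusion.src_le _ hφ).trans inf_le_left
    exact d.np_inv hR₀ P hPT' φ ψ h1 hinv
  · intro V hV _ α hα
    have hVN : V ≤ normalizerIn T' (imageAlong θ R₀) := by
      rcases hV with rfl | hess
      · exact le_rfl
      · exact hess.1.1
    exact d.np_base hR₀ V α
      ((Fusion.mem_autGroup_iff (Cfsg.Agent.S5096.normSys Nb (imageAlong θ R₀) hR₀b) hVN α).mp hα)

/-- The key lemma at the base point: a map of `N` defined on `U ⊇ R₀` inside `N_T(R₀)` and preserving `R₀` restricts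
to an element of `A R₀`, if the theorem is known at `U`. -/
theorem GflGHyp.key [Finite T] [Finite T'] (hT' : IsPGroup p T') (d : GflGHyp p θ N Nb H A)
    {R₀ : Subgroup Ω} (hR₀ : R₀ ∈ H) (hfn : Nb.IsFullyNormalized (imageAlong θ R₀))
    (U : Subgroup Ω) (θ₀ : U →* Ω) (hθ₀ : θ₀ ∈ N.Hom U) (hR₀U : R₀ ≤ U)
    (hUN : U ≤ normalizerIn T R₀) (IH : N.autGroup U ≤ A U)
    (hpres : ∀ (y : Ω) (hy : y ∈ R₀), θ₀ ⟨y, hR₀U hy⟩ ∈ R₀) :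
    ∃ a₀ ∈ A R₀, ∀ (y : Ω) (hy : y ∈ R₀), ((a₀ ⟨y, hy⟩ : R₀) : Ω) = θ₀ ⟨y, hR₀U hy⟩ := by
  have hUT : U ≤ T := Fusion.src_le N hθ₀
  have hUS : U ≤ S := hUT.trans d.hTS
  have hUH : U ∈ H := d.H_up R₀ hR₀ U hR₀U hUT
  have hR₀T : R₀ ≤ T := d.H_le R₀ hR₀
  have hR₀S : R₀ ≤ S := hR₀T.trans d.hTS
  have : Finite R₀ := Fusion.finite_of_le hR₀T
  have hsurj := gfl_G_surj_of_inj θ₀ (N.injective_of_mem hθ₀) hR₀U hpres
  obtain ⟨θb, hθb, -, hI⟩ := d.ind' hθ₀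
  have hθ₀S : ∀ u : U, θ₀ u ∈ S := fun u => d.hTS (Fusion.map_mem N hθ₀ u)
  have hθ₀N : ∀ u : U, θ₀ u ∈ normalizerIn T R₀ := by
    intro u
    refine ⟨Fusion.map_mem N hθ₀ u, ?_⟩
    have key : ∀ z : U, ∀ r ∈ R₀, θ₀ z * r * (θ₀ z)⁻¹ ∈ R₀ := by
      intro z r hr
      obtain ⟨r', hr', rfl⟩ := hsurj r hr
      have hzn : (z : Ω) ∈ Subgroup.normalizer (R₀ : Set Ω) := (hUN z.2).2
      have h1 : (z : Ω) * r' * (z : Ω)⁻¹ ∈ R₀ := (Subgroup.mem_normalizer_iff.mp hzn r').mp hr'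
      have h2 : θ₀ z * θ₀ ⟨r', hR₀U hr'⟩ * (θ₀ z)⁻¹ = θ₀ ⟨(z : Ω) * r' * (z : Ω)⁻¹, hR₀U h1⟩ := by
        rw [← map_inv, ← map_mul, ← map_mul]
        rfl
      rw [h2]
      exact hpres _ h1
    apply mem_normalizer_of_conj_mem
    · exact key u
    · intro r hr
      have h3 := key u⁻¹ r hr
      rw [map_inv, inv_inv] at h3
      exact h3
  have hNle := d.normalizer_le (θ := θ) R₀
  have hUb : imageAlong θ U ≤ normalizerIn T' (imageAlong θ R₀) := by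
    intro y hy
    obtain ⟨u, hu, huS, rfl⟩ := (Fusion.mem_imageAlong θ U y).mp hy
    obtain ⟨_, h⟩ := (Fusion.mem_preimageAlong θ _ u).mp (hNle (hUN hu))
    exact h
  have hvalb : ∀ y : imageAlong θ U, θb y ∈ normalizerIn T' (imageAlong θ R₀) := by
    rintro ⟨y, hy⟩
    obtain ⟨u, hu, huS, rfl⟩ := (Fusion.mem_imageAlong θ U y).mp hy
    rw [hI u hu huS hy (hθ₀S _)]
    obtain ⟨_, h⟩ := (Fusion.mem_preimageAlong θ _ _).mp (hNle (hθ₀N ⟨u, hu⟩))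
    exact h
  have hR₀bU : imageAlong θ R₀ ≤ imageAlong θ U := gfl_G_imageAlong_mono θ hR₀U
  have hle : imageAlong θ U ⊔ imageAlong θ R₀ ≤ imageAlong θ U := sup_le le_rfl hR₀bU
  have hψ := Fusion.restrict_mem Nb hθb hle
  have hNH : θb ∈ Nb.normalizerHom (imageAlong θ R₀) (imageAlong θ U) := by
    refine ⟨hθb, hUb, hvalb, θb.comp (Subgroup.inclusion hle), hψ, fun x => rfl, ?_⟩
    ext y
    constructor
    · rintro ⟨m, hm, rfl⟩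
      rw [SetLike.mem_coe, Subgroup.mem_subgroupOf] at hm
      obtain ⟨r, hr, hrS, hrm⟩ := (Fusion.mem_imageAlong θ R₀ _).mp hm
      have h1 := hI r (hR₀U hr) hrS (gfl_G_mem_image θ (hR₀U hr) hrS) (hθ₀S _)
      have h2 : (θb.comp (Subgroup.inclusion hle)) m = θ ⟨θ₀ ⟨r, hR₀U hr⟩, hθ₀S _⟩ := by
        rw [← h1]
        show θb ⟨m.1, _⟩ = θb ⟨θ ⟨r, hrS⟩, _⟩
        congr 1
        exact Subtype.ext hrm.symm
      rw [h2]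
      exact gfl_G_mem_image θ (hpres r hr) _
    · intro hy
      obtain ⟨r, hr, hrS, rfl⟩ := (Fusion.mem_imageAlong θ R₀ y).mp hy
      obtain ⟨r', hr', hrr'⟩ := hsurj r hr
      have hr'S := hR₀S hr'
      refine ⟨⟨θ ⟨r', hr'S⟩, (le_sup_right : imageAlong θ R₀ ≤ imageAlong θ U ⊔ imageAlong θ R₀)
        (gfl_G_mem_image θ hr' hr'S)⟩, ?_, ?_⟩
      · rw [SetLike.mem_coe, Subgroup.mem_subgroupOf]
        exact gfl_G_mem_image θ hr' hr'S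
      · have h1 := hI r' (hR₀U hr') hr'S (gfl_G_mem_image θ (hR₀U hr') hr'S) (hθ₀S _)
        refine Eq.trans h1 ?_
        congr 1
        exact Subtype.ext hrr'
  obtain ⟨Y, t, hR₀Y, ht, hpreY, ⟨a₁, ha₁, e₁⟩, hi⟩ := d.norm_pred hT' hR₀ hfn hNH
  have hUY : U ≤ Y := fun x hx =>
    hpreY ((Fusion.mem_preimageAlong θ _ x).mpr ⟨hUS hx, gfl_G_mem_image θ hx _⟩)
  have hθ'' := Fusion.restrict_mem N ht hUY
  set θ'' : U →* Ω := t.comp (Subgroup.inclusion hUY) with hθ''def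
  have hθ''S : ∀ u : U, θ'' u ∈ S := fun u => d.hTS (Fusion.map_mem N hθ'' u)
  have heq : ∀ u : U, θ ⟨θ₀ u, hθ₀S u⟩ = θ ⟨θ'' u, hθ''S u⟩ := by
    intro u
    have hm := gfl_G_mem_image θ u.2 (hUS u.2)
    rw [← hI u.1 u.2 (hUS u.2) hm (hθ₀S u)]
    exact hi u.1 (hUY u.2) (hUS u.2) hm (hθ''S u)
  have hrange : θ''.range = θ₀.range := by
    have hH1 : θ''.range ∈ H := d.H_conj U hUH θ'' hθ''
    have hH0 : θ₀.range ∈ H := d.H_conj U hUH θ₀ hθ₀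
    apply le_antisymm
    · rintro _ ⟨u, rfl⟩
      apply d.mem_of_map_mem hH0 (hθ''S u)
      rw [← heq u]
      exact gfl_G_mem_image θ (MonoidHom.mem_range.mpr ⟨u, rfl⟩) _
    · rintro _ ⟨u, rfl⟩
      apply d.mem_of_map_mem hH1 (hθ₀S u)
      rw [heq u]
      exact gfl_G_mem_image θ (MonoidHom.mem_range.mpr ⟨u, rfl⟩) _
  obtain ⟨s, hs, hsinv, hsr⟩ := Fusion.exists_inv N hθ'' rfl
  have hθ₀r : ∀ u : U, θ₀ u ∈ θ''.range := by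
    intro u
    rw [hrange]
    exact MonoidHom.mem_range.mpr ⟨u, rfl⟩
  have hk := N.comp_mem hθ₀ hs hθ₀r
  set k : U →* Ω := s.comp (θ₀.codRestrict θ''.range hθ₀r) with hkdef
  have hkU : ∀ u : U, k u ∈ U := by
    intro u
    have h0 : k u ∈ s.range := MonoidHom.mem_range.mpr ⟨_, rfl⟩
    rwa [hsr] at h0
  obtain ⟨κ, hκ, eκ⟩ := gfl_G_aut_of_hom N k hk hkU
  have hκA : κ ∈ A U := IH hκ
  have hθk : ∀ u : U, θ'' ⟨k u, hkU u⟩ = θ₀ u := by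
    intro u
    obtain ⟨w, hw⟩ := hθ₀r u
    have e : (⟨θ₀ u, hθ₀r u⟩ : θ''.range) = ⟨θ'' w, MonoidHom.mem_range.mpr ⟨w, rfl⟩⟩ :=
      Subtype.ext hw.symm
    have h1 : k u = w := by
      show s ⟨θ₀ u, _⟩ = w
      rw [e]
      exact hsinv w _
    have e2 : (⟨k u, hkU u⟩ : U) = w := Subtype.ext h1
    rw [e2]
    exact hw
  have hkR₀ : ∀ (y : Ω) (hy : y ∈ R₀), k ⟨y, hR₀U hy⟩ ∈ R₀ := by
    intro y hy
    have h1 := hpres y hy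
    have h2 : t ⟨(a₁⁻¹ ⟨θ₀ ⟨y, hR₀U hy⟩, h1⟩ : R₀), hR₀Y (a₁⁻¹ ⟨θ₀ ⟨y, hR₀U hy⟩, h1⟩).2⟩ =
        θ₀ ⟨y, hR₀U hy⟩ := by
      rw [← e₁ (a₁⁻¹ ⟨θ₀ ⟨y, hR₀U hy⟩, h1⟩).1 (a₁⁻¹ ⟨θ₀ ⟨y, hR₀U hy⟩, h1⟩).2]
      show ((a₁ (a₁⁻¹ ⟨θ₀ ⟨y, hR₀U hy⟩, h1⟩) : R₀) : Ω) = _
      rw [MulAut.apply_inv_self]
    have h3 : t ⟨k ⟨y, hR₀U hy⟩, hUY (hkU _)⟩ = θ₀ ⟨y, hR₀U hy⟩ := hθk ⟨y, hR₀U hy⟩
    have h4 := N.injective_of_mem ht (h3.trans h2.symm)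
    have h5 : k ⟨y, hR₀U hy⟩ = ((a₁⁻¹ ⟨θ₀ ⟨y, hR₀U hy⟩, h1⟩ : R₀) : Ω) :=
      congrArg (fun z : Y => (z : Ω)) h4
    rw [h5]
    exact (a₁⁻¹ ⟨θ₀ ⟨y, hR₀U hy⟩, h1⟩).2
  have hkR := Fusion.restrict_mem N hk hR₀U
  obtain ⟨β, -, eβ⟩ := gfl_G_aut_of_hom N _ hkR (fun x => hkR₀ x.1 x.2)
  have hβA : β ∈ A R₀ := by
    apply d.RC U hUH R₀ hR₀ hR₀U κ hκA β
    intro x
    rw [eβ x, eκ]
    rfl
  refine ⟨a₁ * β, Subgroup.mul_mem _ ha₁ hβA, ?_⟩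
  intro y hy
  rw [MulAut.mul_apply, e₁ (β ⟨y, hy⟩).1 (β ⟨y, hy⟩).2]
  have h5 : ((β ⟨y, hy⟩ : R₀) : Ω) = k ⟨y, hR₀U hy⟩ := eβ ⟨y, hy⟩
  have h6 := hθk ⟨y, hR₀U hy⟩
  refine Eq.trans ?_ h6
  show t ⟨_, _⟩ = t ⟨_, _⟩
  congr 1
  exact Subtype.ext h5

/-- **(G), abstract form**: the generated system has at most the prescribed automizers on `H`. -/
theorem gfl_G_le [Finite T] [Finite T'] (hT : IsPGroup p T) (hT' : IsPGroup p T')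
    (d : GflGHyp p θ N Nb H A) : ∀ P ∈ H, N.autGroup P ≤ A P := by
  suffices h : ∀ n : ℕ, ∀ P ∈ H, Nat.card T - Nat.card P = n → N.autGroup P ≤ A P from
    fun P hP => h _ P hP rfl
  intro n
  induction n using Nat.strong_induction_on with
  | _ n ih =>
  intro P hP hn
  have hPT : P ≤ T := d.H_le P hP
  have IH : ∀ U ∈ H, Nat.card P < Nat.card U → N.autGroup U ≤ A U := by
    intro U hU hlt
    have hUT := d.H_le U hU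
    have h1 : Nat.card U ≤ Nat.card T := Subgroup.card_le_of_le hUT
    exact ih (Nat.card T - Nat.card U) (by omega) U hU rfl
  obtain ⟨R₀, hR₀, hfn⟩ := d.exists_base hP
  have hR₀H : R₀ ∈ H := d.isConj_mem hP hR₀
  have hchi := d.exists_chi hT' hP hR₀ hfn
  have hchi' : ∀ R : Subgroup Ω, ∃ χ : normalizerIn T R →* Ω, N.IsConj P R →
      (χ ∈ N.Hom (normalizerIn T R) ∧ (∀ x, χ x ∈ normalizerIn T R₀) ∧ gflGImg χ R = R₀) := by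
    intro R
    by_cases h : N.IsConj P R
    · obtain ⟨χ, h1⟩ := hchi R h
      exact ⟨χ, fun _ => h1⟩
    · exact ⟨1, fun h' => absurd h' h⟩
  choose chi hchiS using hchi'
  have c : GflGChi N P R₀ chi :=
    ⟨fun R h => (hchiS R h).1, fun R h => (hchiS R h).2.1, fun R h => (hchiS R h).2.2⟩
  have KL : ∀ (U : Subgroup Ω) (θ₀ : U →* Ω), θ₀ ∈ N.Hom U → ∀ hR₀U : R₀ ≤ U,
      U ≤ normalizerIn T R₀ → Nat.card P < Nat.card U →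
      (∀ (y : Ω) (hy : y ∈ R₀), θ₀ ⟨y, hR₀U hy⟩ ∈ R₀) →
      ∃ a₀ ∈ A R₀, ∀ (y : Ω) (hy : y ∈ R₀), ((a₀ ⟨y, hy⟩ : R₀) : Ω) = θ₀ ⟨y, hR₀U hy⟩ := by
    intro U θ₀ hθ₀ hR₀U hUN hcard hpres
    have hUH : U ∈ H := d.H_up R₀ hR₀H U hR₀U (Fusion.src_le N hθ₀)
    exact d.key hT' hR₀H hfn U θ₀ hθ₀ hR₀U hUN (IH U hUH hcard) hpres
  have CL : ∀ R' ∈ H, ∀ a ∈ A R', GflGPr N A P R₀ chi R' (R'.subtype.comp a.toMonoidHom) :=
    fun R' hR' a ha => d.claim hT c hP KL hR' ha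
  have hconj : ∀ (Q : Subgroup Ω) (g : Ω), Q ≤ T → g ∈ T → GflGPr N A P R₀ chi Q (conjHom Q g) := by
    intro Q g hQ hg
    have hgn : g ∈ Subgroup.normalizer (T : Set Ω) := Subgroup.le_normalizer hg
    have haT : conjAutHom T ⟨g, hgn⟩ ∈ A T :=
      d.A_inn T d.H_top (Fusion.conjAutHom_mem_autInducedBy T ⟨g, hgn⟩ hg)
    have h1 := CL T d.H_top _ haT
    have h2 := gfl_G_pr_restrict hQ h1
    have e : (T.subtype.comp (conjAutHom T ⟨g, hgn⟩).toMonoidHom).comp (Subgroup.inclusion hQ) =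
        conjHom Q g := by
      ext x
      rfl
    rwa [e] at h2
  have hNW : N ≤ Fusion.subOfPred N (GflGPr N A P R₀ chi) hconj
      (fun _ _ _ _ h hφ _ h1 h2 => gfl_G_pr_comp h hφ h1 h2)
      (fun _ _ _ _ h1 hψ hinv => gfl_G_pr_inv c h1 hψ hinv) := by
    apply d.gen
    intro R' hR' a ha
    rw [Fusion.mem_autGroup_iff _ (d.H_le R' hR')]
    exact ⟨(Fusion.mem_autGroup_iff N (d.H_le R' hR') a).mp (d.A_le R' hR' ha), CL R' hR' a ha⟩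
  intro α hα
  have hαN := (Fusion.mem_autGroup_iff N hPT α).mp hα
  have hPr : GflGPr N A P R₀ chi P (P.subtype.comp α.toMonoidHom) := (hNW P hαN).2
  have hPP := Fusion.isConj_refl N hPT
  obtain ⟨a₀, ha₀, e⟩ := hPr P le_rfl hPP
  have himg : gflGImg (P.subtype.comp α.toMonoidHom) P = P := by
    ext y
    rw [gfl_G_mem_img]
    constructor
    · rintro ⟨x, hxQ, hx, rfl⟩
      exact (α ⟨x, hxQ⟩).2
    · intro hy
      obtain ⟨z, hz⟩ := α.surjective ⟨y, hy⟩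
      exact ⟨z.1, z.2, z.2, congrArg Subtype.val hz⟩
  rw [himg] at e
  have hPN : P ≤ normalizerIn T P := Fusion.le_normalizerIn hPT
  have hf := Fusion.restrict_mem N (c.mem P hPP) hPN
  have hfr : ((chi P).comp (Subgroup.inclusion hPN)).range = R₀ := by
    rw [← gfl_G_img_eq_range]
    exact c.img P hPP
  obtain ⟨g, hg, hginv, hgr⟩ := Fusion.exists_inv N hf hfr
  obtain ⟨a'', ha'', e''⟩ := d.A_inv' hR₀H hg hgr ha₀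
  have hfR₀ : ∀ x : P, chi P ⟨x.1, hPN x.2⟩ ∈ R₀ := fun x => c.map_mem hPP x.2 (hPN x.2)
  have hgP : ∀ x : P, g ⟨chi P ⟨x.1, hPN x.2⟩, hfR₀ x⟩ = (x : Ω) := fun x => hginv x (hfR₀ x)
  have hgP' : ∀ x : P, g ⟨chi P ⟨x.1, hPN x.2⟩, hfR₀ x⟩ ∈ P := fun x => by
    rw [hgP x]
    exact x.2
  have hfin : a'' = α := by
    apply MulEquiv.ext
    intro x
    apply Subtype.ext
    have h1 := e'' ⟨chi P ⟨x.1, hPN x.2⟩, hfR₀ x⟩ (hgP' x)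
    have h2 : (⟨g ⟨chi P ⟨x.1, hPN x.2⟩, hfR₀ x⟩, hgP' x⟩ : P) = x := Subtype.ext (hgP x)
    rw [h2] at h1
    rw [h1]
    have h3 := e x.1 x.2 x.2 (hPN x.2) (hPN (α x).2) (hfR₀ x)
    have h4 : a₀ ⟨chi P ⟨x.1, hPN x.2⟩, hfR₀ x⟩ =
        ⟨chi P ⟨(α x).1, hPN (α x).2⟩, hfR₀ (α x)⟩ := Subtype.ext h3
    rw [h4]
    exact hgP (α x)
  rw [← hfin]
  exact ha''

end Main

end Cfsg.Agent.GFS
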