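import Mathlib
import Cfsg.Agent.GFS.LiftDefs
import Cfsg.Agent.Lead.FusionHypQuot
import Cfsg.Agent.Lead.FusionConj

set_option autoImplicit false

/-!
# N2, helper API for P2: automorphisms induced on the image, the groups `B(Q)` and `K_Q`

`GflIndA θ hQS a a'`: the automorphism `a'` of `θ(Q)` is induced by the automorphism `a` of `Q`.
`gflBsub`: the subgroup `B(Q)` of the elements of `Aut_M(Q)` inducing an element of `Aut_Nb(θ Q)`.
`gflKsub`: the subgroup `K_Q` of the elements of `Aut_M(Q)` that are trivial modulo `Z`.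
-/

namespace Cfsg.Agent.GFS

open Cfsg Cfsg.FusionSystem Cfsg.Agent.Lead

universe u v

variable {Ω : Type u} [Group Ω] {S : Subgroup Ω} {Ω' : Type v} [Group Ω'] {S' T' : Subgroup Ω'}

/-- `a' ∈ Aut(θ Q)` is induced by `a ∈ Aut(Q)`. -/
def GflIndA (θ : S →* Ω') {Q : Subgroup Ω} (hQS : Q ≤ S) (a : MulAut Q)
    (a' : MulAut (imageAlong θ Q)) : Prop :=
  ∀ x : Q, a' (Fusion.toImg θ Q hQS x) = Fusion.toImg θ Q hQS (a x)

theorem gflIndA_one (θ : S →* Ω') {Q : Subgroup Ω} (hQS : Q ≤ S) : GflIndA θ hQS 1 1 := fun _ => rfl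

theorem gflIndA_mul (θ : S →* Ω') {Q : Subgroup Ω} (hQS : Q ≤ S) {a b : MulAut Q}
    {a' b' : MulAut (imageAlong θ Q)} (ha : GflIndA θ hQS a a') (hb : GflIndA θ hQS b b') :
    GflIndA θ hQS (a * b) (a' * b') := by
  intro x
  rw [MulAut.mul_apply, MulAut.mul_apply, hb x, ha (b x)]

theorem gflIndA_inv (θ : S →* Ω') {Q : Subgroup Ω} (hQS : Q ≤ S) {a : MulAut Q}
    {a' : MulAut (imageAlong θ Q)} (ha : GflIndA θ hQS a a') : GflIndA θ hQS a⁻¹ a'⁻¹ := by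
  intro x
  have h := ha (a⁻¹ x)
  rw [MulAut.apply_inv_self] at h
  rw [← h, MulAut.inv_apply_self]

theorem gflIndA_pow (θ : S →* Ω') {Q : Subgroup Ω} (hQS : Q ≤ S) {a : MulAut Q}
    {a' : MulAut (imageAlong θ Q)} (ha : GflIndA θ hQS a a') (n : ℕ) :
    GflIndA θ hQS (a ^ n) (a' ^ n) := by
  induction n with
  | zero => simpa using gflIndA_one θ hQS
  | succ n ih =>
    rw [pow_succ, pow_succ]
    exact gflIndA_mul θ hQS ih ha

theorem gflIndA_unique (θ : S →* Ω') {Q : Subgroup Ω} (hQS : Q ≤ S) {a : MulAut Q}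
    {a₁ a₂ : MulAut (imageAlong θ Q)} (h₁ : GflIndA θ hQS a a₁) (h₂ : GflIndA θ hQS a a₂) :
    a₁ = a₂ := by
  ext y
  obtain ⟨x, rfl⟩ := Fusion.toImg_surjective θ Q hQS y
  rw [h₁ x, h₂ x]

/-- the coordinate form of `GflIndA` -/
theorem gflIndA_coe (θ : S →* Ω') {Q : Subgroup Ω} (hQS : Q ≤ S) {a : MulAut Q}
    {a' : MulAut (imageAlong θ Q)} (h : GflIndA θ hQS a a') (x : Q) :
    ((a' (Fusion.toImg θ Q hQS x) : imageAlong θ Q) : Ω') = θ ⟨(a x : Q), hQS (a x).2⟩ := by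
  rw [h x]
  rfl

theorem gflIndA_iff_inducedAlong (θ : S →* Ω') {Q : Subgroup Ω} (hQS : Q ≤ S) (a : MulAut Q)
    (a' : MulAut (imageAlong θ Q)) :
    GflIndA θ hQS a a' ↔ InducedAlong θ (gflHom a) (gflHom a') := by
  constructor
  · intro h
    refine ⟨hQS, fun x => hQS (a x).2, fun x => (Fusion.toImg θ Q hQS x).2, fun x => ?_⟩
    exact gflIndA_coe θ hQS h x
  · rintro ⟨hP, hφ, hP', hx⟩ x
    apply Subtype.ext
    exact hx x

/-- an element of `Aut(Q)` inducing a map of `Nb` induces an element of `Aut_Nb(θ Q)` -/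
theorem gflB_iff (θ : S →* Ω') (Nb : FusionSystem T') {Q : Subgroup Ω} (hQS : Q ≤ S)
    (hQT' : imageAlong θ Q ≤ T') (a : MulAut Q) :
    GflB θ Nb Q a ↔ ∃ a' ∈ Nb.autGroup (imageAlong θ Q), GflIndA θ hQS a a' := by
  constructor
  · rintro ⟨φ', hφ', hP, hφ, hP', hx⟩
    have hr : φ'.range = imageAlong θ Q := by
      apply le_antisymm
      · rintro _ ⟨y, rfl⟩
        obtain ⟨x, rfl⟩ := Fusion.toImg_surjective θ Q hQS y
        have := hx x
        rw [show (⟨θ ⟨(x : Ω), hP x.2⟩, hP' x⟩ : imageAlong θ Q) = Fusion.toImg θ Q hQS x from rfl] at this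
        rw [this]
        exact (Fusion.toImg θ Q hQS (a x)).2
      · intro y hy
        obtain ⟨x, hx'⟩ := Fusion.toImg_surjective θ Q hQS ⟨y, hy⟩
        refine ⟨Fusion.toImg θ Q hQS (a⁻¹ x), ?_⟩
        have := hx (a⁻¹ x)
        rw [show (⟨θ ⟨((a⁻¹ x : Q) : Ω), hP (a⁻¹ x).2⟩, hP' (a⁻¹ x)⟩ : imageAlong θ Q) =
          Fusion.toImg θ Q hQS (a⁻¹ x) from rfl] at this
        rw [this]
        have e : (gflHom a) (a⁻¹ x) = (x : Ω) := by
          show ((a (a⁻¹ x) : Q) : Ω) = x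
          rw [MulAut.apply_inv_self]
        have e2 : (⟨(gflHom a) (a⁻¹ x), hφ (a⁻¹ x)⟩ : S) = ⟨(x : Ω), hQS x.2⟩ := Subtype.ext e
        rw [e2]
        exact congrArg Subtype.val hx'
    refine ⟨Fusion.equivOfRange φ' (Nb.injective_of_mem hφ') hr, ?_, ?_⟩
    · rw [Fusion.mem_autGroup_iff Nb hQT']
      have : (imageAlong θ Q).subtype.comp
          (Fusion.equivOfRange φ' (Nb.injective_of_mem hφ') hr).toMonoidHom = φ' := by
        ext y
        rfl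
      rw [this]
      exact hφ'
    · intro x
      apply Subtype.ext
      rw [Fusion.equivOfRange_coe]
      exact hx x
  · rintro ⟨a', ha', hind⟩
    exact ⟨gflHom a', (Fusion.mem_autGroup_iff Nb hQT' a').1 ha',
      (gflIndA_iff_inducedAlong θ hQS a a').1 hind⟩

/-- `B(Q)`: the elements of `Aut_M(Q)` inducing an element of `Aut_Nb(θ Q)`. -/
def gflBsub (M : FusionSystem S) (θ : S →* Ω') (Nb : FusionSystem T') {Q : Subgroup Ω} (hQS : Q ≤ S) :
    Subgroup (MulAut Q) where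
  carrier := {a | a ∈ M.autGroup Q ∧ ∃ a' ∈ Nb.autGroup (imageAlong θ Q), GflIndA θ hQS a a'}
  one_mem' := ⟨Subgroup.one_mem _, 1, Subgroup.one_mem _, gflIndA_one θ hQS⟩
  mul_mem' := by
    rintro a b ⟨ha, a', ha', hia⟩ ⟨hb, b', hb', hib⟩
    exact ⟨Subgroup.mul_mem _ ha hb, a' * b', Subgroup.mul_mem _ ha' hb', gflIndA_mul θ hQS hia hib⟩
  inv_mem' := by
    rintro a ⟨ha, a', ha', hia⟩
    exact ⟨Subgroup.inv_mem _ ha, a'⁻¹, Subgroup.inv_mem _ ha', gflIndA_inv θ hQS hia⟩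

theorem mem_gflBsub (M : FusionSystem S) (θ : S →* Ω') (Nb : FusionSystem T') {Q : Subgroup Ω}
    (hQS : Q ≤ S) (hQT' : imageAlong θ Q ≤ T') (a : MulAut Q) :
    a ∈ gflBsub M θ Nb hQS ↔ a ∈ M.autGroup Q ∧ GflB θ Nb Q a := by
  rw [gflB_iff θ Nb hQS hQT']
  rfl

theorem gflBsub_le (M : FusionSystem S) (θ : S →* Ω') (Nb : FusionSystem T') {Q : Subgroup Ω}
    (hQS : Q ≤ S) : gflBsub M θ Nb hQS ≤ M.autGroup Q := fun _ h => h.1

/-- `K_Q`: the elements of `Aut_M(Q)` trivial modulo `Z`. -/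
def gflKsub (M : FusionSystem S) (Z Q : Subgroup Ω) : Subgroup (MulAut Q) where
  carrier := {a | a ∈ M.autGroup Q ∧ GflK Z Q a}
  one_mem' := ⟨Subgroup.one_mem _, fun x => by simp⟩
  mul_mem' := by
    rintro a b ⟨ha, hka⟩ ⟨hb, hkb⟩
    refine ⟨Subgroup.mul_mem _ ha hb, fun x => ?_⟩
    have h1 := hkb x
    have h2 := hka (b x)
    have : (x : Ω)⁻¹ * (((a * b) x : Q) : Ω) =
        ((x : Ω)⁻¹ * ((b x : Q) : Ω)) * (((b x : Q) : Ω)⁻¹ * ((a (b x) : Q) : Ω)) := by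
      rw [MulAut.mul_apply]
      group
    rw [this]
    exact Z.mul_mem h1 h2
  inv_mem' := by
    rintro a ⟨ha, hka⟩
    refine ⟨Subgroup.inv_mem _ ha, fun x => ?_⟩
    have h1 := hka (a⁻¹ x)
    rw [MulAut.apply_inv_self] at h1
    have : (x : Ω)⁻¹ * ((a⁻¹ x : Q) : Ω) = (((a⁻¹ x : Q) : Ω)⁻¹ * (x : Ω))⁻¹ := by group
    rw [this]
    exact Z.inv_mem h1

theorem mem_gflKsub (M : FusionSystem S) (Z Q : Subgroup Ω) (a : MulAut Q) :
    a ∈ gflKsub M Z Q ↔ a ∈ M.autGroup Q ∧ GflK Z Q a := Iff.rfl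

/-- `GflK` = inducing the identity, when `Z` is the kernel of `θ`. -/
theorem gflK_iff_ind (θ : S →* Ω') {Z Q : Subgroup Ω} (hQS : Q ≤ S)
    (hker : ∀ s : S, θ s = 1 ↔ (s : Ω) ∈ Z) (a : MulAut Q) :
    GflK Z Q a ↔ GflIndA θ hQS a 1 := by
  constructor
  · intro h x
    apply Subtype.ext
    have h1 := h x
    have h2 : θ (⟨(x : Ω), hQS x.2⟩⁻¹ * ⟨((a x : Q) : Ω), hQS (a x).2⟩) = 1 := (hker _).2 h1
    rw [map_mul, map_inv, inv_mul_eq_one] at h2
    exact h2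
  · intro h x
    have h1 := congrArg Subtype.val (h x)
    have h2 : θ ⟨(x : Ω), hQS x.2⟩ = θ ⟨((a x : Q) : Ω), hQS (a x).2⟩ := h1
    have h3 : θ (⟨(x : Ω), hQS x.2⟩⁻¹ * ⟨((a x : Q) : Ω), hQS (a x).2⟩) = 1 := by
      rw [map_mul, map_inv, inv_mul_eq_one]
      exact h2
    exact (hker _).1 h3

end Cfsg.Agent.GFS
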