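import Mathlib

set_option autoImplicit false

/-!
# GFS (lifting a normal subsystem through a central quotient): the transfer lemma behind step L1

Pure finite group theory, no fusion systems.  `B` a finite group, `Sig ≤ B` of index prime to `p`,
`ϕ : Sig →* A` a homomorphism to a commutative `p`-group whose kernel is closed under `B`-fusion inside `Sig`.
If `k ∈ Sig` is such that all `B`-conjugates of its powers lying in `Sig` have the same `ϕ`-value as the power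
itself ("`k` is central modulo `ker ϕ`"), and `k` lies in the subgroup generated by the `p'`-elements of `B`
and `ker ϕ`, then `ϕ k = 1`  (`gfs_transfer_core`).

Subgroup form (`gfs_transfer_meet`): `Sig = Th K` with `[B, K] ≤ Th` and `Th` strongly closed in `Sig`
with respect to `B`; then `(O^p(B) Th) ∩ K ≤ Th`.
-/

namespace Cfsg.Agent.GFS

open Subgroup MonoidHom

/-- The transfer kills every element of `Sig` all of whose `B`-conjugates of powers inside `Sig` are killed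
by `ϕ`. -/
theorem gfs_transfer_eq_one {B : Type*} [Group B] [Finite B] (Sig : Subgroup B)
    {A : Type*} [CommGroup A] (ϕ : Sig →* A) (t : B)
    (ht : ∀ (m : ℕ) (b : B) (h : b⁻¹ * t ^ m * b ∈ Sig), ϕ ⟨b⁻¹ * t ^ m * b, h⟩ = 1) :
    MonoidHom.transfer ϕ t = 1 := by
  classical
  let _ := Sig.fintypeQuotientOfFiniteIndex
  rw [MonoidHom.transfer_eq_prod_quotient_orbitRel_zpowers_quot]
  exact Finset.prod_eq_one fun q _ => ht _ _ _

/-- The transfer is the `index`-th power on elements which are central modulo `ker ϕ`. -/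
theorem gfs_transfer_eq_pow {B : Type*} [Group B] [Finite B] (Sig : Subgroup B)
    {A : Type*} [CommGroup A] (ϕ : Sig →* A) (k : Sig)
    (hk : ∀ (m : ℕ) (b : B) (h : b⁻¹ * (k : B) ^ m * b ∈ Sig),
      ϕ ⟨b⁻¹ * (k : B) ^ m * b, h⟩ = ϕ k ^ m) :
    MonoidHom.transfer ϕ (k : B) = ϕ k ^ Sig.index := by
  classical
  let _ := Sig.fintypeQuotientOfFiniteIndex
  rw [MonoidHom.transfer_eq_prod_quotient_orbitRel_zpowers_quot,
    Subgroup.index_eq_sum_minimalPeriod Sig (k : B), ← Finset.prod_pow_eq_pow_sum]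
  exact Finset.prod_congr rfl fun q _ => hk _ _ _

/-- **Core transfer lemma.** -/
theorem gfs_transfer_core {B : Type*} [Group B] [Finite B] (p : ℕ) [Fact p.Prime]
    (Sig : Subgroup B) (hidx : ¬ p ∣ Sig.index)
    {A : Type*} [CommGroup A] (hA : IsPGroup p A) (ϕ : Sig →* A)
    (hcl : ∀ (b : B) (t : Sig), ϕ t = 1 → ∀ h : b⁻¹ * (t : B) * b ∈ Sig, ϕ ⟨b⁻¹ * (t : B) * b, h⟩ = 1)
    (k : Sig)
    (hk : ∀ (m : ℕ) (b : B) (h : b⁻¹ * (k : B) ^ m * b ∈ Sig),
      ϕ ⟨b⁻¹ * (k : B) ^ m * b, h⟩ = ϕ k ^ m)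
    (hx : (k : B) ∈ Subgroup.closure
      ({y : B | ¬ p ∣ orderOf y} ∪ {y : B | ∃ t : Sig, ϕ t = 1 ∧ (t : B) = y})) :
    ϕ k = 1 := by
  classical
  have hker : Subgroup.closure
      ({y : B | ¬ p ∣ orderOf y} ∪ {y : B | ∃ t : Sig, ϕ t = 1 ∧ (t : B) = y}) ≤
      (MonoidHom.transfer ϕ).ker := by
    rw [Subgroup.closure_le]
    rintro y (hy | ⟨t, ht1, rfl⟩)
    · -- a `p'`-element dies in the `p`-group `A`
      rw [SetLike.mem_coe, MonoidHom.mem_ker]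
      obtain ⟨j, hj⟩ := hA (MonoidHom.transfer ϕ y)
      have h1 : (MonoidHom.transfer ϕ y) ^ orderOf y = 1 := by
        rw [← map_pow, pow_orderOf_eq_one, map_one]
      have hcop : Nat.Coprime (p ^ j) (orderOf y) :=
        Nat.Coprime.pow_left j ((Nat.Prime.coprime_iff_not_dvd Fact.out).2 hy)
      have := pow_gcd_eq_one.2 ⟨hj, h1⟩
      rwa [hcop.gcd_eq_one, pow_one] at this
    · rw [SetLike.mem_coe, MonoidHom.mem_ker]
      refine gfs_transfer_eq_one Sig ϕ (t : B) fun m b h => ?_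
      have hpow : ϕ (t ^ m) = 1 := by rw [map_pow, ht1, one_pow]
      exact hcl b (t ^ m) hpow h
  have h1 : MonoidHom.transfer ϕ (k : B) = 1 := MonoidHom.mem_ker.1 (hker hx)
  rw [gfs_transfer_eq_pow Sig ϕ k hk] at h1
  obtain ⟨j, hj⟩ := hA (ϕ k)
  have hcop : Nat.Coprime (p ^ j) Sig.index :=
    Nat.Coprime.pow_left j ((Nat.Prime.coprime_iff_not_dvd Fact.out).2 hidx)
  have := pow_gcd_eq_one.2 ⟨hj, h1⟩
  rwa [hcop.gcd_eq_one, pow_one] at this

/-- In `Sig = Th K` with `Th` normalized by `Sig`, every element is a product `t * k`. -/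
theorem gfs_mem_mul_of_le_sup {B : Type*} [Group B] (Sig Th K : Subgroup B)
    (hK : K ≤ Sig) (hsup : Sig ≤ Th ⊔ K)
    (hn : ∀ s ∈ Sig, ∀ t ∈ Th, s * t * s⁻¹ ∈ Th) {s : B} (hs : s ∈ Sig) :
    ∃ t ∈ Th, ∃ k ∈ K, s = t * k := by
  have hmem : s ∈ Th ⊔ K := hsup hs
  clear hs
  rw [sup_eq_closure] at hmem
  induction hmem using Subgroup.closure_induction with
  | mem x hx =>
    rcases hx with hx | hx
    · exact ⟨x, hx, 1, K.one_mem, (mul_one x).symm⟩
    · exact ⟨1, Th.one_mem, x, hx, (one_mul x).symm⟩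
  | one => exact ⟨1, Th.one_mem, 1, K.one_mem, (mul_one 1).symm⟩
  | mul x y _ _ hx hy =>
    obtain ⟨t1, ht1, k1, hk1, rfl⟩ := hx
    obtain ⟨t2, ht2, k2, hk2, rfl⟩ := hy
    refine ⟨t1 * (k1 * t2 * k1⁻¹), Th.mul_mem ht1 (hn k1 (hK hk1) t2 ht2), k1 * k2,
      K.mul_mem hk1 hk2, ?_⟩
    group
  | inv x _ hx =>
    obtain ⟨t1, ht1, k1, hk1, rfl⟩ := hx
    refine ⟨k1⁻¹ * t1⁻¹ * k1⁻¹⁻¹, hn k1⁻¹ (hK (K.inv_mem hk1)) t1⁻¹ (Th.inv_mem ht1), k1⁻¹,
      K.inv_mem hk1, ?_⟩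
    group

/-- **Subgroup form of the transfer lemma (step L1).**  `Sig ≤ B` of index prime to `p`, `Sig = Th K`,
`K` central modulo `Th` (`k⁻¹ (b⁻¹ k b) ∈ Th`), `Th` strongly closed in `Sig` with respect to `B`.
Then `(O^p(B) Th) ∩ K ≤ Th`, where `O^p(B) Th` is written as the subgroup generated by the `p'`-elements
and `Th`. -/
theorem gfs_transfer_meet {B : Type*} [Group B] [Finite B] (p : ℕ) [Fact p.Prime]
    (Sig Th K : Subgroup B) (hSigp : IsPGroup p Sig) (hidx : ¬ p ∣ Sig.index)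
    (hTh : Th ≤ Sig) (hK : K ≤ Sig) (hsup : Sig ≤ Th ⊔ K)
    (hcen : ∀ b : B, ∀ k ∈ K, k⁻¹ * (b⁻¹ * k * b) ∈ Th)
    (hcl : ∀ b : B, ∀ t ∈ Th, b⁻¹ * t * b ∈ Sig → b⁻¹ * t * b ∈ Th)
    {x : B} (hxK : x ∈ K)
    (hx : x ∈ Subgroup.closure ({y : B | ¬ p ∣ orderOf y} ∪ (Th : Set B))) : x ∈ Th := by
  classical
  have hn : ∀ s ∈ Sig, ∀ t ∈ Th, s * t * s⁻¹ ∈ Th := by
    intro s hs t ht
    have h1 : s⁻¹⁻¹ * t * s⁻¹ ∈ Sig :=
      Sig.mul_mem (Sig.mul_mem (Sig.inv_mem (Sig.inv_mem hs)) (hTh ht)) (Sig.inv_mem hs)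
    have := hcl s⁻¹ t ht h1
    rwa [inv_inv] at this
  have hnorm : (Th.subgroupOf Sig).Normal := by
    refine ⟨fun n hnm g => ?_⟩
    rw [Subgroup.mem_subgroupOf] at hnm ⊢
    simpa using hn g g.2 n hnm
  -- the quotient `Sig / Th` is commutative
  have hmk1 : ∀ (t : Sig), (t : B) ∈ Th → (QuotientGroup.mk t : Sig ⧸ Th.subgroupOf Sig) = 1 := by
    intro t ht
    rw [QuotientGroup.eq_one_iff, Subgroup.mem_subgroupOf]
    exact ht
  have hcomm : ∀ x y : Sig ⧸ Th.subgroupOf Sig, x * y = y * x := by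
    intro x y
    obtain ⟨a, rfl⟩ := QuotientGroup.mk_surjective x
    obtain ⟨b, rfl⟩ := QuotientGroup.mk_surjective y
    obtain ⟨t1, ht1, k1, hk1, ha⟩ := gfs_mem_mul_of_le_sup Sig Th K hK hsup hn a.2
    obtain ⟨t2, ht2, k2, hk2, hb⟩ := gfs_mem_mul_of_le_sup Sig Th K hK hsup hn b.2
    have ea : a = ⟨t1, hTh ht1⟩ * ⟨k1, hK hk1⟩ := Subtype.ext ha
    have eb : b = ⟨t2, hTh ht2⟩ * ⟨k2, hK hk2⟩ := Subtype.ext hb
    have hkk : (QuotientGroup.mk ((⟨k1, hK hk1⟩ : Sig) * ⟨k2, hK hk2⟩) : Sig ⧸ Th.subgroupOf Sig) =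
        QuotientGroup.mk ((⟨k2, hK hk2⟩ : Sig) * ⟨k1, hK hk1⟩) := by
      rw [eq_comm, QuotientGroup.eq, Subgroup.mem_subgroupOf]
      have := hcen k2 k1 hk1
      simpa [mul_assoc] using this
    rw [ea, eb]
    simp only [QuotientGroup.mk_mul] at hkk ⊢
    rw [hmk1 ⟨t1, hTh ht1⟩ ht1, hmk1 ⟨t2, hTh ht2⟩ ht2, one_mul, one_mul, hkk]
  let _ : CommGroup (Sig ⧸ Th.subgroupOf Sig) :=
    { (inferInstance : Group (Sig ⧸ Th.subgroupOf Sig)) with mul_comm := hcomm }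
  have hA : IsPGroup p (Sig ⧸ Th.subgroupOf Sig) := IsPGroup.to_quotient hSigp (Th.subgroupOf Sig)
  have key := gfs_transfer_core p Sig hidx hA (QuotientGroup.mk' (Th.subgroupOf Sig))
    (fun b t ht h => by
      rw [QuotientGroup.mk'_apply, QuotientGroup.eq_one_iff, Subgroup.mem_subgroupOf] at ht ⊢
      exact hcl b t ht h)
    ⟨x, hK hxK⟩
    (fun m b h => by
      rw [← map_pow, eq_comm, QuotientGroup.mk'_apply, QuotientGroup.mk'_apply, QuotientGroup.eq,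
        Subgroup.mem_subgroupOf]
      simpa using hcen b (x ^ m) (K.pow_mem hxK m))
    (by
      refine Subgroup.closure_mono ?_ hx
      rintro y (hy | hy)
      · exact Or.inl hy
      · refine Or.inr ⟨⟨y, hTh hy⟩, ?_, rfl⟩
        rw [QuotientGroup.mk'_apply, QuotientGroup.eq_one_iff, Subgroup.mem_subgroupOf]
        exact hy)
  rw [QuotientGroup.mk'_apply, QuotientGroup.eq_one_iff, Subgroup.mem_subgroupOf] at key
  exact key

end Cfsg.Agent.GFS
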