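import Mathlib
import Cfsg.Agent.GFS.Transfer

set_option autoImplicit false

/-!
# The transfer lemma behind L1, relative to a subgroup of an ambient group

Same statement as `gfs_transfer_meet`, for subgroups `Sig, Th, K ≤ B₀` of an ambient group `G`
(in use `G = MulAut Q`), and with "`Sig` is a maximal `p`-subgroup of `B₀`" instead of the index condition.
-/

namespace Cfsg.Agent.GFS

theorem gfs_transfer_meet_rel {G : Type*} [Group G] (p : ℕ) [Fact p.Prime]
    (B₀ Sig Th K : Subgroup G) [Finite B₀]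
    (hSigB : Sig ≤ B₀) (hSigp : IsPGroup p Sig)
    (hmax : ∀ R : Subgroup G, R ≤ B₀ → IsPGroup p R → Sig ≤ R → R ≤ Sig)
    (hTh : Th ≤ Sig) (hK : K ≤ Sig) (hsup : Sig ≤ Th ⊔ K)
    (hcen : ∀ b ∈ B₀, ∀ k ∈ K, k⁻¹ * (b⁻¹ * k * b) ∈ Th)
    (hcl : ∀ b ∈ B₀, ∀ t ∈ Th, b⁻¹ * t * b ∈ Sig → b⁻¹ * t * b ∈ Th)
    {x : G} (hxK : x ∈ K)
    (hx : x ∈ Subgroup.closure ({y : G | y ∈ B₀ ∧ ¬ p ∣ orderOf y} ∪ (Th : Set G))) : x ∈ Th := by
  classical
  -- `Sig` as a Sylow subgroup of `B₀`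
  let P : Sylow p B₀ :=
    { toSubgroup := Sig.subgroupOf B₀
      isPGroup' := hSigp.comap_subtype
      is_maximal' := by
        intro Q hQ hle
        refine le_antisymm ?_ hle
        have h1 : Q.map B₀.subtype ≤ Sig := by
          refine hmax (Q.map B₀.subtype) ?_ (hQ.map _) ?_
          · rintro _ ⟨y, -, rfl⟩
            exact y.2
          · intro s hs
            exact ⟨⟨s, hSigB hs⟩, hle (Subgroup.mem_subgroupOf.2 hs), rfl⟩
        intro y hy
        rw [Subgroup.mem_subgroupOf]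
        exact h1 ⟨y, hy, rfl⟩ }
  have hidx : ¬ p ∣ (Sig.subgroupOf B₀).index := P.not_dvd_index
  have hThB : Th ≤ B₀ := hTh.trans hSigB
  have hKB : K ≤ B₀ := hK.trans hSigB
  have key := gfs_transfer_meet (B := B₀) p (Sig.subgroupOf B₀) (Th.subgroupOf B₀) (K.subgroupOf B₀)
    hSigp.comap_subtype hidx
    (fun y hy => Subgroup.mem_subgroupOf.2 (hTh (Subgroup.mem_subgroupOf.1 hy)))
    (fun y hy => Subgroup.mem_subgroupOf.2 (hK (Subgroup.mem_subgroupOf.1 hy)))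
    (by
      rw [← Subgroup.subgroupOf_sup hThB hKB]
      intro y hy
      exact Subgroup.mem_subgroupOf.2 (hsup (Subgroup.mem_subgroupOf.1 hy)))
    (fun b k hk => by
      rw [Subgroup.mem_subgroupOf] at hk ⊢
      simpa using hcen b b.2 k hk)
    (fun b t ht hs => by
      rw [Subgroup.mem_subgroupOf] at ht hs ⊢
      simp only [Subgroup.coe_mul, Subgroup.coe_inv] at hs ⊢
      exact hcl b b.2 t ht hs)
    (x := ⟨x, hKB hxK⟩) (Subgroup.mem_subgroupOf.2 hxK)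
    (by
      have hsub : ({y : G | y ∈ B₀ ∧ ¬ p ∣ orderOf y} ∪ (Th : Set G)) ⊆
          B₀.subtype '' ({y : B₀ | ¬ p ∣ orderOf y} ∪ (Th.subgroupOf B₀ : Set B₀)) := by
        rintro y (⟨hyB, hy⟩ | hy)
        · refine ⟨⟨y, hyB⟩, Or.inl ?_, rfl⟩
          show ¬ p ∣ orderOf (⟨y, hyB⟩ : B₀)
          rwa [← Subgroup.orderOf_coe]
        · exact ⟨⟨y, hThB hy⟩, Or.inr (Subgroup.mem_subgroupOf.2 hy), rfl⟩
      have h1 := Subgroup.closure_mono hsub hx
      rw [← MonoidHom.map_closure] at h1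
      obtain ⟨x', hx', hxx'⟩ := h1
      have : x' = ⟨x, hKB hxK⟩ := Subtype.ext hxx'
      rwa [this] at hx')
  exact Subgroup.mem_subgroupOf.1 key

end Cfsg.Agent.GFS
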