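import Mathlib
import Cfsg.Agent.GFS.LiftDefs
import Cfsg.Agent.GFS.LiftBasic
import Cfsg.Agent.GFS.LiftInd
import Cfsg.Agent.GFS.TransferSub
import Cfsg.Agent.CSE.Local
import Cfsg.Agent.Lead.FusionSat
import Cfsg.Agent.Lead.FusionSat3
import Cfsg.Agent.Lead.FusionAlperin

set_option autoImplicit false

/-!
# N2, piece P2, part A: the local step EL' and auxiliary facts

`gfl_EL`: at `Q ∈ H`, an element of `B(Q)` centralizes, modulo `Inn(Q)`, every automorphism induced by `S` that is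
trivial modulo `Z` (the extension lemma `CSE.cse_local` downstairs, lifted through the factor system).
`gfl_lift_autT`, `gfl_K_conj`, `gfl_autT_closed`: the facts about `Aut_T(Q)` and `K_Q` used by L1 (`LiftLocal.lean`).
-/

namespace Cfsg.Agent.GFS

open Cfsg Cfsg.FusionSystem Cfsg.Agent.Lead

universe u v

variable {Ω : Type u} [Group Ω] {S : Subgroup Ω} {Ω' : Type v} [Group Ω'] {S' T' : Subgroup Ω'}
variable {p : ℕ} {M : FusionSystem S} {Z : Subgroup Ω} {θ : S →* Ω'} {Mb : FusionSystem S'}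
  {Nb : FusionSystem T'}

/-- the image downstairs has the order-of-`S` finiteness and `p`-group properties -/
theorem gfl_down_setup [Finite S] [Fact p.Prime] (h : GflSetup p M Z θ Mb Nb) :
    Finite S' ∧ CSE.Setup p Mb Nb := by
  have hrange : θ.range = S' := h.fac.2.2.1
  have hfinR : Finite θ.range := Finite.of_surjective θ.rangeRestrict θ.rangeRestrict_surjective
  have hpR : IsPGroup p θ.range := h.hS.of_surjective θ.rangeRestrict θ.rangeRestrict_surjective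
  subst hrange
  exact ⟨hfinR, ⟨hpR, h.nrm.1.2.1, h.nrm⟩⟩

/-- `Q ⊇ Z` is the full preimage of its image -/
theorem gfl_preimage_image [Finite S] [Fact p.Prime] (h : GflSetup p M Z θ Mb Nb) {Q : Subgroup Ω}
    (hZQ : Z ≤ Q) (hQS : Q ≤ S) : preimageAlong θ (imageAlong θ Q) = Q := by
  rw [Fusion.preimageAlong_imageAlong θ h.fac.1 h.fac.2.1 hQS]
  exact sup_eq_left.2 hZQ

/-- EL': `B(Q)` centralizes `K_Q` modulo inner automorphisms (cse_local downstairs + lifting). -/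
theorem gfl_EL [Finite S] [Fact p.Prime] (h : GflSetup p M Z θ Mb Nb) {Q : Subgroup Ω}
    (hQ : Q ∈ gflH Z θ Nb) {b k : MulAut Q} (hb : b ∈ M.autGroup Q) (hbB : GflB θ Nb Q b)
    (hk : k ∈ autInducedBy S Q) (hkK : GflK Z Q k) : b * k * b⁻¹ * k⁻¹ ∈ Inn Q := by
  obtain ⟨hZQ, hQT, hcent⟩ := hQ
  have hTS : preimageAlong θ T' ≤ S := Fusion.preimageAlong_le θ T'
  have hQS : Q ≤ S := hQT.trans hTS
  have hZS : Z ≤ S := h.fac.1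
  have hker := h.fac.2.1
  have hfac := h.fac.2.2.2
  obtain ⟨s, hsS, hks⟩ := (mem_autInducedBy_iff S Q k).1 hk
  obtain ⟨hfinS', hsetup⟩ := gfl_down_setup h
  have hQT' : imageAlong θ Q ≤ T' := gfl_image_le hQT
  have hT'S' : T' ≤ S' := hsetup.le
  obtain ⟨b', hb', hind⟩ := (gflB_iff θ Nb hQS hQT' b).1 hbB
  obtain ⟨β', hβ'mem, hβ'ext, hβ'cen⟩ := CSE.cse_local p hsetup hcent b' hb'
  have hDS' : imageAlong θ Q ⊔ centralizerIn S' (imageAlong θ Q) ≤ S' :=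
    sup_le (hQT'.trans hT'S') inf_le_left
  have hβ'hom : gflHom β' ∈ Mb.Hom (imageAlong θ Q ⊔ centralizerIn S' (imageAlong θ Q)) :=
    (Fusion.mem_autGroup_iff Mb hDS' β').1 hβ'mem
  obtain ⟨-, φ, hφ, hDS, hφS, hP', hφind⟩ := (hfac _ _).1 hβ'hom
  -- `Q` and `s` lie in the source `D` of `φ`
  have hQD : Q ≤ preimageAlong θ (imageAlong θ Q ⊔ centralizerIn S' (imageAlong θ Q)) := by
    intro x hx
    rw [Fusion.mem_preimageAlong]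
    exact ⟨hQS hx, (le_sup_left : imageAlong θ Q ≤ _)
      ((Fusion.mem_imageAlong θ Q _).2 ⟨x, hx, hQS hx, rfl⟩)⟩
  -- `k x = x z` with `z ∈ Z`, hence `θ (k x) = θ x`
  have hθk : ∀ x : Q, θ ⟨((k x : Q) : Ω), hQS (k x).2⟩ = θ ⟨(x : Ω), hQS x.2⟩ := by
    intro x
    have h1 : θ (⟨(x : Ω), hQS x.2⟩⁻¹ * ⟨((k x : Q) : Ω), hQS (k x).2⟩) = 1 := (hker _).2 (hkK x)
    rw [map_mul, map_inv, inv_mul_eq_one] at h1
    exact h1.symm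
  have hsC : θ ⟨s, hsS⟩ ∈ centralizerIn S' (imageAlong θ Q) := by
    refine Subgroup.mem_inf.2 ⟨?_, ?_⟩
    · rw [← h.fac.2.2.1]
      exact ⟨_, rfl⟩
    · rw [Subgroup.mem_centralizer_iff]
      intro y hy
      obtain ⟨x, hx, hxS, rfl⟩ := (Fusion.mem_imageAlong θ Q y).1 hy
      have h1 := hθk ⟨x, hx⟩
      have h2 : (⟨((k ⟨x, hx⟩ : Q) : Ω), hQS (k ⟨x, hx⟩).2⟩ : S) =
          ⟨s, hsS⟩ * ⟨x, hxS⟩ * ⟨s, hsS⟩⁻¹ := Subtype.ext (hks ⟨x, hx⟩)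
      rw [h2, map_mul, map_mul, map_inv] at h1
      have h3 : θ ⟨s, hsS⟩ * θ ⟨x, hxS⟩ = θ ⟨x, hxS⟩ * θ ⟨s, hsS⟩ := by
        calc θ ⟨s, hsS⟩ * θ ⟨x, hxS⟩ = θ ⟨s, hsS⟩ * θ ⟨x, hxS⟩ * (θ ⟨s, hsS⟩)⁻¹ * θ ⟨s, hsS⟩ := by group
          _ = θ ⟨x, hxS⟩ * θ ⟨s, hsS⟩ := by rw [h1]
      exact h3.symm
  have hsD : s ∈ preimageAlong θ (imageAlong θ Q ⊔ centralizerIn S' (imageAlong θ Q)) := by
    rw [Fusion.mem_preimageAlong]
    exact ⟨hsS, (le_sup_right : centralizerIn S' (imageAlong θ Q) ≤ _) hsC⟩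
  -- Fact A: `θ (φ x) = θ (b x)` on `Q`
  have hA : ∀ x : Q, θ ⟨φ ⟨(x : Ω), hQD x.2⟩, hφS _⟩ = θ ⟨((b x : Q) : Ω), hQS (b x).2⟩ := by
    intro x
    rw [← hφind ⟨(x : Ω), hQD x.2⟩, ← gflIndA_coe θ hQS hind x, ← hβ'ext (Fusion.toImg θ Q hQS x)]
    rfl
  -- Fact B: `φ x = b x * ζ` with `ζ ∈ Z`
  have hB : ∀ x : Q, ((b x : Q) : Ω)⁻¹ * φ ⟨(x : Ω), hQD x.2⟩ ∈ Z := by
    intro x
    have h1 : θ (⟨((b x : Q) : Ω), hQS (b x).2⟩⁻¹ * ⟨φ ⟨(x : Ω), hQD x.2⟩, hφS _⟩) = 1 := by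
      rw [map_mul, map_inv, hA x, inv_mul_cancel]
    exact (hker _).1 h1
  -- Fact C: `s⁻¹ φ(s) ∈ Q`
  have hC : s⁻¹ * φ ⟨s, hsD⟩ ∈ Q := by
    have h1 := hβ'cen ⟨θ ⟨s, hsS⟩, hP' ⟨s, hsD⟩⟩ hsC
    have h2 : ((β' ⟨θ ⟨s, hsS⟩, hP' ⟨s, hsD⟩⟩ : _) : Ω') = θ ⟨φ ⟨s, hsD⟩, hφS _⟩ := hφind ⟨s, hsD⟩
    rw [h2] at h1
    have h3 : θ (⟨s, hsS⟩⁻¹ * ⟨φ ⟨s, hsD⟩, hφS _⟩) ∈ imageAlong θ Q := by
      rw [map_mul, map_inv]
      exact CSE.cseZ_le _ h1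
    have h4 : s⁻¹ * φ ⟨s, hsD⟩ ∈ preimageAlong θ (imageAlong θ Q) := by
      rw [Fusion.mem_preimageAlong]
      exact ⟨S.mul_mem (S.inv_mem hsS) (hφS _), h3⟩
    rwa [gfl_preimage_image h hZQ hQS] at h4
  -- Main: `b (k x) = φ(s) b(x) φ(s)⁻¹`
  have hmain : ∀ x : Q, ((b (k x) : Q) : Ω) = φ ⟨s, hsD⟩ * ((b x : Q) : Ω) * (φ ⟨s, hsD⟩)⁻¹ := by
    intro x
    set z : Ω := (x : Ω)⁻¹ * ((k x : Q) : Ω) with hz
    have hzZ : z ∈ Z := hkK x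
    have hzQ : z ∈ Q := hZQ hzZ
    have hkx : k x = x * ⟨z, hzQ⟩ := by
      apply Subtype.ext
      rw [Subgroup.coe_mul]
      show ((k x : Q) : Ω) = (x : Ω) * ((x : Ω)⁻¹ * ((k x : Q) : Ω))
      group
    have hbz : ((b ⟨z, hzQ⟩ : Q) : Ω) = z :=
      gfl_fix_Z h ((Fusion.mem_autGroup_iff M hQS b).1 hb) ⟨z, hzQ⟩ hzZ
    have hφz : φ ⟨z, hQD hzQ⟩ = z := gfl_fix_Z h hφ ⟨z, hQD hzQ⟩ hzZ
    -- `φ (k x)` in two ways
    have e1 : φ ⟨((k x : Q) : Ω), hQD (k x).2⟩ = φ ⟨(x : Ω), hQD x.2⟩ * z := by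
      have : (⟨((k x : Q) : Ω), hQD (k x).2⟩ : ↥(preimageAlong θ
          (imageAlong θ Q ⊔ centralizerIn S' (imageAlong θ Q)))) =
          ⟨(x : Ω), hQD x.2⟩ * ⟨z, hQD hzQ⟩ := by
        apply Subtype.ext
        rw [hkx]
        rfl
      rw [this, map_mul, hφz]
    have e2 : φ ⟨((k x : Q) : Ω), hQD (k x).2⟩ =
        φ ⟨s, hsD⟩ * φ ⟨(x : Ω), hQD x.2⟩ * (φ ⟨s, hsD⟩)⁻¹ := by
      have : (⟨((k x : Q) : Ω), hQD (k x).2⟩ : ↥(preimageAlong θ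
          (imageAlong θ Q ⊔ centralizerIn S' (imageAlong θ Q)))) =
          ⟨s, hsD⟩ * ⟨(x : Ω), hQD x.2⟩ * ⟨s, hsD⟩⁻¹ := Subtype.ext (hks x)
      rw [this, map_mul, map_mul, map_inv]
    have e3 : ((b (k x) : Q) : Ω) = ((b x : Q) : Ω) * z := by
      rw [hkx, map_mul, Subgroup.coe_mul, hbz]
    obtain ⟨ζ, hζZ, hφx⟩ : ∃ ζ ∈ Z, φ ⟨(x : Ω), hQD x.2⟩ = ((b x : Q) : Ω) * ζ :=
      ⟨_, hB x, by group⟩
    have c1 : z * ζ = ζ * z := gfl_Z_comm h hζZ (hZS hzZ)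
    have c2 : φ ⟨s, hsD⟩ * ζ = ζ * φ ⟨s, hsD⟩ := gfl_Z_comm h hζZ (hφS _)
    have e4 : ((b x : Q) : Ω) * ζ * z = φ ⟨s, hsD⟩ * (((b x : Q) : Ω) * ζ) * (φ ⟨s, hsD⟩)⁻¹ := by
      rw [← hφx, ← e1, e2]
    rw [e3]
    generalize φ ⟨s, hsD⟩ = A at c2 e4 ⊢
    generalize ((b x : Q) : Ω) = B at e4 ⊢
    have c2' : ζ * A⁻¹ = A⁻¹ * ζ := by
      calc ζ * A⁻¹ = A⁻¹ * (A * ζ) * A⁻¹ := by group
        _ = A⁻¹ * (ζ * A) * A⁻¹ := by rw [c2]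
        _ = A⁻¹ * ζ := by group
    have e5 : B * z * ζ = A * B * A⁻¹ * ζ := by
      calc B * z * ζ = B * (z * ζ) := by rw [mul_assoc]
        _ = B * (ζ * z) := by rw [c1]
        _ = B * ζ * z := by rw [mul_assoc]
        _ = A * (B * ζ) * A⁻¹ := e4
        _ = A * B * (ζ * A⁻¹) := by group
        _ = A * B * (A⁻¹ * ζ) := by rw [c2']
        _ = A * B * A⁻¹ * ζ := by group
    exact mul_right_cancel e5
  -- the inner automorphism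
  have hg : ((k ⟨s⁻¹ * φ ⟨s, hsD⟩, hC⟩ : Q) : Ω) = φ ⟨s, hsD⟩ * s⁻¹ := by
    rw [hks]
    show s * (s⁻¹ * φ ⟨s, hsD⟩) * s⁻¹ = _
    group
  refine ⟨k ⟨s⁻¹ * φ ⟨s, hsD⟩, hC⟩, ?_⟩
  apply MulEquiv.ext
  intro y
  apply Subtype.ext
  have hw : ((k⁻¹ y : Q) : Ω) = s⁻¹ * (y : Ω) * s := by
    have h1 := hks (k⁻¹ y)
    rw [MulAut.apply_inv_self] at h1
    rw [h1]
    group
  have h1 := hmain (b⁻¹ (k⁻¹ y))
  rw [MulAut.apply_inv_self, hw] at h1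
  rw [MulAut.conj_apply]
  simp only [MulAut.mul_apply, Subgroup.coe_mul, Subgroup.coe_inv]
  rw [hg, h1]
  group

/-! ### The groups `B(Q)`, `K_Q`, `Aut_T(Q)` at a fully normalized `Q` -/

/-- lifting `Aut_{T'}(θ Q)` to `Aut_T(Q)` -/
theorem gfl_lift_autT [Finite S] [Fact p.Prime] (h : GflSetup p M Z θ Mb Nb) {Q : Subgroup Ω}
    (hZQ : Z ≤ Q) (hQS : Q ≤ S) {α' : MulAut (imageAlong θ Q)}
    (hα' : α' ∈ autInducedBy T' (imageAlong θ Q)) :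
    ∃ c ∈ autInducedBy (preimageAlong θ T') Q, GflIndA θ hQS c α' := by
  obtain ⟨hfinS', hsetup⟩ := gfl_down_setup h
  have hT'S' : T' ≤ S' := hsetup.le
  have : Finite Q := Fusion.finite_of_le hQS
  obtain ⟨g, hgT', hg⟩ := (mem_autInducedBy_iff T' (imageAlong θ Q) α').1 hα'
  have hgr : g ∈ θ.range := by
    rw [h.fac.2.2.1]
    exact hT'S' hgT'
  obtain ⟨t, rfl⟩ := hgr
  have htT : (t : Ω) ∈ preimageAlong θ T' := (Fusion.mem_preimageAlong θ T' _).2 ⟨t.2, hgT'⟩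
  have hconj : ∀ y ∈ Q, (t : Ω) * y * (t : Ω)⁻¹ ∈ Q := by
    intro y hy
    have h1 : (t : Ω) * y * (t : Ω)⁻¹ ∈ preimageAlong θ (imageAlong θ Q) := by
      rw [Fusion.mem_preimageAlong]
      refine ⟨S.mul_mem (S.mul_mem t.2 (hQS hy)) (S.inv_mem t.2), ?_⟩
      have e : (⟨(t : Ω) * y * (t : Ω)⁻¹, S.mul_mem (S.mul_mem t.2 (hQS hy)) (S.inv_mem t.2)⟩ : S) =
          t * ⟨y, hQS hy⟩ * t⁻¹ := rfl
      rw [e, map_mul, map_mul, map_inv]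
      have h2 := hg (Fusion.toImg θ Q hQS ⟨y, hy⟩)
      rw [Fusion.toImg_coe] at h2
      rw [← h2]
      exact (α' _).2
    rwa [gfl_preimage_image h hZQ hQS] at h1
  have htN : (t : Ω) ∈ Subgroup.normalizer (Q : Set Ω) :=
    mem_normalizer_of_conj_mem_of_finite Q _ hconj
  refine ⟨conjAut Q t htN, (mem_autInducedBy_iff _ _ _).2 ⟨t, htT, fun x => rfl⟩, fun x => ?_⟩
  apply Subtype.ext
  rw [hg, Fusion.toImg_coe, Fusion.toImg_coe]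
  have e : (⟨((conjAut Q t htN x : Q) : Ω), hQS (conjAut Q t htN x).2⟩ : S) =
      t * ⟨(x : Ω), hQS x.2⟩ * t⁻¹ := rfl
  rw [e, map_mul, map_mul, map_inv]

/-- `K_Q` is normalized by `B(Q)`. -/
theorem gfl_K_conj [Finite S] [Fact p.Prime] (h : GflSetup p M Z θ Mb Nb) {Q : Subgroup Ω}
    (hQS : Q ≤ S) {a k : MulAut Q} (ha : a ∈ gflBsub M θ Nb hQS) (hk : k ∈ gflKsub M Z Q) :
    a * k * a⁻¹ ∈ gflKsub M Z Q := by
  obtain ⟨haM, a', -, hia⟩ := ha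
  obtain ⟨hkM, hkK⟩ := hk
  refine ⟨Subgroup.mul_mem _ (Subgroup.mul_mem _ haM hkM) (Subgroup.inv_mem _ haM), ?_⟩
  rw [gflK_iff_ind θ hQS h.fac.2.1]
  have h1 := gflIndA_mul θ hQS (gflIndA_mul θ hQS hia ((gflK_iff_ind θ hQS h.fac.2.1 k).1 hkK))
    (gflIndA_inv θ hQS hia)
  rwa [mul_one, mul_inv_cancel] at h1

/-- Strong closure of `Aut_T(Q)` in `Aut_S(Q)` with respect to `Aut_M(Q)`, at a receptive `Q`. -/
theorem gfl_autT_closed [Finite S] [Fact p.Prime] (h : GflSetup p M Z θ Mb Nb) {Q : Subgroup Ω}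
    (hQS : Q ≤ S) (hrec : M.IsReceptive Q) {a t : MulAut Q} (ha : a ∈ M.autGroup Q)
    (ht : t ∈ autInducedBy (preimageAlong θ T') Q) (hS : a * t * a⁻¹ ∈ autInducedBy S Q) :
    a * t * a⁻¹ ∈ autInducedBy (preimageAlong θ T') Q := by
  have hTS : preimageAlong θ T' ≤ S := Fusion.preimageAlong_le θ T'
  have hsc : M.StronglyClosed (preimageAlong θ T') := gfl_stronglyClosed h
  obtain ⟨u, huT, hu⟩ := (mem_autInducedBy_iff _ Q t).1 ht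
  obtain ⟨v, hvS, hv⟩ := (mem_autInducedBy_iff S Q _).1 hS
  have huN : u ∈ Subgroup.normalizer (Q : Set Ω) := mem_normalizer_of_conj_eq_aut Q t u hu
  have hahom : gflHom a ∈ M.Hom Q := (Fusion.mem_autGroup_iff M hQS a).1 ha
  have hr : (gflHom a).range = Q := by
    ext y
    constructor
    · rintro ⟨x, rfl⟩
      exact (a x).2
    · intro hy
      refine ⟨a⁻¹ ⟨y, hy⟩, ?_⟩
      show ((a (a⁻¹ ⟨y, hy⟩) : Q) : Ω) = y
      rw [MulAut.apply_inv_self]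
  obtain ⟨ψ, hψ, hext⟩ := hrec.2 Q (gflHom a) hahom hr
  have huE : u ∈ extender S Q (gflHom a) := by
    apply Subgroup.subset_closure
    refine ⟨hTS huT, huN, v, hvS, fun x hx => ?_⟩
    have h1 := hv (a x)
    rw [MulAut.mul_apply, MulAut.mul_apply, MulAut.inv_apply_self] at h1
    have h2 : t x = ⟨u * (x : Ω) * u⁻¹, hx⟩ := Subtype.ext (hu x)
    rw [h2] at h1
    exact h1
  have hQE : Q ≤ extender S Q (gflHom a) :=
    Fusion.le_extender Q hQS (gflHom a) (fun x => hQS (a x).2)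
  have hwT : ψ ⟨u, huE⟩ ∈ preimageAlong θ T' := by
    have hle : Subgroup.zpowers u ≤ extender S Q (gflHom a) := by
      rw [Subgroup.zpowers_le]; exact huE
    have hle' : Subgroup.zpowers u ≤ preimageAlong θ T' := by
      rw [Subgroup.zpowers_le]; exact huT
    exact hsc.2 _ hle' _ (Fusion.restrict_mem M hψ hle) ⟨u, Subgroup.mem_zpowers _⟩
  rw [mem_autInducedBy_iff]
  refine ⟨ψ ⟨u, huE⟩, hwT, fun y => ?_⟩
  rw [MulAut.mul_apply, MulAut.mul_apply]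
  have h1 : ((a (t (a⁻¹ y)) : Q) : Ω) = ψ ⟨((t (a⁻¹ y) : Q) : Ω), hQE (t (a⁻¹ y)).2⟩ :=
    (hext _ (t (a⁻¹ y)).2 (hQE (t (a⁻¹ y)).2)).symm
  have h2 : (⟨((t (a⁻¹ y) : Q) : Ω), hQE (t (a⁻¹ y)).2⟩ : ↥(extender S Q (gflHom a))) =
      ⟨u, huE⟩ * ⟨((a⁻¹ y : Q) : Ω), hQE (a⁻¹ y).2⟩ * ⟨u, huE⟩⁻¹ := Subtype.ext (hu (a⁻¹ y))
  have h3 : ψ ⟨((a⁻¹ y : Q) : Ω), hQE (a⁻¹ y).2⟩ = (y : Ω) := by
    rw [hext _ (a⁻¹ y).2 (hQE (a⁻¹ y).2)]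
    show ((a (a⁻¹ y) : Q) : Ω) = y
    rw [MulAut.apply_inv_self]
  rw [h1, h2, map_mul, map_mul, map_inv, h3]

theorem gfl_conj_inn {G : Type*} [Group G] (α : MulAut G) (g : G) :
    α * MulAut.conj g * α⁻¹ = MulAut.conj (α g) := by
  ext y
  simp [MulAut.mul_apply, MulAut.conj_apply]


end Cfsg.Agent.GFS
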