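import Mathlib
import Cfsg.Agent.GFS.LiftDefs
import Cfsg.Agent.GFS.LiftBasic
import Cfsg.Agent.GFS.LiftInd
import Cfsg.Agent.GFS.LiftLocalA
import Cfsg.Agent.Lead.SylowLemmas
import Cfsg.Agent.Lead.FusionSat2
import Cfsg.Agent.Lead.FusionConj
import Cfsg.Agent.Lead.FusionFocal
import Cfsg.Agent.Lead.FusionMorph
import Cfsg.Agent.Lead.FusionAlperin

set_option autoImplicit false

/-!
# N2, piece P1b (part): surjectivity `A(P) → Aut_Nb(θ P)` and lifts of the maps of `Nb`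

`gfl_A_onto`: for every `Z ≤ P ≤ T`, every element of `Aut_Nb(θ P)` is induced by an element of `A(P)`.
`gfl_lift`: every map of `Nb` is induced by a map of `N` on the full preimage of its source.
-/

namespace Cfsg.Agent.GFS

open Cfsg Cfsg.FusionSystem Cfsg.Agent.Lead

universe u v

variable {Ω : Type u} [Group Ω] {S : Subgroup Ω} {Ω' : Type v} [Group Ω'] {S' T' : Subgroup Ω'}
variable {p : ℕ} {M : FusionSystem S} {Z : Subgroup Ω} {θ : S →* Ω'} {Mb : FusionSystem S'}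
  {Nb : FusionSystem T'}

theorem gflIndA_zpow (θ : S →* Ω') {Q : Subgroup Ω} (hQS : Q ≤ S) {a : MulAut Q}
    {a' : MulAut (imageAlong θ Q)} (ha : GflIndA θ hQS a a') (n : ℤ) :
    GflIndA θ hQS (a ^ n) (a' ^ n) := by
  cases n with
  | ofNat n =>
    rw [Int.ofNat_eq_natCast, zpow_natCast, zpow_natCast]
    exact gflIndA_pow θ hQS ha n
  | negSucc n =>
    rw [zpow_negSucc, zpow_negSucc]
    exact gflIndA_inv θ hQS (gflIndA_pow θ hQS ha (n + 1))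

/-- every map of `Mb` on the image of `P ⊇ Z` is induced by a map of `M` on `P` -/
theorem gfl_lift_hom [Finite S] [Fact p.Prime] (h : GflSetup p M Z θ Mb Nb) {P : Subgroup Ω}
    (hZP : Z ≤ P) (hPS : P ≤ S) {φ' : imageAlong θ P →* Ω'} (hφ' : φ' ∈ Mb.Hom (imageAlong θ P)) :
    ∃ φ ∈ M.Hom P, InducedAlong θ φ φ' := by
  obtain ⟨-, φ, hφ, hind⟩ := (h.fac.2.2.2 _ _).1 hφ'
  have hpre := gfl_preimage_image h hZP hPS
  revert φ
  rw [hpre]
  intro φ hφ hind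
  exact ⟨φ, hφ, hind⟩

/-- every element of `Aut_Mb(θ P)` is induced by an element of `Aut_M(P)` -/
theorem gfl_lift_aut [Finite S] [Fact p.Prime] (h : GflSetup p M Z θ Mb Nb) {P : Subgroup Ω}
    (hZP : Z ≤ P) (hPS : P ≤ S) (hPS' : imageAlong θ P ≤ S') {α' : MulAut (imageAlong θ P)}
    (hα' : α' ∈ Mb.autGroup (imageAlong θ P)) : ∃ b ∈ M.autGroup P, GflIndA θ hPS b α' := by
  have : Finite P := Fusion.finite_of_le hPS
  obtain ⟨φ, hφ, hP, hφS, hP', hind⟩ :=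
    gfl_lift_hom h hZP hPS ((Fusion.mem_autGroup_iff Mb hPS' α').1 hα')
  have hinj := M.injective_of_mem hφ
  have hle : φ.range ≤ P := by
    rintro _ ⟨x, rfl⟩
    have h1 : φ x ∈ preimageAlong θ (imageAlong θ P) := by
      rw [Fusion.mem_preimageAlong]
      refine ⟨hφS x, ?_⟩
      rw [← hind x]
      exact (α' _).2
    rwa [gfl_preimage_image h hZP hPS] at h1
  have hr : φ.range = P :=
    Subgroup.eq_of_le_of_card_ge hle (Nat.card_congr (MonoidHom.ofInjective hinj).toEquiv).le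
  refine ⟨Fusion.equivOfRange φ hinj hr, ?_, fun x => ?_⟩
  · rw [Fusion.mem_autGroup_iff M hPS]
    have : P.subtype.comp (Fusion.equivOfRange φ hinj hr).toMonoidHom = φ := by
      ext y
      rfl
    rw [this]
    exact hφ
  · apply Subtype.ext
    exact hind x

/-- a `p'`-element of `Aut_Nb(θ P)` is induced by a generator of `A(P)` of the first kind -/
theorem gfl_onto_p' [Finite S] [Fact p.Prime] (h : GflSetup p M Z θ Mb Nb) {P : Subgroup Ω}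
    (hZP : Z ≤ P) (hP : P ≤ preimageAlong θ T') (hPS : P ≤ S) {α' : MulAut (imageAlong θ P)}
    (hα' : α' ∈ Nb.autGroup (imageAlong θ P)) (hc : (orderOf α').Coprime p) :
    ∃ α ∈ gflA p M θ Nb P, GflIndA θ hPS α α' := by
  obtain ⟨hfinS', hsetup⟩ := gfl_down_setup h
  have hT'S' : T' ≤ S' := hsetup.le
  have hPT' : imageAlong θ P ≤ T' := gfl_image_le hP
  have hPS' : imageAlong θ P ≤ S' := hPT'.trans hT'S'
  have hfinP : Finite P := Fusion.finite_of_le hPS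
  have hfinA : Finite (MulAut P) := inferInstance
  have hα'M : α' ∈ Mb.autGroup (imageAlong θ P) := by
    rw [Fusion.mem_autGroup_iff Mb hPS']
    exact hsetup.sub _ ((Fusion.mem_autGroup_iff Nb hPT' α').1 hα')
  obtain ⟨b, hbM, hb⟩ := gfl_lift_aut h hZP hPS hPS' hα'M
  have hn : orderOf b ≠ 0 := (orderOf_pos b).ne'
  obtain ⟨e, m, hm, hem⟩ := Nat.exists_eq_pow_mul_and_not_dvd hn p (Fact.out : p.Prime).ne_one
  have hcop : Nat.Coprime (p ^ e) m :=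
    Nat.Coprime.pow_left e ((Nat.Prime.coprime_iff_not_dvd Fact.out).2 hm)
  have hbez : ((p ^ e : ℕ) : ℤ) * Nat.gcdA (p ^ e) m + (m : ℤ) * Nat.gcdB (p ^ e) m = 1 := by
    have := Nat.gcd_eq_gcd_ab (p ^ e) m
    rw [hcop.gcd_eq_one] at this
    exact_mod_cast this.symm
  -- `α' ^ m = 1`
  have hα'n : α' ^ orderOf b = 1 := by
    have h1 := gflIndA_pow θ hPS hb (orderOf b)
    rw [pow_orderOf_eq_one] at h1
    exact gflIndA_unique θ hPS h1 (gflIndA_one θ hPS)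
  have hα'm : α' ^ m = 1 := by
    have h1 : orderOf α' ∣ p ^ e * m := hem ▸ orderOf_dvd_of_pow_eq_one hα'n
    have h2 : orderOf α' ∣ m := (Nat.Coprime.pow_right e hc).dvd_of_dvd_mul_left h1
    exact orderOf_dvd_iff_pow_eq_one.1 h2
  set k₁ : ℤ := ((p ^ e : ℕ) : ℤ) * Nat.gcdA (p ^ e) m with hk₁
  have hα'k : α' ^ k₁ = α' := by
    have h1 : k₁ = 1 - (m : ℤ) * Nat.gcdB (p ^ e) m := by rw [hk₁]; linarith
    rw [h1, zpow_sub, zpow_one, zpow_mul, zpow_natCast, hα'm, one_zpow, inv_one, mul_one]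
  have hind : GflIndA θ hPS (b ^ k₁) α' := by
    have := gflIndA_zpow θ hPS hb k₁
    rwa [hα'k] at this
  refine ⟨b ^ k₁, Subgroup.subset_closure (Or.inl ⟨Subgroup.zpow_mem _ hbM k₁, ?_, ?_⟩), hind⟩
  · exact (gflB_iff θ Nb hPS hPT' _).2 ⟨α', hα', hind⟩
  · have hpow : (b ^ k₁) ^ m = 1 := by
      rw [hk₁, ← zpow_natCast, ← zpow_mul]
      have : ((p ^ e : ℕ) : ℤ) * Nat.gcdA (p ^ e) m * (m : ℤ) =
          ((orderOf b : ℕ) : ℤ) * Nat.gcdA (p ^ e) m := by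
        rw [hem]
        push_cast
        ring
      rw [this, zpow_mul, zpow_natCast, pow_orderOf_eq_one, one_zpow]
    exact Nat.Coprime.coprime_dvd_left (orderOf_dvd_of_pow_eq_one hpow)
      ((Nat.Prime.coprime_iff_not_dvd Fact.out).2 hm).symm

/-- In a saturated fusion system, a `p`-element `α` of `Aut_F(P)` is carried by some map `χ` of the system to the
conjugation by an element of the Sylow group: `χ (α y) = t χ(y) t⁻¹`. -/
theorem gfl_sat_pElt_conj {Ω₀ : Type*} [Group Ω₀] {S₀ : Subgroup Ω₀} [Finite S₀] (p : ℕ) [Fact p.Prime]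
    (hS₀ : IsPGroup p S₀) (F : FusionSystem S₀) (hF : F.IsSaturated p) {P : Subgroup Ω₀} (hPS : P ≤ S₀)
    {α : MulAut P} (hα : α ∈ F.autGroup P) {j : ℕ} (hj : α ^ p ^ j = 1) :
    ∃ χ ∈ F.Hom P, ∃ t ∈ S₀, ∀ y : P, χ (α y) = t * χ y * t⁻¹ := by
  obtain ⟨U₀, ⟨f, hf, hfr⟩, hfn⟩ := Fusion.exists_isConj_fullyNormalized F hPS
  subst hfr
  have hU₀S : f.range ≤ S₀ := hfn.1
  have hfinU₀ : Finite f.range := Fusion.finite_of_le hU₀S
  have hfinA : Finite (MulAut f.range) := inferInstance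
  have hinj := F.injective_of_mem hf
  have hfa : F.IsFullyAutomized p f.range :=
    (Fusion.fullyCentralized_fullyAutomized_of_fullyNormalized p hS₀ F hF hfn).2
  obtain ⟨R, hR⟩ := hfa.2
  set e : P ≃* f.range := Fusion.equivOfRange f hinj rfl with he
  have ha₀ : MulAut.congr e α ∈ F.autGroup f.range := Fusion.congr_mem_autGroup F hf rfl α hα
  have ha₀j : (MulAut.congr e α) ^ p ^ j = 1 := by
    rw [← map_pow, hj, map_one]
  have hzp : IsPGroup p (Subgroup.zpowers (⟨MulAut.congr e α, ha₀⟩ : F.autGroup f.range)) := by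
    rintro ⟨y, hy⟩
    obtain ⟨m, rfl⟩ := Subgroup.mem_zpowers_iff.1 hy
    refine ⟨j, ?_⟩
    apply Subtype.ext
    apply Subtype.ext
    simp only [Subgroup.coe_pow, Subgroup.coe_zpow, Subgroup.coe_one]
    rw [← zpow_natCast, ← zpow_mul, mul_comm, zpow_mul, zpow_natCast, ha₀j, one_zpow]
  obtain ⟨g, hg⟩ := exists_conj_le_sylow R _ hzp
  have hgc : g * ⟨MulAut.congr e α, ha₀⟩ * g⁻¹ ∈ (R : Subgroup (F.autGroup f.range)) :=
    hg ⟨_, Subgroup.mem_zpowers _, rfl⟩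
  rw [hR, Subgroup.mem_subgroupOf] at hgc
  obtain ⟨t, htS, ht⟩ := (mem_autInducedBy_iff _ _ _).1 hgc
  have hghom : gflHom (g : MulAut f.range) ∈ F.Hom f.range :=
    (Fusion.mem_autGroup_iff F hU₀S _).1 g.2
  refine ⟨(gflHom (g : MulAut f.range)).comp (f.codRestrict f.range (fun x => ⟨x, rfl⟩)),
    F.comp_mem hf hghom _, t, htS, fun y => ?_⟩
  have hea : MulAut.congr e α ⟨f y, ⟨y, rfl⟩⟩ = ⟨f (α y), ⟨α y, rfl⟩⟩ := by
    have h1 : (⟨f y, ⟨y, rfl⟩⟩ : f.range) = e y := Subtype.ext rfl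
    rw [h1]
    apply Subtype.ext
    show ((e (α (e.symm (e y))) : f.range) : Ω₀) = f (α y)
    rw [MulEquiv.symm_apply_apply]
    rfl
  have h1 := ht ((g : MulAut f.range) ⟨f y, ⟨y, rfl⟩⟩)
  simp only [Subgroup.coe_mul, Subgroup.coe_inv, MulAut.mul_apply, MulAut.inv_apply_self] at h1
  rw [hea] at h1
  exact h1

/-- a `p`-element of `Aut_Nb(θ P)` is induced by a generator of `A(P)` of the second kind -/
theorem gfl_onto_p [Finite S] [Fact p.Prime] (h : GflSetup p M Z θ Mb Nb) {P : Subgroup Ω}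
    (hZP : Z ≤ P) (hP : P ≤ preimageAlong θ T') (hPS : P ≤ S) {α' : MulAut (imageAlong θ P)}
    (hα' : α' ∈ Nb.autGroup (imageAlong θ P)) {j : ℕ} (hj : α' ^ p ^ j = 1) :
    ∃ α ∈ gflA p M θ Nb P, GflIndA θ hPS α α' := by
  obtain ⟨hfinS', hsetup⟩ := gfl_down_setup h
  have hT'S' : T' ≤ S' := hsetup.le
  have hfinT' : Finite T' := Fusion.finite_of_le hT'S'
  have hPT' : imageAlong θ P ≤ T' := gfl_image_le hP
  have hPS' : imageAlong θ P ≤ S' := hPT'.trans hT'S'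
  have hfinP : Finite P := Fusion.finite_of_le hPS
  have hZS : Z ≤ S := h.fac.1
  have hker := h.fac.2.1
  obtain ⟨χ', hχ', t', ht'T', hχ't⟩ :=
    gfl_sat_pElt_conj p (hsetup.hS.to_le hT'S') Nb h.nrm.1.1 hPT' hα' hj
  obtain ⟨χ, hχ, hP0, hχS, hP', hind⟩ := gfl_lift_hom h hZP hPS (hsetup.sub _ hχ')
  have hinj := M.injective_of_mem hχ
  have hinj' := Nb.injective_of_mem hχ'
  -- a preimage `t` of `t'`
  have htr : t' ∈ θ.range := by
    rw [h.fac.2.2.1]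
    exact hT'S' ht'T'
  obtain ⟨t, rfl⟩ := htr
  have htT : (t : Ω) ∈ preimageAlong θ T' := (Fusion.mem_preimageAlong θ T' _).2 ⟨t.2, ht'T'⟩
  have htoImg : ∀ y : P, (⟨θ ⟨(y : Ω), hP0 y.2⟩, hP' y⟩ : imageAlong θ P) = Fusion.toImg θ P hPS y :=
    fun y => Subtype.ext rfl
  -- `t` normalizes the range of `χ`
  have hconj : ∀ w ∈ χ.range, (t : Ω) * w * (t : Ω)⁻¹ ∈ χ.range := by
    rintro _ ⟨y, rfl⟩
    obtain ⟨y', hy'⟩ := Fusion.toImg_surjective θ P hPS (α' (Fusion.toImg θ P hPS y))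
    have h1 : θ ⟨χ y', hχS y'⟩ = θ t * θ ⟨χ y, hχS y⟩ * (θ t)⁻¹ := by
      rw [← hind y', ← hind y, htoImg, htoImg, hy']
      exact hχ't _
    have h2 : θ (⟨χ y', hχS y'⟩⁻¹ * (t * ⟨χ y, hχS y⟩ * t⁻¹)) = 1 := by
      rw [map_mul, map_inv, map_mul, map_mul, map_inv, h1, inv_mul_cancel]
    have h3 : (χ y')⁻¹ * ((t : Ω) * χ y * (t : Ω)⁻¹) ∈ Z := (hker _).1 h2
    have h4 : χ ⟨_, hZP h3⟩ = (χ y')⁻¹ * ((t : Ω) * χ y * (t : Ω)⁻¹) := gfl_fix_Z h hχ ⟨_, hZP h3⟩ h3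
    refine ⟨y' * ⟨_, hZP h3⟩, ?_⟩
    rw [map_mul, h4]
    group
  have hfinR : Finite χ.range := Fusion.finite_of_le (Fusion.range_le M hχ)
  have htN : (t : Ω) ∈ Subgroup.normalizer (χ.range : Set Ω) :=
    mem_normalizer_of_conj_mem_of_finite χ.range _ hconj
  set e : P ≃* χ.range := Fusion.equivOfRange χ hinj rfl with he
  have hx : ∀ y : P, χ (MulAut.congr e.symm (conjAut χ.range t htN) y) = (t : Ω) * χ y * (t : Ω)⁻¹ := by
    intro y
    have h1 : χ (MulAut.congr e.symm (conjAut χ.range t htN) y) =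
        ((e (MulAut.congr e.symm (conjAut χ.range t htN) y) : χ.range) : Ω) := rfl
    rw [h1]
    show ((e (e.symm (conjAut χ.range t htN (e.symm.symm y))) : χ.range) : Ω) = _
    rw [MulEquiv.apply_symm_apply, conjAut_apply]
    rfl
  refine ⟨MulAut.congr e.symm (conjAut χ.range t htN),
    Subgroup.subset_closure (Or.inr ⟨χ, hχ, t, htT, hx⟩), fun y => ?_⟩
  apply hinj'
  have h1 : χ' (Fusion.toImg θ P hPS (MulAut.congr e.symm (conjAut χ.range t htN) y)) =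
      θ ⟨χ (MulAut.congr e.symm (conjAut χ.range t htN) y), hχS _⟩ := by
    rw [← htoImg]
    exact hind _
  have h2 : χ' (Fusion.toImg θ P hPS y) = θ ⟨χ y, hχS y⟩ := by
    rw [← htoImg]
    exact hind y
  rw [hχ't, h1, h2]
  have h3 : (⟨χ (MulAut.congr e.symm (conjAut χ.range t htN) y), hχS _⟩ : S) =
      t * ⟨χ y, hχS y⟩ * t⁻¹ := Subtype.ext (hx y)
  rw [h3, map_mul, map_mul, map_inv]

/-- L0(e): `A(P) → Aut_Nb(Pbar)` is onto. -/
theorem gfl_A_onto [Finite S] [Fact p.Prime] (h : GflSetup p M Z θ Mb Nb) {P : Subgroup Ω} (hZP : Z ≤ P)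
    (hP : P ≤ preimageAlong θ T') {α' : MulAut (imageAlong θ P)} (hα' : α' ∈ Nb.autGroup (imageAlong θ P)) :
    ∃ α ∈ gflA p M θ Nb P, InducedAlong θ (gflHom α) (gflHom α') := by
  have hTS : preimageAlong θ T' ≤ S := Fusion.preimageAlong_le θ T'
  have hPS : P ≤ S := hP.trans hTS
  obtain ⟨hfinS', hsetup⟩ := gfl_down_setup h
  have hT'S' : T' ≤ S' := hsetup.le
  have hPT' : imageAlong θ P ≤ T' := gfl_image_le hP
  have hfinP' : Finite (imageAlong θ P) := Fusion.finite_of_le (hPT'.trans hT'S')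
  have hfinA : Finite (MulAut (imageAlong θ P)) := inferInstance
  suffices hsuff : ∃ α ∈ gflA p M θ Nb P, GflIndA θ hPS α α' by
    obtain ⟨α, hα, hind⟩ := hsuff
    exact ⟨α, hα, (gflIndA_iff_inducedAlong θ hPS α α').1 hind⟩
  have hn : orderOf α' ≠ 0 := (orderOf_pos α').ne'
  obtain ⟨e, m, hm, hem⟩ := Nat.exists_eq_pow_mul_and_not_dvd hn p (Fact.out : p.Prime).ne_one
  have hcop : Nat.Coprime (p ^ e) m :=
    Nat.Coprime.pow_left e ((Nat.Prime.coprime_iff_not_dvd Fact.out).2 hm)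
  have hbez : ((p ^ e : ℕ) : ℤ) * Nat.gcdA (p ^ e) m + (m : ℤ) * Nat.gcdB (p ^ e) m = 1 := by
    have := Nat.gcd_eq_gcd_ab (p ^ e) m
    rw [hcop.gcd_eq_one] at this
    exact_mod_cast this.symm
  set k₁ : ℤ := ((p ^ e : ℕ) : ℤ) * Nat.gcdA (p ^ e) m with hk₁
  set k₂ : ℤ := (m : ℤ) * Nat.gcdB (p ^ e) m with hk₂
  have hsplit : α' = α' ^ k₁ * α' ^ k₂ := by
    rw [← zpow_add, hbez, zpow_one]
  have h1 : ∃ α ∈ gflA p M θ Nb P, GflIndA θ hPS α (α' ^ k₁) := by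
    refine gfl_onto_p' h hZP hP hPS (Subgroup.zpow_mem _ hα' k₁) ?_
    have hpow : (α' ^ k₁) ^ m = 1 := by
      rw [hk₁, ← zpow_natCast, ← zpow_mul]
      have : ((p ^ e : ℕ) : ℤ) * Nat.gcdA (p ^ e) m * (m : ℤ) =
          ((orderOf α' : ℕ) : ℤ) * Nat.gcdA (p ^ e) m := by
        rw [hem]
        push_cast
        ring
      rw [this, zpow_mul, zpow_natCast, pow_orderOf_eq_one, one_zpow]
    exact Nat.Coprime.coprime_dvd_left (orderOf_dvd_of_pow_eq_one hpow)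
      ((Nat.Prime.coprime_iff_not_dvd Fact.out).2 hm).symm
  have h2 : ∃ α ∈ gflA p M θ Nb P, GflIndA θ hPS α (α' ^ k₂) := by
    refine gfl_onto_p h hZP hP hPS (Subgroup.zpow_mem _ hα' k₂) (j := e) ?_
    rw [hk₂, ← zpow_natCast, ← zpow_mul]
    have : (m : ℤ) * Nat.gcdB (p ^ e) m * ((p ^ e : ℕ) : ℤ) =
        ((orderOf α' : ℕ) : ℤ) * Nat.gcdB (p ^ e) m := by
      rw [hem]
      push_cast
      ring
    rw [this, zpow_mul, zpow_natCast, pow_orderOf_eq_one, one_zpow]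
  obtain ⟨a₁, ha₁, hi₁⟩ := h1
  obtain ⟨a₂, ha₂, hi₂⟩ := h2
  refine ⟨a₁ * a₂, Subgroup.mul_mem _ ha₁ ha₂, ?_⟩
  rw [hsplit]
  exact gflIndA_mul θ hPS hi₁ hi₂

/-! ### Lifts of the maps of `Nb` -/

/-- the predicate "is induced by a map of `N` on the full preimage of the source" -/
def GflLiftPr (p : ℕ) (M : FusionSystem S) (Z : Subgroup Ω) (θ : S →* Ω') (Nb : FusionSystem T')
    (P' : Subgroup Ω') (φ' : P' →* Ω') : Prop :=
  ∃ φ ∈ (gflN p M Z θ Nb).Hom (preimageAlong θ P'), InducedAlong θ φ φ'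

theorem gfl_liftPr_conj [Finite S] [Fact p.Prime] (h : GflSetup p M Z θ Mb Nb) (P' : Subgroup Ω') (g : Ω')
    (hP' : P' ≤ T') (hg : g ∈ T') : GflLiftPr p M Z θ Nb P' (conjHom P' g) := by
  obtain ⟨hfinS', hsetup⟩ := gfl_down_setup h
  have hT'S' : T' ≤ S' := hsetup.le
  have hgr : g ∈ θ.range := by
    rw [h.fac.2.2.1]
    exact hT'S' hg
  obtain ⟨t, rfl⟩ := hgr
  have htT : (t : Ω) ∈ preimageAlong θ T' := (Fusion.mem_preimageAlong θ T' _).2 ⟨t.2, hg⟩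
  have hDT : preimageAlong θ P' ≤ preimageAlong θ T' := by
    intro x hx
    obtain ⟨hxS, hx'⟩ := (Fusion.mem_preimageAlong θ P' x).1 hx
    exact (Fusion.mem_preimageAlong θ T' x).2 ⟨hxS, hP' hx'⟩
  have hDS : preimageAlong θ P' ≤ S := Fusion.preimageAlong_le θ P'
  refine ⟨conjHom (preimageAlong θ P') t, (gflN p M Z θ Nb).conj_mem hDT htT, hDS,
    fun x => S.mul_mem (S.mul_mem t.2 (hDS x.2)) (S.inv_mem t.2),
    fun x => ((Fusion.mem_preimageAlong θ P' x).1 x.2).2, fun x => ?_⟩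
  have e : (⟨(conjHom (preimageAlong θ P') t) x, S.mul_mem (S.mul_mem t.2 (hDS x.2)) (S.inv_mem t.2)⟩ : S) =
      t * ⟨(x : Ω), hDS x.2⟩ * t⁻¹ := rfl
  rw [e, map_mul, map_mul, map_inv]
  rfl

theorem gfl_liftPr_comp [Finite S] [Fact p.Prime] (_h : GflSetup p M Z θ Mb Nb) (P' Q' : Subgroup Ω')
    (φ' : P' →* Ω') (ψ' : Q' →* Ω') (hq : ∀ x : P', φ' x ∈ Q')
    (hφ : GflLiftPr p M Z θ Nb P' φ') (hψ : GflLiftPr p M Z θ Nb Q' ψ') :
    GflLiftPr p M Z θ Nb P' (ψ'.comp (φ'.codRestrict Q' hq)) := by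
  obtain ⟨φ, hφN, hP, hφS, hP', hφi⟩ := hφ
  obtain ⟨ψ, hψN, hQ, hψS, hQ', hψi⟩ := hψ
  have hmap : ∀ x : ↥(preimageAlong θ P'), φ x ∈ preimageAlong θ Q' := by
    intro x
    rw [Fusion.mem_preimageAlong]
    refine ⟨hφS x, ?_⟩
    rw [← hφi x]
    exact hq _
  refine ⟨ψ.comp (φ.codRestrict _ hmap), (gflN p M Z θ Nb).comp_mem hφN hψN hmap, hP,
    fun x => hψS _, hP', fun x => ?_⟩
  have h1 := hψi ⟨φ x, hmap x⟩
  show ψ' ⟨φ' ⟨θ ⟨(x : Ω), hP x.2⟩, hP' x⟩, hq _⟩ = θ ⟨ψ ⟨φ x, hmap x⟩, hψS _⟩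
  rw [← h1]
  congr 1
  apply Subtype.ext
  exact hφi x

theorem gfl_liftPr_inv [Finite S] [Fact p.Prime] (h : GflSetup p M Z θ Mb Nb) (P' : Subgroup Ω')
    (φ' : P' →* Ω') (ψ' : φ'.range →* Ω') (hP'T' : P' ≤ T') (hφ : GflLiftPr p M Z θ Nb P' φ')
    (hinv : ∀ x : P', ψ' ⟨φ' x, ⟨x, rfl⟩⟩ = (x : Ω')) : GflLiftPr p M Z θ Nb φ'.range ψ' := by
  obtain ⟨hfinS', hsetup⟩ := gfl_down_setup h
  have hT'S' : T' ≤ S' := hsetup.le
  have hker := h.fac.2.1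
  obtain ⟨φ, hφN, hP, hφS, hP', hφi⟩ := hφ
  have hφM : φ ∈ M.Hom (preimageAlong θ P') := gflN_le p M Z θ Nb _ hφN
  obtain ⟨ψ, hψN, hψinv⟩ := (gflN p M Z θ Nb).inv_mem hφN
  -- the range of `φ` is the full preimage of the range of `φ'`
  have hrange : φ.range = preimageAlong θ φ'.range := by
    ext w
    constructor
    · rintro ⟨x, rfl⟩
      rw [Fusion.mem_preimageAlong]
      refine ⟨hφS x, ?_⟩
      rw [← hφi x]
      exact ⟨_, rfl⟩
    · intro hw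
      obtain ⟨hwS, y', hy'⟩ := (Fusion.mem_preimageAlong θ _ w).1 hw
      have hy'r : (y' : Ω') ∈ θ.range := by
        rw [h.fac.2.2.1]
        exact hT'S' (hP'T' y'.2)
      obtain ⟨x, hx⟩ := hy'r
      have hxD : (x : Ω) ∈ preimageAlong θ P' := by
        rw [Fusion.mem_preimageAlong]
        exact ⟨x.2, by rw [show (⟨(x : Ω), x.2⟩ : S) = x from rfl, hx]; exact y'.2⟩
      have h1 : θ ⟨φ ⟨x, hxD⟩, hφS _⟩ = θ ⟨w, hwS⟩ := by
        rw [← hφi ⟨x, hxD⟩, ← hy']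
        congr 1
        exact Subtype.ext hx
      have h2 : θ (⟨φ ⟨x, hxD⟩, hφS _⟩⁻¹ * ⟨w, hwS⟩) = 1 := by
        rw [map_mul, map_inv, h1, inv_mul_cancel]
      have h3 : (φ ⟨x, hxD⟩)⁻¹ * w ∈ Z := (hker _).1 h2
      have hzD : (φ ⟨x, hxD⟩)⁻¹ * w ∈ preimageAlong θ P' := by
        rw [Fusion.mem_preimageAlong]
        refine ⟨h.fac.1 h3, ?_⟩
        rw [(hker _).2 h3]
        exact P'.one_mem
      have h4 : φ ⟨_, hzD⟩ = (φ ⟨x, hxD⟩)⁻¹ * w := gfl_fix_Z h hφM ⟨_, hzD⟩ h3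
      refine ⟨⟨x, hxD⟩ * ⟨_, hzD⟩, ?_⟩
      rw [map_mul, h4]
      group
  obtain ⟨ψ₂, hψ₂N, hψ₂inv⟩ : ∃ ψ₂ ∈ (gflN p M Z θ Nb).Hom (preimageAlong θ φ'.range),
      ∀ (x : ↥(preimageAlong θ P')) (hx : φ x ∈ preimageAlong θ φ'.range), ψ₂ ⟨φ x, hx⟩ = (x : Ω) := by
    rw [← hrange]
    exact ⟨ψ, hψN, fun x _ => hψinv x⟩
  clear hψinv hψN ψ
  have hD : preimageAlong θ φ'.range ≤ S := Fusion.preimageAlong_le θ _
  have hTS : preimageAlong θ T' ≤ S := Fusion.preimageAlong_le θ T'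
  refine ⟨ψ₂, hψ₂N, hD, fun w => hTS (Fusion.range_le (gflN p M Z θ Nb) hψ₂N ⟨w, rfl⟩),
    fun w => ((Fusion.mem_preimageAlong θ _ _).1 w.2).2, fun w => ?_⟩
  have hw : (w : Ω) ∈ φ.range := by rw [hrange]; exact w.2
  obtain ⟨x, hx⟩ := hw
  have h1 : ψ₂ w = (x : Ω) := by
    have := hψ₂inv x (hx ▸ w.2)
    rw [← this]
    congr 1
    exact Subtype.ext hx.symm
  have h2 : θ ⟨(w : Ω), hD w.2⟩ = φ' ⟨θ ⟨(x : Ω), hP x.2⟩, hP' x⟩ := by
    rw [hφi x]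
    congr 1
    exact Subtype.ext hx.symm
  have h3 : (⟨θ ⟨(w : Ω), hD w.2⟩, ((Fusion.mem_preimageAlong θ _ _).1 w.2).2⟩ : φ'.range) =
      ⟨φ' ⟨θ ⟨(x : Ω), hP x.2⟩, hP' x⟩, ⟨_, rfl⟩⟩ := Subtype.ext h2
  rw [h3, hinv]
  show θ ⟨(x : Ω), hP x.2⟩ = θ ⟨ψ₂ w, _⟩
  congr 1
  exact Subtype.ext h1.symm

/-- generators: the automorphisms of the images of the members of `H` lift -/
theorem gfl_liftPr_aut [Finite S] [Fact p.Prime] (h : GflSetup p M Z θ Mb Nb) {R : Subgroup Ω}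
    (hR : R ∈ gflH Z θ Nb) {α' : MulAut (imageAlong θ R)} (hα' : α' ∈ Nb.autGroup (imageAlong θ R)) :
    GflLiftPr p M Z θ Nb (imageAlong θ R) (gflHom α') := by
  have hR' := hR
  obtain ⟨hZR, hRT, hcent⟩ := hR
  have hTS : preimageAlong θ T' ≤ S := Fusion.preimageAlong_le θ T'
  have hRS : R ≤ S := hRT.trans hTS
  obtain ⟨α, hα, hind⟩ := gfl_A_onto h hZR hRT hα'
  have hαN : α ∈ (gflN p M Z θ Nb).autGroup R := gfl_gen_le_N h hR' hα
  have hhom : gflHom α ∈ (gflN p M Z θ Nb).Hom R :=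
    (Fusion.mem_autGroup_iff (gflN p M Z θ Nb) hRT α).1 hαN
  unfold GflLiftPr
  rw [gfl_preimage_image h hZR hRS]
  exact ⟨gflHom α, hhom, hind⟩

/-- L0(f): every map of `Nb` is induced by a map of `N` on the full preimage. -/
theorem gfl_lift [Finite S] [Fact p.Prime] (h : GflSetup p M Z θ Mb Nb) {P' : Subgroup Ω'} {φ' : P' →* Ω'}
    (hφ' : φ' ∈ Nb.Hom P') :
    ∃ φ ∈ (gflN p M Z θ Nb).Hom (preimageAlong θ P'), InducedAlong θ φ φ' := by
  obtain ⟨hfinS', hsetup⟩ := gfl_down_setup h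
  have hT'S' : T' ≤ S' := hsetup.le
  have hfinT' : Finite T' := Fusion.finite_of_le hT'S'
  have hT'p : IsPGroup p T' := hsetup.hS.to_le hT'S'
  have hsat : Nb.IsSaturated p := h.nrm.1.1
  have haux : ∀ R ∈ gflH Z θ Nb, ∀ Q' : Subgroup Ω', imageAlong θ R = Q' →
      ∀ α' ∈ Nb.autGroup Q', GflLiftPr p M Z θ Nb Q' (gflHom α') := by
    rintro R hR Q' rfl α' hα'
    exact gfl_liftPr_aut h hR hα'
  have hle : Nb ≤ Fusion.subOfPred Nb (GflLiftPr p M Z θ Nb) (gfl_liftPr_conj h)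
      (fun P' Q' φ' ψ' hq _ _ hφ hψ => gfl_liftPr_comp h P' Q' φ' ψ' hq hφ hψ)
      (fun P' φ' ψ' hφ'N hφ _ hinv =>
        gfl_liftPr_inv h P' φ' ψ' (Fusion.src_le Nb hφ'N) hφ hinv) := by
    apply Fusion.alperin p hT'p Nb hsat
    intro Q' hQ'
    have hcent : Nb.IsCentric Q' := by
      rcases hQ' with rfl | hess
      · have h1 := (gfl_T_mem_H h).2.2
        rwa [Fusion.imageAlong_preimageAlong θ h.fac.2.2.1 hT'S'] at h1
      · exact hess.1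
    have hQ'T' : Q' ≤ T' := hcent.1
    have himg : imageAlong θ (preimageAlong θ Q') = Q' :=
      Fusion.imageAlong_preimageAlong θ h.fac.2.2.1 (hQ'T'.trans hT'S')
    have hRH : preimageAlong θ Q' ∈ gflH Z θ Nb := by
      refine ⟨?_, ?_, ?_⟩
      · intro z hz
        rw [Fusion.mem_preimageAlong]
        refine ⟨h.fac.1 hz, ?_⟩
        rw [(h.fac.2.1 _).2 hz]
        exact Q'.one_mem
      · intro x hx
        obtain ⟨hxS, hx'⟩ := (Fusion.mem_preimageAlong θ Q' x).1 hx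
        exact (Fusion.mem_preimageAlong θ T' x).2 ⟨hxS, hQ'T' hx'⟩
      · rw [himg]
        exact hcent
    intro α' hα'
    rw [Fusion.mem_autGroup_iff _ hQ'T']
    exact ⟨(Fusion.mem_autGroup_iff Nb hQ'T' α').1 hα', haux _ hRH Q' himg α' hα'⟩
  exact (hle P' hφ').2

end Cfsg.Agent.GFS
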