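import Mathlib
import Cfsg.Agent.GFS.LiftBasic
import Cfsg.Agent.GFS.CoreNormal
import Cfsg.Agent.Lead.FusionSat3
import Cfsg.Agent.Helper5.PResidual
import Cfsg.Agent.Helper4.PElementFiber

set_option autoImplicit false

/-!
# Lifting a normal subsystem through a central quotient (N2), part 1b: fully normalized subgroups

Notation of `LiftDefs` and `LiftBasic`.  "Good" means fully `M`-normalized.
-/

namespace Cfsg.Agent.GFS

open Cfsg Cfsg.FusionSystem Cfsg.Agent.Lead Cfsg.Agent.Lead.StrongInv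

universe u v

variable {Ω : Type u} [Group Ω] {S : Subgroup Ω} {Ω' : Type v} [Group Ω'] {S' T' : Subgroup Ω'}
variable {p : ℕ} {M : FusionSystem S} {Z : Subgroup Ω} {θ : S →* Ω'} {Mb : FusionSystem S'}
  {Nb : FusionSystem T'}

/-! ### An abstract Frattini lemma -/

/-- conjugation by `ν` preserves a closure if it carries the generators into the closure -/
theorem gfl_conj_closure {G : Type*} [Group G] {X : Set G} {ν : G}
    (hX : ∀ x ∈ X, ν * x * ν⁻¹ ∈ Subgroup.closure X) :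
    ∀ c ∈ Subgroup.closure X, ν * c * ν⁻¹ ∈ Subgroup.closure X := by
  intro c hc
  have hle : (Subgroup.closure X).map (MulAut.conj ν).toMonoidHom ≤ Subgroup.closure X := by
    rw [MonoidHom.map_closure, Subgroup.closure_le]
    rintro _ ⟨x, hx, rfl⟩
    exact hX x hx
  exact hle ⟨c, hc, rfl⟩

/-- `G` finite, `Ŝ` a Sylow `p`-subgroup, `B` normal in `G`, `Θ ≤ B` a subgroup that the normalizer of
`Ŝ ∩ B` normalizes: then the subgroup generated by the `p'`-elements of `B` and by `Θ` is normal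
in `G`. -/
theorem gfl_gt {G : Type*} [Group G] [Finite G] {p : ℕ} [Fact p.Prime] (Sh : Sylow p G)
    (B : Subgroup G) [hB : B.Normal] (Θ : Subgroup G)
    (hN : ∀ ν ∈ Subgroup.normalizer ((((Sh : Subgroup G) ⊓ B : Subgroup G)) : Set G),
      ∀ t ∈ Θ, ν * t * ν⁻¹ ∈ Θ) (g : G) :
    ∀ c ∈ Subgroup.closure ({b | b ∈ B ∧ (orderOf b).Coprime p} ∪ (Θ : Set G)),
      g * c * g⁻¹ ∈ Subgroup.closure ({b | b ∈ B ∧ (orderOf b).Coprime p} ∪ (Θ : Set G)) := by
  set X : Set G := {b | b ∈ B ∧ (orderOf b).Coprime p} ∪ (Θ : Set G) with hXdef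
  set C := Subgroup.closure X with hC
  set Sg : Subgroup G := (Sh : Subgroup G) ⊓ B with hSg
  -- the normalizer of `Sg` normalizes `C`
  have hconj : ∀ ν ∈ Subgroup.normalizer (Sg : Set G), ∀ c ∈ C, ν * c * ν⁻¹ ∈ C := by
    intro ν hν
    apply gfl_conj_closure
    rintro x (⟨hxB, hxo⟩ | hxΘ)
    · apply Subgroup.subset_closure
      left
      refine ⟨hB.conj_mem x hxB ν, ?_⟩
      have : orderOf (ν * x * ν⁻¹) = orderOf x := by
        have := MulEquiv.orderOf_eq (MulAut.conj ν) x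
        rwa [MulAut.conj_apply] at this
      show (orderOf (ν * x * ν⁻¹)).Coprime p
      rw [this]
      exact hxo
    · exact Subgroup.subset_closure (Or.inr (hN ν hν x hxΘ))
  have h1 : Subgroup.normalizer (Sg : Set G) ≤ Subgroup.normalizer (C : Set G) := by
    intro ν hν
    rw [Subgroup.mem_normalizer_iff]
    intro c
    constructor
    · exact hconj ν hν c
    · intro hc
      have h2 := hconj ν⁻¹ (Subgroup.inv_mem _ hν) _ hc
      have h3 : ν⁻¹ * (ν * c * ν⁻¹) * ν⁻¹⁻¹ = c := by group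
      rwa [h3] at h2
  -- `B ≤ O^p(B) Sg`
  have hcard : Nat.card (Sg.subgroupOf B) = p ^ (Nat.card B).factorization p := by
    rw [card_subgroupOf_of_le (inf_le_right : Sg ≤ B)]
    exact Cfsg.Agent.Helper4.card_sylow_inf_normal' p Sh B
  set Q : Sylow p B := Sylow.ofCard (Sg.subgroupOf B) hcard with hQ
  have hQmap : (Q : Subgroup B).map B.subtype = Sg := by
    rw [hQ, Sylow.coe_ofCard, Subgroup.subgroupOf_map_subtype]
    exact inf_eq_left.mpr inf_le_right
  have h2 : B ≤ C ⊔ Sg := by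
    have hsup := Cfsg.Agent.Helper5.pResidual_sup_sylow (p := p) Q
    have h3 : (⊤ : Subgroup B).map B.subtype = B := by
      rw [← MonoidHom.range_eq_map, Subgroup.range_subtype]
    rw [← h3, ← hsup, Subgroup.map_sup, hQmap]
    apply sup_le_sup_right
    unfold Cfsg.pResidual
    rw [MonoidHom.map_closure, Subgroup.closure_le]
    rintro _ ⟨b, hb, rfl⟩
    apply Subgroup.subset_closure
    left
    refine ⟨b.2, ?_⟩
    show (orderOf ((b : B) : G)).Coprime p
    rw [Subgroup.orderOf_coe]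
    exact hb
  -- Frattini
  have h3 : Subgroup.normalizer (Sg : Set G) ⊔ B = ⊤ := by
    have := Sylow.normalizer_sup_eq_top Q
    rwa [hQmap] at this
  have h4 : (⊤ : Subgroup G) ≤ Subgroup.normalizer (C : Set G) := by
    rw [← h3]
    apply sup_le h1
    refine h2.trans (sup_le Subgroup.le_normalizer ?_)
    exact (Subgroup.le_normalizer).trans h1
  intro c hc
  exact (Subgroup.mem_normalizer_iff.mp (h4 (Subgroup.mem_top g)) c).mp hc

section setup

variable [Finite S] [Fact p.Prime] (h : GflSetup p M Z θ Mb Nb)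

include h

theorem GflSetup.θS' (s : S) : θ s ∈ S' := by
  rw [← h.range]
  exact ⟨s, rfl⟩

/-- the kernel subgroup of `θ` is `Z` -/
theorem gfl_kerAlong : Fusion.kerAlong θ = Z := by
  ext s
  rw [Fusion.mem_kerAlong]
  constructor
  · rintro ⟨hs, h1⟩
    exact (h.ker ⟨s, hs⟩).mp h1
  · intro hs
    exact ⟨h.ZS hs, (h.ker ⟨s, h.ZS hs⟩).mpr hs⟩

/-- `N_T` of a full preimage is the full preimage of `N_T'`. -/
theorem gfl_normT_preimage {X' : Subgroup Ω'} (hX' : X' ≤ T') :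
    normalizerIn (preimageAlong θ T') (preimageAlong θ X') =
      preimageAlong θ (normalizerIn T' X') := by
  have hX'S : X' ≤ S' := hX'.trans h.T'le
  have key := Fusion.normalizerIn_preimageAlong θ h.θS' h.range hX'S
  ext g
  constructor
  · intro hg
    obtain ⟨hgT, hgN⟩ := Subgroup.mem_inf.mp hg
    obtain ⟨hgS, hgT'⟩ := (Fusion.mem_preimageAlong θ T' g).mp hgT
    have h1 : g ∈ normalizerIn S (preimageAlong θ X') := Subgroup.mem_inf.mpr ⟨hgS, hgN⟩
    rw [key] at h1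
    obtain ⟨_, h2⟩ := (Fusion.mem_preimageAlong θ _ g).mp h1
    exact (Fusion.mem_preimageAlong θ _ g).mpr ⟨hgS, Subgroup.mem_inf.mpr ⟨hgT', (Subgroup.mem_inf.mp h2).2⟩⟩
  · intro hg
    obtain ⟨hgS, h1⟩ := (Fusion.mem_preimageAlong θ _ g).mp hg
    obtain ⟨h2, h3⟩ := Subgroup.mem_inf.mp h1
    have h4 : g ∈ preimageAlong θ (normalizerIn S' X') :=
      (Fusion.mem_preimageAlong θ _ g).mpr ⟨hgS, Subgroup.mem_inf.mpr ⟨h.θS' _, h3⟩⟩
    rw [← key] at h4
    exact Subgroup.mem_inf.mpr ⟨(Fusion.mem_preimageAlong θ T' g).mpr ⟨hgS, h2⟩, (Subgroup.mem_inf.mp h4).2⟩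

/-- `N_T(Q)` is not larger than `N_T(P)` when `P` is fully `M`-normalized and `Q` is `M`-conjugate to `P`. -/
theorem gfl_card_normT_le {P Q : Subgroup Ω} (hfn : M.IsFullyNormalized P) (hQP : M.IsConj Q P) :
    Nat.card (normalizerIn (preimageAlong θ T') Q) ≤ Nat.card (normalizerIn (preimageAlong θ T') P) := by
  obtain ⟨hfc, hfa⟩ := Fusion.fullyCentralized_fullyAutomized_of_fullyNormalized p h.hS M h.sat hfn
  have hrec := Fusion.receptive_of_fullyCentralized p h.hS M h.sat hfc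
  obtain ⟨ρ, hρ, hρN, -⟩ := Fusion.exists_hom_normalizerIn p h.hS M hfa hrec hQP
  have hTS := gfl_T_le θ T'
  have hle : normalizerIn (preimageAlong θ T') Q ≤ normalizerIn S Q := inf_le_inf hTS le_rfl
  have hρ' := Fusion.restrict_mem M hρ hle
  have hval : ∀ x : normalizerIn (preimageAlong θ T') Q,
      ρ (Subgroup.inclusion hle x) ∈ normalizerIn (preimageAlong θ T') P := by
    intro x
    refine Subgroup.mem_inf.mpr ⟨?_, (Subgroup.mem_inf.mp (hρN _)).2⟩
    exact (gfl_stronglyClosed h).2 _ inf_le_left _ hρ' x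
  haveI : Finite (normalizerIn (preimageAlong θ T') P) :=
    Fusion.finite_of_le ((inf_le_left : normalizerIn (preimageAlong θ T') P ≤ _).trans hTS)
  refine Nat.card_le_card_of_injective (fun x => (⟨ρ (Subgroup.inclusion hle x), hval x⟩ :
    normalizerIn (preimageAlong θ T') P)) ?_
  intro x y hxy
  have h1 : ρ (Subgroup.inclusion hle x) = ρ (Subgroup.inclusion hle y) := congrArg Subtype.val hxy
  exact Subgroup.inclusion_injective hle (M.injective_of_mem hρ h1)

/-- a fully `M`-normalized `P ⊇ Z` inside `T` has a fully `Nb`-normalized image -/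
theorem gfl_good_image {P : Subgroup Ω} (hZP : Z ≤ P) (hP : P ≤ preimageAlong θ T')
    (hfn : M.IsFullyNormalized P) : Nb.IsFullyNormalized (imageAlong θ P) := by
  have hTS := gfl_T_le θ T'
  have hPS : P ≤ S := hP.trans hTS
  have hP'T : imageAlong θ P ≤ T' := gfl_image_le hP
  refine ⟨hP'T, ?_⟩
  rintro Q' ⟨φ', hφ', hr'⟩
  have hQ'T : Q' ≤ T' := hr' ▸ Fusion.range_le Nb hφ'
  have hconj : M.IsConj (preimageAlong θ (imageAlong θ P)) (preimageAlong θ Q') :=
    Fusion.isConj_preimage M Mb θ h.surj ⟨φ', h.inv.1 _ hφ', hr'⟩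
  rw [gfl_pre_image h hZP hPS] at hconj
  have hcard := gfl_card_normT_le h hfn (Fusion.isConj_symm M hconj)
  rw [gfl_normT_preimage h hQ'T] at hcard
  have h2 := gfl_normT_preimage h hP'T
  rw [gfl_pre_image h hZP hPS] at h2
  have c1 := Fusion.card_preimageAlong θ h.range (Y' := normalizerIn T' Q')
    (inf_le_left.trans h.T'le)
  have c2 := Fusion.card_preimageAlong θ h.range (Y' := normalizerIn T' (imageAlong θ P))
    (inf_le_left.trans h.T'le)
  rw [h2, c1, c2] at hcard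
  have hpos : 0 < Nat.card ↥(Fusion.kerAlong θ) := by
    haveI : Finite ↥(Fusion.kerAlong θ) := Fusion.finite_of_le (Fusion.kerAlong_le θ)
    exact Nat.card_pos
  exact Nat.le_of_mul_le_mul_left hcard hpos

omit [Finite S] [Fact p.Prime] h in
/-- the automorphisms of `P ≤ T` in the naive preimage -/
theorem gfl_mem_autX {P : Subgroup Ω} (hP : P ≤ preimageAlong θ T') (α : MulAut P) :
    α ∈ (gflX M θ Nb).autGroup P ↔ α ∈ M.autGroup P ∧ GflB θ Nb P α := by
  have hPS : P ≤ S := hP.trans (gfl_T_le θ T')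
  rw [Fusion.mem_autGroup_iff (gflX M θ Nb) hP, Fusion.mem_autGroup_iff M hPS]
  constructor
  · intro hα
    exact ⟨hα.1, hα.2.2.2⟩
  · rintro ⟨h1, h2⟩
    exact ⟨h1, hP, fun x => hP (α x).2, h2⟩

/-- `B(P)` is normalized by `Aut_M(P)` -/
theorem gflB_normal {P : Subgroup Ω} (hP : P ≤ preimageAlong θ T') {β α : MulAut P}
    (hβ : β ∈ M.autGroup P) (hα : GflB θ Nb P α) : GflB θ Nb P (β * α * β⁻¹) := by
  have hPS : P ≤ S := hP.trans (gfl_T_le θ T')
  have hβM := (Fusion.mem_autGroup_iff M hPS β).mp hβ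
  have h1 := gflB_congr h hP hβM (range_aut P β) hα
  set e := Fusion.equivOfRange _ (M.injective_of_mem hβM) (range_aut P β) with he
  have : β * α * β⁻¹ = MulAut.congr e α := by
    apply MulEquiv.ext
    intro y
    have hβe : ∀ z : P, e z = β z := fun z => Subtype.ext rfl
    obtain ⟨r, rfl⟩ := e.surjective y
    show β (α (β⁻¹ (e r))) = e (α (e.symm (e r)))
    rw [MulEquiv.symm_apply_apply, hβe, hβe]
    congr 2
    exact (MulAut.inv_apply_self _ β r)
  rw [this]
  exact h1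

omit [Finite S] [Fact p.Prime] h in
/-- an element inducing an automorphism of `P` by conjugation normalizes `P` -/
theorem gfl_mem_normalizer_of_conj {P : Subgroup Ω} {c : MulAut P} {t : Ω}
    (hc : ∀ x : P, ((c x : P) : Ω) = t * (x : Ω) * t⁻¹) : t ∈ Subgroup.normalizer (P : Set Ω) := by
  rw [Subgroup.mem_normalizer_iff]
  intro y
  constructor
  · intro hy
    rw [← hc ⟨y, hy⟩]
    exact (c ⟨y, hy⟩).2
  · intro hy
    have h1 := hc (c⁻¹ ⟨t * y * t⁻¹, hy⟩)
    rw [MulAut.apply_inv_self] at h1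
    have h2 : y = ((c⁻¹ ⟨t * y * t⁻¹, hy⟩ : P) : Ω) := by
      have h3 : t * y * t⁻¹ = t * ((c⁻¹ ⟨t * y * t⁻¹, hy⟩ : P) : Ω) * t⁻¹ := h1
      have h4 := mul_right_cancel h3
      exact mul_left_cancel h4
    rw [h2]
    exact (c⁻¹ ⟨t * y * t⁻¹, hy⟩).2

/-- At a receptive `P ≤ T`: an `Aut_M(P)`-conjugate of an element of `Aut_T(P)` that lies in
`Aut_S(P)` lies in `Aut_T(P)`. -/
theorem gfl_conj_autT {P : Subgroup Ω} (hP : P ≤ preimageAlong θ T') (hrec : M.IsReceptive P)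
    {ν c : MulAut P} (hν : ν ∈ M.autGroup P) (hc : c ∈ autInducedBy (preimageAlong θ T') P)
    (hνc : ν * c * ν⁻¹ ∈ autInducedBy S P) : ν * c * ν⁻¹ ∈ autInducedBy (preimageAlong θ T') P := by
  have hTS := gfl_T_le θ T'
  have hPS : P ≤ S := hP.trans hTS
  have hνM := (Fusion.mem_autGroup_iff M hPS ν).mp hν
  obtain ⟨t, htT, hct⟩ := (mem_autInducedBy_iff _ P c).mp hc
  obtain ⟨s, hsS, hcs⟩ := (mem_autInducedBy_iff _ P _).mp hνc
  have htN : t ∈ Subgroup.normalizer (P : Set Ω) := gfl_mem_normalizer_of_conj hct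
  -- `t` lies in the extender of `ν`
  have htE : t ∈ extender S P (gflHom ν) := by
    apply Subgroup.subset_closure
    refine ⟨hTS htT, htN, s, hsS, fun x hx => ?_⟩
    have h1 := hcs (ν x)
    have h2 : (ν * c * ν⁻¹) (ν x) = ν (c x) := by
      show ν (c (ν⁻¹ (ν x))) = ν (c x)
      rw [MulAut.inv_apply_self]
    rw [h2] at h1
    have h3 : c x = ⟨t * (x : Ω) * t⁻¹, hx⟩ := Subtype.ext (hct x)
    rw [h3] at h1
    exact h1
  obtain ⟨ψ, hψ, hext⟩ := hrec.2 P (gflHom ν) hνM (range_aut P ν)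
  have hPE : P ≤ extender S P (gflHom ν) :=
    Fusion.le_extender P hPS (gflHom ν) (fun x => hPS (ν x).2)
  -- the image of `t`
  have ht₁T : ψ ⟨t, htE⟩ ∈ preimageAlong θ T' := by
    have hle : extender S P (gflHom ν) ⊓ preimageAlong θ T' ≤ extender S P (gflHom ν) := inf_le_left
    have := (gfl_stronglyClosed h).2 _ inf_le_right _ (Fusion.restrict_mem M hψ hle)
      ⟨t, Subgroup.mem_inf.mpr ⟨htE, htT⟩⟩
    exact this
  rw [mem_autInducedBy_iff]
  refine ⟨ψ ⟨t, htE⟩, ht₁T, fun y => ?_⟩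
  obtain ⟨x, rfl⟩ := ν.surjective y
  have h2 : (ν * c * ν⁻¹) (ν x) = ν (c x) := by
    show ν (c (ν⁻¹ (ν x))) = ν (c x)
    rw [MulAut.inv_apply_self]
  rw [h2]
  have h3 : ((ν (c x) : P) : Ω) = ψ ⟨(c x : P), hPE (c x).2⟩ := (hext _ (c x).2 _).symm
  have h4 : ((ν x : P) : Ω) = ψ ⟨(x : P), hPE x.2⟩ := (hext _ x.2 _).symm
  rw [h3, h4, ← map_inv, ← map_mul, ← map_mul]
  congr 1
  exact Subtype.ext (hct x)

/-- at a good `P`, a generator of the second kind is an `Aut_M(P)`-conjugate of an element of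
`Aut_T(P)` -/
theorem gfl_gen2_good {P : Subgroup Ω} (hP : P ≤ preimageAlong θ T') (hfn : M.IsFullyNormalized P)
    {α : MulAut P} {φ₀ : P →* Ω} (hφ₀ : φ₀ ∈ M.Hom P) {t : Ω} (ht : t ∈ preimageAlong θ T')
    (hαt : ∀ x : P, φ₀ (α x) = t * φ₀ x * t⁻¹) :
    ∃ g ∈ M.autGroup P, g * α * g⁻¹ ∈ autInducedBy (preimageAlong θ T') P := by
  have hTS := gfl_T_le θ T'
  have hPS : P ≤ S := hP.trans hTS
  obtain ⟨hfc, hfa⟩ := Fusion.fullyCentralized_fullyAutomized_of_fullyNormalized p h.hS M h.sat hfn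
  have hrec := Fusion.receptive_of_fullyCentralized p h.hS M h.sat hfc
  have hconj : M.IsConj φ₀.range P := Fusion.isConj_symm M ⟨φ₀, hφ₀, rfl⟩
  obtain ⟨ρ, hρ, hρN, hρP⟩ := Fusion.exists_hom_normalizerIn p h.hS M hfa hrec hconj
  have hP'S : φ₀.range ≤ S := Fusion.range_le M hφ₀
  have hP'N : φ₀.range ≤ normalizerIn S φ₀.range := Fusion.le_normalizerIn hP'S
  -- `t` normalizes the range of `φ₀`
  have htN : t ∈ normalizerIn S φ₀.range := by
    refine Subgroup.mem_inf.mpr ⟨hTS ht, ?_⟩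
    rw [Subgroup.mem_normalizer_iff]
    intro y
    constructor
    · rintro ⟨x, rfl⟩
      exact ⟨α x, hαt x⟩
    · rintro ⟨x', hx'⟩
      have h1 := hαt (α⁻¹ x')
      rw [MulAut.apply_inv_self, hx'] at h1
      have h2 := mul_left_cancel (mul_right_cancel h1)
      exact ⟨α⁻¹ x', h2.symm⟩
  have hcod : ∀ x : P, φ₀ x ∈ normalizerIn S φ₀.range := fun x => hP'N ⟨x, rfl⟩
  have hγ := M.comp_mem hφ₀ hρ hcod
  set γ : P →* Ω := ρ.comp (φ₀.codRestrict _ hcod) with hγdef
  have hγr : γ.range = P := by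
    ext y
    constructor
    · rintro ⟨x, rfl⟩
      exact hρP.le ⟨⟨φ₀ x, hcod x⟩, Subgroup.mem_subgroupOf.mpr ⟨x, rfl⟩, rfl⟩
    · intro hy
      obtain ⟨n, hn, rfl⟩ := hρP.ge hy
      obtain ⟨x, hx⟩ := Subgroup.mem_subgroupOf.mp hn
      refine ⟨x, ?_⟩
      show ρ ⟨φ₀ x, hcod x⟩ = ρ n
      congr 1
      exact Subtype.ext hx
  set g : MulAut P := Fusion.equivOfRange γ (M.injective_of_mem hγ) hγr with hg
  have hgγ : ∀ x : P, ((g x : P) : Ω) = γ x := fun x => rfl
  have hgM : g ∈ M.autGroup P := by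
    rw [Fusion.mem_autGroup_iff M hPS]
    have : P.subtype.comp g.toMonoidHom = γ := by
      ext x
      rfl
    rw [this]
    exact hγ
  refine ⟨g, hgM, ?_⟩
  have ht₁T : ρ ⟨t, htN⟩ ∈ preimageAlong θ T' := by
    have hle : normalizerIn S φ₀.range ⊓ preimageAlong θ T' ≤ normalizerIn S φ₀.range := inf_le_left
    exact (gfl_stronglyClosed h).2 _ inf_le_right _ (Fusion.restrict_mem M hρ hle)
      ⟨t, Subgroup.mem_inf.mpr ⟨htN, ht⟩⟩
  rw [mem_autInducedBy_iff]
  refine ⟨ρ ⟨t, htN⟩, ht₁T, fun y => ?_⟩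
  obtain ⟨x, rfl⟩ := g.surjective y
  have h2 : (g * α * g⁻¹) (g x) = g (α x) := by
    show g (α (g⁻¹ (g x))) = g (α x)
    rw [MulAut.inv_apply_self]
  rw [h2, hgγ, hgγ]
  show ρ ⟨φ₀ (α x), hcod (α x)⟩ = ρ ⟨t, htN⟩ * ρ ⟨φ₀ x, hcod x⟩ * (ρ ⟨t, htN⟩)⁻¹
  rw [← map_inv, ← map_mul, ← map_mul]
  congr 1
  exact Subtype.ext (hαt x)

/-- L0(d): at a good `P`, `A(P)` is generated by the `p'`-elements of `B(P)` and `Aut_T(P)`. -/
theorem gfl_A_good_eq {P : Subgroup Ω} (hZP : Z ≤ P) (hP : P ≤ preimageAlong θ T')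
    (hfn : M.IsFullyNormalized P) :
    gflA p M θ Nb P =
      Subgroup.closure ({β : MulAut P | β ∈ M.autGroup P ∧ GflB θ Nb P β ∧ (orderOf β).Coprime p} ∪
        (autInducedBy (preimageAlong θ T') P : Set (MulAut P))) := by
  have hTS := gfl_T_le θ T'
  have hPS : P ≤ S := hP.trans hTS
  haveI : Finite P := Fusion.finite_of_le hPS
  obtain ⟨hfc, hfa⟩ := Fusion.fullyCentralized_fullyAutomized_of_fullyNormalized p h.hS M h.sat hfn
  have hrec := Fusion.receptive_of_fullyCentralized p h.hS M h.sat hfc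
  obtain ⟨-, R, hR⟩ := hfa
  have hTle : autInducedBy (preimageAlong θ T') P ≤ autInducedBy S P := by
    unfold autInducedBy
    apply Subgroup.closure_mono
    rintro β ⟨g, hg, hβ⟩
    exact ⟨g, hTS hg, hβ⟩
  have hTG : autInducedBy (preimageAlong θ T') P ≤ M.autGroup P :=
    hTle.trans (Fusion.autInducedBy_le_autGroup M hPS)
  set X₀ : Set (MulAut P) :=
    {β : MulAut P | β ∈ M.autGroup P ∧ GflB θ Nb P β ∧ (orderOf β).Coprime p} ∪
        (autInducedBy (preimageAlong θ T') P : Set (MulAut P)) with hX₀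
  apply le_antisymm
  · -- the group-theoretic part
    let B : Subgroup (M.autGroup P) := ((gflX M θ Nb).autGroup P).subgroupOf (M.autGroup P)
    haveI hBn : B.Normal := by
      refine ⟨fun a ha b => ?_⟩
      have ha' : (a : MulAut P) ∈ (gflX M θ Nb).autGroup P := Subgroup.mem_subgroupOf.mp ha
      rw [gfl_mem_autX hP] at ha'
      apply Subgroup.mem_subgroupOf.mpr
      rw [gfl_mem_autX hP]
      exact ⟨(b * a * b⁻¹).2, gflB_normal h hP b.2 ha'.2⟩
    let Θ : Subgroup (M.autGroup P) :=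
      (autInducedBy (preimageAlong θ T') P).subgroupOf (M.autGroup P)
    have hN : ∀ ν ∈ Subgroup.normalizer ((((R : Subgroup (M.autGroup P)) ⊓ B : Subgroup _)) : Set _),
        ∀ c ∈ Θ, ν * c * ν⁻¹ ∈ Θ := by
      intro ν hν c hc
      have hc' : (c : MulAut P) ∈ autInducedBy (preimageAlong θ T') P := Subgroup.mem_subgroupOf.mp hc
      have hcSg : c ∈ (R : Subgroup (M.autGroup P)) ⊓ B := by
        refine Subgroup.mem_inf.mpr ⟨?_, ?_⟩
        · rw [hR]
          exact Subgroup.mem_subgroupOf.mpr (hTle hc')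
        · exact Subgroup.mem_subgroupOf.mpr
            (Fusion.autInducedBy_le_autGroup (gflX M θ Nb) hP hc')
      have h1 := (Subgroup.mem_normalizer_iff.mp hν c).mp hcSg
      have h2 : ν * c * ν⁻¹ ∈ (R : Subgroup (M.autGroup P)) := (Subgroup.mem_inf.mp h1).1
      rw [hR] at h2
      have h3 : (ν : MulAut P) * (c : MulAut P) * (ν : MulAut P)⁻¹ ∈ autInducedBy S P :=
        Subgroup.mem_subgroupOf.mp h2
      exact Subgroup.mem_subgroupOf.mpr (gfl_conj_autT h hP hrec ν.2 hc' h3)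
    have key := gfl_gt R B Θ hN
    have hmap : ∀ y ∈ Subgroup.closure ({b | b ∈ B ∧ (orderOf b).Coprime p} ∪ (Θ : Set (M.autGroup P))),
        (y : MulAut P) ∈ Subgroup.closure X₀ := by
      have hle : (Subgroup.closure ({b | b ∈ B ∧ (orderOf b).Coprime p} ∪
          (Θ : Set (M.autGroup P)))).map (M.autGroup P).subtype ≤ Subgroup.closure X₀ := by
        rw [MonoidHom.map_closure, Subgroup.closure_le]
        rintro _ ⟨b, (⟨hbB, hbo⟩ | hbΘ), rfl⟩
        · apply Subgroup.subset_closure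
          left
          have hb' : (b : MulAut P) ∈ (gflX M θ Nb).autGroup P := Subgroup.mem_subgroupOf.mp hbB
          rw [gfl_mem_autX hP] at hb'
          refine ⟨hb'.1, hb'.2, ?_⟩
          show (orderOf ((b : M.autGroup P) : MulAut P)).Coprime p
          rw [Subgroup.orderOf_coe]
          exact hbo
        · exact Subgroup.subset_closure (Or.inr (Subgroup.mem_subgroupOf.mp hbΘ))
      intro y hy
      exact hle ⟨y, hy, rfl⟩
    unfold gflA
    rw [Subgroup.closure_le]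
    rintro α (⟨hαM, hαB, hαo⟩ | ⟨φ₀, hφ₀, t, ht, hαt⟩)
    · exact Subgroup.subset_closure (Or.inl ⟨hαM, hαB, hαo⟩)
    · obtain ⟨g, hgM, hc⟩ := gfl_gen2_good h hP hfn hφ₀ ht hαt
      have hcG : g * α * g⁻¹ ∈ M.autGroup P := hTG hc
      have h1 := key ⟨g⁻¹, Subgroup.inv_mem _ hgM⟩ ⟨g * α * g⁻¹, hcG⟩
        (Subgroup.subset_closure (Or.inr (Subgroup.mem_subgroupOf.mpr hc)))
      have h2 := hmap _ h1
      have h3 : ((⟨g⁻¹, Subgroup.inv_mem _ hgM⟩ * ⟨g * α * g⁻¹, hcG⟩ *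
          (⟨g⁻¹, Subgroup.inv_mem _ hgM⟩ : M.autGroup P)⁻¹ : M.autGroup P) : MulAut P) = α := by
        show g⁻¹ * (g * α * g⁻¹) * g⁻¹⁻¹ = α
        group
      rw [h3] at h2
      exact h2
  · rw [Subgroup.closure_le]
    rintro β (⟨hβM, hβB, hβo⟩ | hβT)
    · exact Subgroup.subset_closure (Or.inl ⟨hβM, hβB, hβo⟩)
    · exact gfl_autT_le_A h hP hβT

end setup

end Cfsg.Agent.GFS
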