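import Mathlib
import Cfsg.Agent.GFS.LiftDefs
import Cfsg.Agent.GFS.LiftBasic
import Cfsg.Agent.GFS.LiftGood
import Cfsg.Agent.GFS.LiftInd
import Cfsg.Agent.GFS.TransferSub
import Cfsg.Agent.GFS.LiftLocalA

set_option autoImplicit false

/-!
# N2, piece P2, part B: the local step L1

`gfl_sig_max`: at a fully `M`-normalized `Q ∈ H`, `Aut_T(Q) K_Q` is a maximal `p`-subgroup of `B(Q)`.
`gfl_L1`: at a fully `M`-normalized `Q ∈ H`, `A(Q) ∩ K_Q ≤ Aut_T(Q)` (transfer, `gfs_transfer_meet_rel`).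
`gfl_L1_sylow`: there `Aut_T(Q)` is a Sylow `p`-subgroup of `A(Q)`.
-/

namespace Cfsg.Agent.GFS

open Cfsg Cfsg.FusionSystem Cfsg.Agent.Lead

universe u v

variable {Ω : Type u} [Group Ω] {S : Subgroup Ω} {Ω' : Type v} [Group Ω'] {S' T' : Subgroup Ω'}
variable {p : ℕ} {M : FusionSystem S} {Z : Subgroup Ω} {θ : S →* Ω'} {Mb : FusionSystem S'}
  {Nb : FusionSystem T'}

/-- The local configuration at a fully `M`-normalized `Q ∈ H`: `Sig = Aut_T(Q) K_Q` is a maximal `p`-subgroup of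
`B(Q)`. -/
theorem gfl_sig_max [Finite S] [Fact p.Prime] (h : GflSetup p M Z θ Mb Nb) {Q : Subgroup Ω}
    (hQ : Q ∈ gflH Z θ Nb) (hfn : M.IsFullyNormalized Q) (hQS : Q ≤ S) (R : Subgroup (MulAut Q))
    (hRB : R ≤ gflBsub M θ Nb hQS) (hRp : IsPGroup p R)
    (hle : autInducedBy (preimageAlong θ T') Q ⊔ gflKsub M Z Q ≤ R) :
    R ≤ autInducedBy (preimageAlong θ T') Q ⊔ gflKsub M Z Q := by
  obtain ⟨hZQ, hQT, hcent⟩ := hQ
  obtain ⟨hfinS', hsetup⟩ := gfl_down_setup h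
  have hT'S' : T' ≤ S' := hsetup.le
  have hfinT' : Finite T' := Fusion.finite_of_le hT'S'
  have hQT' : imageAlong θ Q ≤ T' := gfl_image_le hQT
  have hfnb : Nb.IsFullyNormalized (imageAlong θ Q) := gfl_good_image h hZQ hQT hfn
  have hfa : Nb.IsFullyAutomized p (imageAlong θ Q) :=
    (Fusion.fullyCentralized_fullyAutomized_of_fullyNormalized p (hsetup.hS.to_le hT'S') Nb
      h.nrm.1.1 hfnb).2
  obtain ⟨Rs, hRs⟩ := hfa.2
  -- the induced group
  let Rb : Subgroup (MulAut (imageAlong θ Q)) :=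
    { carrier := {a' | ∃ a ∈ R, GflIndA θ hQS a a'}
      one_mem' := ⟨1, R.one_mem, gflIndA_one θ hQS⟩
      mul_mem' := by
        rintro a' b' ⟨a, ha, hia⟩ ⟨b, hb, hib⟩
        exact ⟨a * b, R.mul_mem ha hb, gflIndA_mul θ hQS hia hib⟩
      inv_mem' := by
        rintro a' ⟨a, ha, hia⟩
        exact ⟨a⁻¹, R.inv_mem ha, gflIndA_inv θ hQS hia⟩ }
  have hRbG : Rb ≤ Nb.autGroup (imageAlong θ Q) := by
    rintro a' ⟨a, ha, hia⟩
    obtain ⟨-, a'', ha'', hia''⟩ := hRB ha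
    rw [gflIndA_unique θ hQS hia hia'']
    exact ha''
  have hRbp : IsPGroup p Rb := by
    rintro ⟨a', a, ha, hia⟩
    obtain ⟨n, hn⟩ := hRp ⟨a, ha⟩
    refine ⟨n, ?_⟩
    apply Subtype.ext
    have hn' : a ^ p ^ n = 1 := congrArg Subtype.val hn
    have h1 := gflIndA_pow θ hQS hia (p ^ n)
    rw [hn'] at h1
    exact gflIndA_unique θ hQS h1 (gflIndA_one θ hQS)
  have hTRb : autInducedBy T' (imageAlong θ Q) ≤ Rb := by
    intro α' hα'
    obtain ⟨c, hc, hic⟩ := gfl_lift_autT h hZQ hQS hα'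
    exact ⟨c, hle ((le_sup_left : autInducedBy (preimageAlong θ T') Q ≤ _) hc), hic⟩
  have hRbeq : Rb.subgroupOf (Nb.autGroup (imageAlong θ Q)) = Rs := by
    apply Rs.is_maximal' hRbp.comap_subtype
    rw [hRs]
    intro y hy
    exact Subgroup.mem_subgroupOf.2 (hTRb (Subgroup.mem_subgroupOf.1 hy))
  have hRbT : Rb ≤ autInducedBy T' (imageAlong θ Q) := by
    intro a' ha'
    have h1 : (⟨a', hRbG ha'⟩ : Nb.autGroup (imageAlong θ Q)) ∈
        Rb.subgroupOf (Nb.autGroup (imageAlong θ Q)) := Subgroup.mem_subgroupOf.2 ha'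
    rw [hRbeq] at h1
    have h2 : (⟨a', hRbG ha'⟩ : Nb.autGroup (imageAlong θ Q)) ∈
        (Rs : Subgroup (Nb.autGroup (imageAlong θ Q))) := h1
    rw [hRs] at h2
    exact Subgroup.mem_subgroupOf.1 h2
  -- decompose
  intro a ha
  obtain ⟨haM, a', ha', hia⟩ := hRB ha
  have ha'T : a' ∈ autInducedBy T' (imageAlong θ Q) := hRbT ⟨a, ha, hia⟩
  obtain ⟨c, hc, hic⟩ := gfl_lift_autT h hZQ hQS ha'T
  have hcM : c ∈ M.autGroup Q := by
    have hTS : preimageAlong θ T' ≤ S := Fusion.preimageAlong_le θ T'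
    obtain ⟨g, hgT, hg⟩ := (mem_autInducedBy_iff _ Q c).1 hc
    exact Fusion.autInducedBy_le_autGroup M hQS ((mem_autInducedBy_iff S Q c).2 ⟨g, hTS hgT, hg⟩)
  have hk : c⁻¹ * a ∈ gflKsub M Z Q := by
    refine ⟨Subgroup.mul_mem _ (Subgroup.inv_mem _ hcM) haM, ?_⟩
    rw [gflK_iff_ind θ hQS h.fac.2.1]
    have h1 := gflIndA_mul θ hQS (gflIndA_inv θ hQS hic) hia
    rwa [inv_mul_cancel] at h1
  have : a = c * (c⁻¹ * a) := by group
  rw [this]
  exact Subgroup.mul_mem _ ((le_sup_left : autInducedBy (preimageAlong θ T') Q ≤ _) hc)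
    ((le_sup_right : gflKsub M Z Q ≤ _) hk)

/-- L1: at a good `Q ∈ H`, `A(Q) ∩ K_Q ≤ Aut_T(Q)`. -/
theorem gfl_L1 [Finite S] [Fact p.Prime] (h : GflSetup p M Z θ Mb Nb) {Q : Subgroup Ω}
    (hQ : Q ∈ gflH Z θ Nb) (hfn : M.IsFullyNormalized Q) {α : MulAut Q}
    (hα : α ∈ gflA p M θ Nb Q) (hαK : GflK Z Q α) : α ∈ autInducedBy (preimageAlong θ T') Q := by
  have hQ' := hQ
  obtain ⟨hZQ, hQT, hcent⟩ := hQ
  have hTS : preimageAlong θ T' ≤ S := Fusion.preimageAlong_le θ T'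
  have hQS : Q ≤ S := hQT.trans hTS
  have hQT' : imageAlong θ Q ≤ T' := gfl_image_le hQT
  have hfinQ : Finite Q := Fusion.finite_of_le hQS
  have hfinA : Finite (MulAut Q) := inferInstance
  have hrec : M.IsReceptive Q := ((Fusion.isSaturated_iff' p h.hS M).1 h.sat).2 Q hfn
  have hThB : autInducedBy (preimageAlong θ T') Q ≤ gflBsub M θ Nb hQS := by
    intro t ht
    have h1 := gfl_autT_le_A (p := p) h hQT ht
    exact (mem_gflBsub M θ Nb hQS hQT' t).2 ⟨gfl_A_le h hQT h1, gfl_A_B h hQT h1⟩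
  have hKB : gflKsub M Z Q ≤ gflBsub M θ Nb hQS := by
    rintro k ⟨hkM, hkK⟩
    exact ⟨hkM, 1, Subgroup.one_mem _, (gflK_iff_ind θ hQS h.fac.2.1 k).1 hkK⟩
  have hThS : autInducedBy (preimageAlong θ T') Q ≤ autInducedBy S Q := by
    intro t ht
    obtain ⟨g, hgT, hg⟩ := (mem_autInducedBy_iff _ Q t).1 ht
    exact (mem_autInducedBy_iff S Q t).2 ⟨g, hTS hgT, hg⟩
  have hKS : gflKsub M Z Q ≤ autInducedBy S Q := by
    rintro k ⟨hkM, hkK⟩
    exact gfl_K_le_autS h hZQ hfn hkM hkK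
  have hSigS : autInducedBy (preimageAlong θ T') Q ⊔ gflKsub M Z Q ≤ autInducedBy S Q :=
    sup_le hThS hKS
  have hcl : ∀ b ∈ gflBsub M θ Nb hQS, ∀ t ∈ autInducedBy (preimageAlong θ T') Q,
      b⁻¹ * t * b ∈ autInducedBy (preimageAlong θ T') Q ⊔ gflKsub M Z Q →
      b⁻¹ * t * b ∈ autInducedBy (preimageAlong θ T') Q := by
    intro b hb t ht hs
    have h1 := gfl_autT_closed h hQS hrec (Subgroup.inv_mem _ hb.1) ht
      (by rw [inv_inv]; exact hSigS hs)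
    rwa [inv_inv] at h1
  refine gfs_transfer_meet_rel p (gflBsub M θ Nb hQS)
    (autInducedBy (preimageAlong θ T') Q ⊔ gflKsub M Z Q) (autInducedBy (preimageAlong θ T') Q)
    (gflKsub M Z Q) (sup_le hThB hKB)
    ((Fusion.isPGroup_autInducedBy p h.hS Q).to_le hSigS)
    (fun R hRB hRp hle => gfl_sig_max h hQ' hfn hQS R hRB hRp hle)
    le_sup_left le_sup_right le_rfl ?_ hcl (x := α) ⟨gfl_A_le h hQT hα, hαK⟩ ?_
  · -- `K_Q` is central modulo `Aut_T(Q)`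
    intro b hb k hk
    have hb' : b⁻¹ ∈ gflBsub M θ Nb hQS := Subgroup.inv_mem _ hb
    have h1 := gfl_EL h hQ' hb'.1 ((mem_gflBsub M θ Nb hQS hQT' b⁻¹).1 hb').2 (hKS hk) hk.2
    obtain ⟨g, hg⟩ := h1
    have h2 : k⁻¹ * (b⁻¹ * k * b) = k⁻¹ * MulAut.conj g * k⁻¹⁻¹ := by
      rw [hg]
      group
    rw [h2, gfl_conj_inn]
    exact Fusion.inn_le_autInducedBy hQT ⟨_, rfl⟩
  · -- the generators
    rw [gfl_A_good_eq h hZQ hQT hfn] at hα
    refine Subgroup.closure_mono ?_ hα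
    rintro β (⟨hβM, hβB, hβc⟩ | hβ)
    · refine Or.inl ⟨(mem_gflBsub M θ Nb hQS hQT' β).2 ⟨hβM, hβB⟩, ?_⟩
      exact (Nat.Prime.coprime_iff_not_dvd Fact.out).1 hβc.symm
    · exact Or.inr hβ

/-- consequence: at a good `Q ∈ H`, `Aut_T(Q)` is a Sylow `p`-subgroup of `A(Q)`. -/
theorem gfl_L1_sylow [Finite S] [Fact p.Prime] (h : GflSetup p M Z θ Mb Nb) {Q : Subgroup Ω}
    (hQ : Q ∈ gflH Z θ Nb) (hfn : M.IsFullyNormalized Q) :
    ∃ R : Sylow p (gflA p M θ Nb Q),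
      (R : Subgroup (gflA p M θ Nb Q)) =
        (autInducedBy (preimageAlong θ T') Q).subgroupOf (gflA p M θ Nb Q) := by
  have hQ' := hQ
  obtain ⟨hZQ, hQT, hcent⟩ := hQ
  have hTS : preimageAlong θ T' ≤ S := Fusion.preimageAlong_le θ T'
  have hQS : Q ≤ S := hQT.trans hTS
  have hQT' : imageAlong θ Q ≤ T' := gfl_image_le hQT
  have hrec : M.IsReceptive Q := ((Fusion.isSaturated_iff' p h.hS M).1 h.sat).2 Q hfn
  have hThA : autInducedBy (preimageAlong θ T') Q ≤ gflA p M θ Nb Q := gfl_autT_le_A h hQT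
  have hAB : gflA p M θ Nb Q ≤ gflBsub M θ Nb hQS := fun a ha =>
    (mem_gflBsub M θ Nb hQS hQT' a).2 ⟨gfl_A_le h hQT ha, gfl_A_B h hQT ha⟩
  have hKB : gflKsub M Z Q ≤ gflBsub M θ Nb hQS := by
    rintro k ⟨hkM, hkK⟩
    exact ⟨hkM, 1, Subgroup.one_mem _, (gflK_iff_ind θ hQS h.fac.2.1 k).1 hkK⟩
  have hThS : autInducedBy (preimageAlong θ T') Q ≤ autInducedBy S Q := by
    intro t ht
    obtain ⟨g, hgT, hg⟩ := (mem_autInducedBy_iff _ Q t).1 ht
    exact (mem_autInducedBy_iff S Q t).2 ⟨g, hTS hgT, hg⟩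
  have hKS : gflKsub M Z Q ≤ autInducedBy S Q := by
    rintro k ⟨hkM, hkK⟩
    exact gfl_K_le_autS h hZQ hfn hkM hkK
  have hSigS : autInducedBy (preimageAlong θ T') Q ⊔ gflKsub M Z Q ≤ autInducedBy S Q :=
    sup_le hThS hKS
  have hSp : IsPGroup p (autInducedBy S Q) := Fusion.isPGroup_autInducedBy p h.hS Q
  have hThp : IsPGroup p (autInducedBy (preimageAlong θ T') Q) := hSp.to_le hThS
  have hKp : IsPGroup p (gflKsub M Z Q) := hSp.to_le hKS
  refine ⟨⟨(autInducedBy (preimageAlong θ T') Q).subgroupOf (gflA p M θ Nb Q), hThp.comap_subtype,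
    ?_⟩, rfl⟩
  intro Q' hQ'p hle
  refine le_antisymm ?_ hle
  intro y hy
  rw [Subgroup.mem_subgroupOf]
  -- the image of `Q'` in `Aut(Q)`
  have hRA : Q'.map (gflA p M θ Nb Q).subtype ≤ gflA p M θ Nb Q := by
    rintro _ ⟨z, -, rfl⟩
    exact z.2
  have hRB : Q'.map (gflA p M θ Nb Q).subtype ≤ gflBsub M θ Nb hQS := hRA.trans hAB
  have hRp : IsPGroup p (Q'.map (gflA p M θ Nb Q).subtype) := hQ'p.map _
  have hThR : autInducedBy (preimageAlong θ T') Q ≤ Q'.map (gflA p M θ Nb Q).subtype := by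
    intro t ht
    exact ⟨⟨t, hThA ht⟩, hle (Subgroup.mem_subgroupOf.2 ht), rfl⟩
  have hRK : Q'.map (gflA p M θ Nb Q).subtype ≤ Subgroup.normalizer (gflKsub M Z Q : Set (MulAut Q)) := by
    intro a ha
    apply mem_normalizer_of_conj_mem
    · intro k hk
      exact gfl_K_conj h hQS (hRB ha) hk
    · intro k hk
      have := gfl_K_conj h hQS (Subgroup.inv_mem _ (hRB ha)) hk
      rwa [inv_inv] at this
  have hRKp : IsPGroup p (Q'.map (gflA p M θ Nb Q).subtype ⊔ gflKsub M Z Q : Subgroup (MulAut Q)) :=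
    IsPGroup.to_sup_of_normal_right' hRp hKp hRK
  have hmax := gfl_sig_max h hQ' hfn hQS _ (sup_le hRB hKB) hRKp (sup_le_sup_right hThR _)
  have hyR : (y : MulAut Q) ∈ Q'.map (gflA p M θ Nb Q).subtype := ⟨y, hy, rfl⟩
  have hySig : (y : MulAut Q) ∈ autInducedBy (preimageAlong θ T') Q ⊔ gflKsub M Z Q :=
    hmax ((le_sup_left : Q'.map (gflA p M θ Nb Q).subtype ≤ _) hyR)
  have hn : ∀ s ∈ autInducedBy (preimageAlong θ T') Q ⊔ gflKsub M Z Q,
      ∀ t ∈ autInducedBy (preimageAlong θ T') Q, s * t * s⁻¹ ∈ autInducedBy (preimageAlong θ T') Q := by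
    intro s hs t ht
    have hsS := hSigS hs
    have hsM : s ∈ M.autGroup Q := Fusion.autInducedBy_le_autGroup M hQS hsS
    exact gfl_autT_closed h hQS hrec hsM ht
      (Subgroup.mul_mem _ (Subgroup.mul_mem _ hsS (hThS ht)) (Subgroup.inv_mem _ hsS))
  obtain ⟨t, ht, k, hk, hytk⟩ := gfs_mem_mul_of_le_sup
    (autInducedBy (preimageAlong θ T') Q ⊔ gflKsub M Z Q) (autInducedBy (preimageAlong θ T') Q)
    (gflKsub M Z Q) le_sup_right le_rfl hn hySig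
  have hkA : k ∈ gflA p M θ Nb Q := by
    have : k = t⁻¹ * (y : MulAut Q) := by rw [hytk]; group
    rw [this]
    exact Subgroup.mul_mem _ (Subgroup.inv_mem _ (hThA ht)) y.2
  have hkT := gfl_L1 h hQ' hfn hkA hk.2
  rw [hytk]
  exact Subgroup.mul_mem _ ht hkT

end Cfsg.Agent.GFS
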