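import Mathlib
import Cfsg.Agent.GFS.LiftDefs
import Cfsg.Agent.GFS.LiftBasic
import Cfsg.Agent.GFS.LiftGood
import Cfsg.Agent.GFS.LiftLocal
import Cfsg.Agent.Lead.SylowLemmas
import Cfsg.Agent.Lead.FusionSat2

set_option autoImplicit false

/-!
# N2, piece P3a: restriction compatibility (RC)

`gfl_RC`: for `P ≤ U` in `H` and `a ∈ A(U)` with `a(P) = P`, the restriction of `a` to `P` lies in `A(P)`.
The `p'`-part of `a` restricts to a `p'`-element of `B(P)`; the `p`-part of `a` is an `M`-conjugate of an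
automorphism induced by `T` (Sylow's theorem in `A(U₀)` at a fully normalized conjugate `U₀`, `gfl_L1_sylow`),
and so is its restriction.
-/

namespace Cfsg.Agent.GFS

open Cfsg Cfsg.FusionSystem Cfsg.Agent.Lead

universe u v

variable {Ω : Type u} [Group Ω] {S : Subgroup Ω} {Ω' : Type v} [Group Ω'] {S' T' : Subgroup Ω'}
variable {p : ℕ} {M : FusionSystem S} {Z : Subgroup Ω} {θ : S →* Ω'} {Mb : FusionSystem S'}
  {Nb : FusionSystem T'}

/-- `β ∈ Aut(P)` is the restriction of `a ∈ Aut(U)`. -/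
def GflRes {P U : Subgroup Ω} (hPU : P ≤ U) (a : MulAut U) (β : MulAut P) : Prop :=
  ∀ x : P, ((β x : P) : Ω) = ((a ⟨x, hPU x.2⟩ : U) : Ω)

theorem gflRes_one {P U : Subgroup Ω} (hPU : P ≤ U) : GflRes hPU 1 1 := fun _ => rfl

theorem gflRes_mul {P U : Subgroup Ω} (hPU : P ≤ U) {a b : MulAut U} {α β : MulAut P}
    (ha : GflRes hPU a α) (hb : GflRes hPU b β) : GflRes hPU (a * b) (α * β) := by
  intro x
  rw [MulAut.mul_apply, MulAut.mul_apply, ha (β x)]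
  have : (⟨((β x : P) : Ω), hPU (β x).2⟩ : U) = b ⟨x, hPU x.2⟩ := Subtype.ext (hb x)
  rw [this]

theorem gflRes_inv {P U : Subgroup Ω} (hPU : P ≤ U) {a : MulAut U} {α : MulAut P}
    (ha : GflRes hPU a α) : GflRes hPU a⁻¹ α⁻¹ := by
  intro x
  have h1 := ha (α⁻¹ x)
  rw [MulAut.apply_inv_self] at h1
  have h2 : (⟨(x : Ω), hPU x.2⟩ : U) = a ⟨((α⁻¹ x : P) : Ω), hPU (α⁻¹ x).2⟩ := Subtype.ext h1
  rw [h2, MulAut.inv_apply_self]

theorem gflRes_pow {P U : Subgroup Ω} (hPU : P ≤ U) {a : MulAut U} {α : MulAut P}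
    (ha : GflRes hPU a α) (n : ℕ) : GflRes hPU (a ^ n) (α ^ n) := by
  induction n with
  | zero => simpa using gflRes_one hPU
  | succ n ih =>
    rw [pow_succ, pow_succ]
    exact gflRes_mul hPU ih ha

theorem gflRes_zpow {P U : Subgroup Ω} (hPU : P ≤ U) {a : MulAut U} {α : MulAut P}
    (ha : GflRes hPU a α) (n : ℤ) : GflRes hPU (a ^ n) (α ^ n) := by
  cases n with
  | ofNat n =>
    rw [Int.ofNat_eq_natCast, zpow_natCast, zpow_natCast]
    exact gflRes_pow hPU ha n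
  | negSucc n =>
    rw [zpow_negSucc, zpow_negSucc]
    exact gflRes_inv hPU (gflRes_pow hPU ha (n + 1))

theorem gflRes_eq {P U : Subgroup Ω} (hPU : P ≤ U) {a : MulAut U} {α β : MulAut P}
    (ha : GflRes hPU a α) (hb : GflRes hPU a β) : α = β := by
  ext x
  rw [ha x, hb x]

/-- RC for `p'`-elements. -/
theorem gfl_RC_p' [Finite S] [Fact p.Prime] (h : GflSetup p M Z θ Mb Nb) {P U : Subgroup Ω}
    (hUT : U ≤ preimageAlong θ T') (hPU : P ≤ U) {a : MulAut U}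
    (ha : a ∈ gflA p M θ Nb U) (hac : (orderOf a).Coprime p) (β : MulAut P)
    (hβ : GflRes hPU a β) : β ∈ gflA p M θ Nb P := by
  have hTS : preimageAlong θ T' ≤ S := Fusion.preimageAlong_le θ T'
  have hUS : U ≤ S := hUT.trans hTS
  have hPS : P ≤ S := hPU.trans hUS
  have haM : a ∈ M.autGroup U := gfl_A_le h hUT ha
  have hahom : gflHom a ∈ M.Hom U := (Fusion.mem_autGroup_iff M hUS a).1 haM
  apply Subgroup.subset_closure
  refine Or.inl ⟨?_, ?_, ?_⟩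
  · rw [Fusion.mem_autGroup_iff M hPS]
    have h1 := Fusion.restrict_mem M hahom hPU
    have : P.subtype.comp β.toMonoidHom = (gflHom a).comp (Subgroup.inclusion hPU) := by
      ext x
      exact hβ x
    rw [this]
    exact h1
  · obtain ⟨φ', hφ', hU', hφS, hP', hind⟩ := gfl_A_B h hUT ha
    have hle : imageAlong θ P ≤ imageAlong θ U := by
      intro y hy
      obtain ⟨x, hx, hxS, rfl⟩ := (Fusion.mem_imageAlong θ P y).1 hy
      exact (Fusion.mem_imageAlong θ U _).2 ⟨x, hPU hx, hxS, rfl⟩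
    refine ⟨φ'.comp (Subgroup.inclusion hle), Fusion.restrict_mem Nb hφ' hle, hPS,
      fun x => hPS (β x).2, fun x => (Fusion.mem_imageAlong θ P _).2 ⟨x, x.2, hPS x.2, rfl⟩, fun x => ?_⟩
    have h1 := hind ⟨x, hPU x.2⟩
    have h2 : (⟨(gflHom β) x, hPS (β x).2⟩ : S) = ⟨(gflHom a) ⟨x, hPU x.2⟩, hφS ⟨x, hPU x.2⟩⟩ :=
      Subtype.ext (hβ x)
    rw [h2, ← h1]
    rfl
  · have h1 : β ^ orderOf a = 1 := by
      have h2 := gflRes_pow hPU hβ (orderOf a)
      rw [pow_orderOf_eq_one] at h2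
      exact gflRes_eq hPU h2 (gflRes_one hPU)
    exact Nat.Coprime.coprime_dvd_left (orderOf_dvd_of_pow_eq_one h1) hac

/-- a `p`-element of `A(U)`, `U ∈ H`, is an `M`-conjugate of an automorphism induced by `T`. -/
theorem gfl_pElt_conj [Finite S] [Fact p.Prime] (h : GflSetup p M Z θ Mb Nb) {U : Subgroup Ω}
    (hU : U ∈ gflH Z θ Nb) {a : MulAut U} (ha : a ∈ gflA p M θ Nb U) {j : ℕ}
    (haj : a ^ p ^ j = 1) :
    ∃ φ ∈ M.Hom U, ∃ t ∈ preimageAlong θ T', ∀ y : U, φ (a y) = t * φ y * t⁻¹ := by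
  have hTS : preimageAlong θ T' ≤ S := Fusion.preimageAlong_le θ T'
  have hUT : U ≤ preimageAlong θ T' := hU.2.1
  have hUS : U ≤ S := hUT.trans hTS
  obtain ⟨U₀, ⟨f, hf, hfr⟩, hfn⟩ := Fusion.exists_isConj_fullyNormalized M hUS
  subst hfr
  have hU₀ : f.range ∈ gflH Z θ Nb := gfl_H_conj h hU hf
  have hU₀T : f.range ≤ preimageAlong θ T' := hU₀.2.1
  have hU₀S : f.range ≤ S := hU₀T.trans hTS
  have hfinU₀ : Finite f.range := Fusion.finite_of_le hU₀S
  have hfinA : Finite (MulAut f.range) := inferInstance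
  have hinj := M.injective_of_mem hf
  -- transport `a`
  set e : U ≃* f.range := Fusion.equivOfRange f hinj rfl with he
  have hea : ∀ x : U, ((MulAut.congr e a ⟨f x, ⟨x, rfl⟩⟩ : f.range) : Ω) = f (a x) := by
    intro x
    have h1 : (⟨f x, ⟨x, rfl⟩⟩ : f.range) = e x := Subtype.ext rfl
    rw [h1]
    show ((e (a (e.symm (e x))) : f.range) : Ω) = f (a x)
    rw [MulEquiv.symm_apply_apply]
    rfl
  have ha₀ : MulAut.congr e a ∈ gflA p M θ Nb f.range := gfl_A_conj h hUT hf ha _ hea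
  have ha₀j : (MulAut.congr e a) ^ p ^ j = 1 := by
    rw [← map_pow, haj, map_one]
  obtain ⟨R, hR⟩ := gfl_L1_sylow h hU₀ hfn
  have hzp : IsPGroup p (Subgroup.zpowers (⟨MulAut.congr e a, ha₀⟩ : gflA p M θ Nb f.range)) := by
    rintro ⟨y, hy⟩
    obtain ⟨m, rfl⟩ := Subgroup.mem_zpowers_iff.1 hy
    refine ⟨j, ?_⟩
    apply Subtype.ext
    apply Subtype.ext
    simp only [Subgroup.coe_pow, Subgroup.coe_zpow, Subgroup.coe_one]
    rw [← zpow_natCast, ← zpow_mul, mul_comm, zpow_mul, zpow_natCast, ha₀j, one_zpow]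
  obtain ⟨g, hg⟩ := exists_conj_le_sylow R _ hzp
  have hgc : g * ⟨MulAut.congr e a, ha₀⟩ * g⁻¹ ∈ (R : Subgroup (gflA p M θ Nb f.range)) :=
    hg ⟨_, Subgroup.mem_zpowers _, rfl⟩
  rw [hR, Subgroup.mem_subgroupOf] at hgc
  obtain ⟨t, htT, ht⟩ := (mem_autInducedBy_iff _ _ _).1 hgc
  have hgM : (g : MulAut f.range) ∈ M.autGroup f.range := gfl_A_le h hU₀T g.2
  have hghom : gflHom (g : MulAut f.range) ∈ M.Hom f.range := (Fusion.mem_autGroup_iff M hU₀S _).1 hgM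
  refine ⟨(gflHom (g : MulAut f.range)).comp (f.codRestrict f.range (fun x => ⟨x, rfl⟩)),
    M.comp_mem hf hghom _, t, htT, fun y => ?_⟩
  have h1 := ht ((g : MulAut f.range) ⟨f y, ⟨y, rfl⟩⟩)
  simp only [Subgroup.coe_mul, Subgroup.coe_inv, MulAut.mul_apply, MulAut.inv_apply_self] at h1
  have h2 : MulAut.congr e a ⟨f y, ⟨y, rfl⟩⟩ = ⟨f (a y), ⟨a y, rfl⟩⟩ := Subtype.ext (hea y)
  rw [h2] at h1
  exact h1

/-- RC for `p`-elements. -/
theorem gfl_RC_p [Finite S] [Fact p.Prime] (h : GflSetup p M Z θ Mb Nb) {P U : Subgroup Ω}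
    (hU : U ∈ gflH Z θ Nb) (hPU : P ≤ U) {a : MulAut U}
    (ha : a ∈ gflA p M θ Nb U) {j : ℕ} (haj : a ^ p ^ j = 1) (β : MulAut P)
    (hβ : GflRes hPU a β) : β ∈ gflA p M θ Nb P := by
  obtain ⟨φ, hφ, t, htT, ht⟩ := gfl_pElt_conj h hU ha haj
  apply Subgroup.subset_closure
  refine Or.inr ⟨φ.comp (Subgroup.inclusion hPU), Fusion.restrict_mem M hφ hPU, t, htT, fun x => ?_⟩
  have h1 := ht ⟨x, hPU x.2⟩
  have h2 : (Subgroup.inclusion hPU (β x) : U) = a ⟨x, hPU x.2⟩ := Subtype.ext (hβ x)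
  show φ (Subgroup.inclusion hPU (β x)) = t * φ (Subgroup.inclusion hPU x) * t⁻¹
  rw [h2]
  exact h1

/-- RC: restriction compatibility. -/
theorem gfl_RC [Finite S] [Fact p.Prime] (h : GflSetup p M Z θ Mb Nb) {P U : Subgroup Ω}
    (hU : U ∈ gflH Z θ Nb) (hP : P ∈ gflH Z θ Nb) (hPU : P ≤ U) {a : MulAut U}
    (ha : a ∈ gflA p M θ Nb U) (β : MulAut P)
    (hβ : ∀ x : P, ((β x : P) : Ω) = ((a ⟨x, hPU x.2⟩ : U) : Ω)) : β ∈ gflA p M θ Nb P := by
  have hTS : preimageAlong θ T' ≤ S := Fusion.preimageAlong_le θ T'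
  have hUT : U ≤ preimageAlong θ T' := hU.2.1
  have hUS : U ≤ S := hUT.trans hTS
  have hfinU : Finite U := Fusion.finite_of_le hUS
  have hfinA : Finite (MulAut U) := inferInstance
  have hβ' : GflRes hPU a β := hβ
  -- `p`-part and `p'`-part of `a`
  have hn : orderOf a ≠ 0 := (orderOf_pos a).ne'
  obtain ⟨e, m, hm, hem⟩ := Nat.exists_eq_pow_mul_and_not_dvd hn p (Fact.out : p.Prime).ne_one
  have hcop : Nat.Coprime (p ^ e) m :=
    Nat.Coprime.pow_left e ((Nat.Prime.coprime_iff_not_dvd Fact.out).2 hm)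
  have hbez : ((p ^ e : ℕ) : ℤ) * Nat.gcdA (p ^ e) m + (m : ℤ) * Nat.gcdB (p ^ e) m = 1 := by
    have := Nat.gcd_eq_gcd_ab (p ^ e) m
    rw [hcop.gcd_eq_one] at this
    exact_mod_cast this.symm
  set k₁ : ℤ := ((p ^ e : ℕ) : ℤ) * Nat.gcdA (p ^ e) m with hk₁
  set k₂ : ℤ := (m : ℤ) * Nat.gcdB (p ^ e) m with hk₂
  have hβsplit : β = β ^ k₁ * β ^ k₂ := by
    rw [← zpow_add, hbez, zpow_one]
  have h1 : β ^ k₁ ∈ gflA p M θ Nb P := by
    refine gfl_RC_p' h hUT hPU (Subgroup.zpow_mem _ ha k₁) ?_ _ (gflRes_zpow hPU hβ' k₁)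
    have hpow : (a ^ k₁) ^ m = 1 := by
      rw [hk₁, ← zpow_natCast, ← zpow_mul]
      have : ((p ^ e : ℕ) : ℤ) * Nat.gcdA (p ^ e) m * (m : ℤ) =
          ((orderOf a : ℕ) : ℤ) * Nat.gcdA (p ^ e) m := by
        rw [hem]
        push_cast
        ring
      rw [this, zpow_mul, zpow_natCast, pow_orderOf_eq_one, one_zpow]
    exact Nat.Coprime.coprime_dvd_left (orderOf_dvd_of_pow_eq_one hpow)
      ((Nat.Prime.coprime_iff_not_dvd Fact.out).2 hm).symm
  have h2 : β ^ k₂ ∈ gflA p M θ Nb P := by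
    refine gfl_RC_p h hU hPU (Subgroup.zpow_mem _ ha k₂) (j := e) ?_ _ (gflRes_zpow hPU hβ' k₂)
    rw [hk₂, ← zpow_natCast, ← zpow_mul]
    have : (m : ℤ) * Nat.gcdB (p ^ e) m * ((p ^ e : ℕ) : ℤ) =
        ((orderOf a : ℕ) : ℤ) * Nat.gcdB (p ^ e) m := by
      rw [hem]
      push_cast
      ring
    rw [this, zpow_mul, zpow_natCast, pow_orderOf_eq_one, one_zpow]
  rw [hβsplit]
  exact Subgroup.mul_mem _ h1 h2

end Cfsg.Agent.GFS
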