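import Mathlib
import Cfsg.Agent.GFS.LiftBasic
import Cfsg.Agent.GFS.LiftG
import Cfsg.Agent.GFS.LiftOnto
import Cfsg.Agent.GFS.LiftRC

set_option autoImplicit false

/-!
# N2, piece P3: the global coherence (G) for the lift `gflN`

Instantiation of the abstract theorem `gfl_G_le` (`GFS/LiftG.lean`) with the facts of P1 and P2.
-/

namespace Cfsg.Agent.GFS

open Cfsg Cfsg.FusionSystem Cfsg.Agent.Lead

universe u v

variable {Ω : Type u} [Group Ω] {S : Subgroup Ω} {Ω' : Type v} [Group Ω'] {S' T' : Subgroup Ω'}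
variable {p : ℕ} {M : FusionSystem S} {Z : Subgroup Ω} {θ : S →* Ω'} {Mb : FusionSystem S'}
  {Nb : FusionSystem T'}

/-- the hypotheses of the abstract coherence theorem hold for `gflN` -/
theorem gfl_G_hyp [Finite S] [Fact p.Prime] (h : GflSetup p M Z θ Mb Nb) :
    GflGHyp p θ (gflN p M Z θ Nb) Nb (gflH Z θ Nb) (gflA p M θ Nb) where
  hTS := gfl_T_le θ T'
  pre_T := rfl
  img_T := gfl_image_T h
  satb := h.Nbsat
  H_le := fun P hP => hP.2.1
  H_pre := fun P hP => gfl_pre_image h hP.1 (hP.2.1.trans (gfl_T_le θ T'))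
  H_up := fun P hP Q hPQ hQ => gfl_H_mono h hP hPQ hQ
  H_conj := fun P hP φ hφ => gfl_H_conj h hP (gflN_le p M Z θ Nb P hφ)
  H_top := gfl_T_mem_H h
  gen := fun W hW => gflN_min p M Z θ Nb W hW
  A_le := fun R hR => gfl_gen_le_N h hR
  A_inn := fun R hR => gfl_autT_le_A h hR.2.1
  A_inv := fun P hP φ hφ a ha => gfl_A_conj_ex h hP.2.1 (gflN_le p M Z θ Nb P hφ) ha
  RC := fun U hU P hP hPU a ha β hβ => gfl_RC h hU hP hPU ha β hβ
  ind := fun P φ hφ => gfl_N_induced h hφ
  lift := fun P' φ' hφ' => gfl_lift h hφ'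
  onto := fun P hP α' hα' => gfl_A_onto h hP.1 hP.2.1 hα'

/-- (G): the generated system has exactly the prescribed automizers on `H`. -/
theorem gfl_G [Finite S] [Fact p.Prime] (h : GflSetup p M Z θ Mb Nb) {P : Subgroup Ω}
    (hP : P ∈ gflH Z θ Nb) : (gflN p M Z θ Nb).autGroup P = gflA p M θ Nb P := by
  have hTS := gfl_T_le θ T'
  haveI : Finite (preimageAlong θ T') := Fusion.finite_of_le hTS
  haveI := h.finT'
  have hT : IsPGroup p (preimageAlong θ T') := by
    have h1 : IsPGroup p ((preimageAlong θ T').subgroupOf S) := h.hS.to_subgroup _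
    exact (h1.map S.subtype).to_le (by
      intro t ht
      exact ⟨⟨t, hTS ht⟩, ht, rfl⟩)
  have hT' : IsPGroup p T' := by
    have h1 : IsPGroup p ((⊤ : Subgroup S).map θ) := (h.hS.to_subgroup ⊤).map θ
    rw [← MonoidHom.range_eq_map, h.range] at h1
    exact h1.to_le h.T'le
  exact le_antisymm (gfl_G_le hT hT' (gfl_G_hyp h) P hP) (gfl_gen_le_N h hP)

end Cfsg.Agent.GFS
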