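import Mathlib
import Cfsg.Agent.GFS.LiftOnto
import Cfsg.Agent.GFS.CoreNormal
import Cfsg.Agent.Lead.FusionExt
import Cfsg.Agent.Lead.FusionMorph2

/-!
# Lifting a normal subsystem through a central quotient (N2): representatives and absorption of `K_P`

* `gfl_rep`: every `P ≤ T` containing `Z` is carried by a map `ρ` of the lift `N = gflN`, followed by an
  element `b` of `Aut_M(T)`, onto a fully `M`-normalized subgroup (the Frattini factorisation of `Nb` in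
  `Mb`, lifted by `gfl_lift` and `Fusion.exists_liftsAut`).
* `gfl_K_absorb`: an automorphism of `P` in `M` that is trivial modulo `Z` is, up to a map of `N`, the
  restriction of an element of `Aut_M(T)`.
-/

set_option autoImplicit false

namespace Cfsg.Agent.GFS

open Cfsg Cfsg.FusionSystem Cfsg.Agent.Lead

universe u v

variable {Ω : Type u} [Group Ω] {S : Subgroup Ω} {Ω' : Type v} [Group Ω'] {S' T' : Subgroup Ω'}
variable {p : ℕ} {M : FusionSystem S} {Z : Subgroup Ω} {θ : S →* Ω'} {Mb : FusionSystem S'}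
  {Nb : FusionSystem T'}

/-- The twist of `X ≤ T` by an automorphism of `T` has the order of `X`. -/
theorem gfl_rep_card_twist {T : Subgroup Ω} (b : MulAut T) {X : Subgroup Ω} (hX : X ≤ T) :
    Nat.card (gfsImg b X) = Nat.card X := by
  unfold gfsImg
  have hinj : Function.Injective (T.subtype.comp b.toMonoidHom) := by
    intro x y hxy
    exact b.injective (Subtype.ext hxy)
  rw [Subgroup.card_map_of_injective hinj]
  exact Nat.card_congr (Subgroup.subgroupOfEquivOfLe hX).toEquiv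

/-- The composite of a map `ρ` with values in `T` and an automorphism `b` of `T`. -/
def gflRepComp {T P : Subgroup Ω} (b : MulAut T) (ρ : P →* Ω) (hρT : ∀ x : P, ρ x ∈ T) : P →* Ω :=
  (gflHom b).comp (ρ.codRestrict T hρT)

theorem gflRepComp_apply {T P : Subgroup Ω} (b : MulAut T) (ρ : P →* Ω) (hρT : ∀ x : P, ρ x ∈ T)
    (x : P) : gflRepComp b ρ hρT x = ((b ⟨ρ x, hρT x⟩ : T) : Ω) := rfl

theorem gflRepComp_range {T P : Subgroup Ω} (b : MulAut T) (ρ : P →* Ω) (hρT : ∀ x : P, ρ x ∈ T) :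
    (gflRepComp b ρ hρT).range = gfsImg b ρ.range := by
  ext z
  constructor
  · rintro ⟨x, rfl⟩
    exact mem_gfsImg.mpr ⟨⟨ρ x, hρT x⟩, ⟨x, rfl⟩, rfl⟩
  · intro hz
    obtain ⟨t, ⟨x, hx⟩, rfl⟩ := mem_gfsImg.mp hz
    refine ⟨x, ?_⟩
    rw [gflRepComp_apply]
    congr 2
    exact Subtype.ext hx

theorem gflRepComp_mem {T P : Subgroup Ω} (hTS : T ≤ S) {b : MulAut T} (hb : b ∈ M.autGroup T)
    {ρ : P →* Ω} (hρ : ρ ∈ M.Hom P) (hρT : ∀ x : P, ρ x ∈ T) : gflRepComp b ρ hρT ∈ M.Hom P :=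
  M.comp_mem hρ ((Fusion.mem_autGroup_iff M hTS b).mp hb) hρT

/-- representatives: every `P ≤ T` containing `Z` is carried by a map `ρ` of `N`, followed by an element `b` of
`Aut_M(T)`, onto a fully `M`-normalized subgroup (lift of the Frattini factorisation downstairs). -/
theorem gfl_rep [Finite S] [Fact p.Prime] (h : GflSetup p M Z θ Mb Nb) {P : Subgroup Ω} (hZP : Z ≤ P)
    (hP : P ≤ preimageAlong θ T') :
    ∃ ρ ∈ (gflN p M Z θ Nb).Hom P, ∃ b ∈ M.autGroup (preimageAlong θ T'),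
      M.IsFullyNormalized (gfsImg b ρ.range) := by
  have hTS : preimageAlong θ T' ≤ S := gfl_T_le θ T'
  have hPS : P ≤ S := hP.trans hTS
  obtain ⟨P₀, ⟨f, hf, hfr⟩, hfn⟩ := Fusion.exists_isConj_fullyNormalized M hPS
  have hfS : ∀ x : P, f x ∈ S := fun x => Fusion.map_mem M hf x
  -- the induced map downstairs and its Frattini factorisation
  obtain ⟨f', hf', hfind⟩ := h.surj.1.2 P f hf
  obtain ⟨α', hα', ψ', hψ', hfact⟩ := h.inv.2.2.2 (imageAlong θ P) (gfl_image_le hP) f' hf'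
  -- lifts
  obtain ⟨a, ha, halift⟩ := Fusion.exists_liftsAut M Mb θ h.surj h.T'le α' hα'
  obtain ⟨ρ₁, hρ₁, hρ₁ind⟩ := gfl_lift h hψ'
  obtain ⟨ρ, hρ, hρeq⟩ := Fusion.exists_hom_of_eq (gflN p M Z θ Nb) (gfl_pre_image h hZP hPS) hρ₁
  have hρT : ∀ x : P, ρ x ∈ preimageAlong θ T' := fun x => Fusion.map_mem _ hρ x
  refine ⟨ρ, hρ, a, ha, ?_⟩
  -- the two maps agree modulo `Z`
  have key : ∀ y : P,
      θ ⟨((a ⟨ρ y, hρT y⟩ : ↥(preimageAlong θ T')) : Ω), hTS (a ⟨ρ y, hρT y⟩).2⟩ =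
        θ ⟨f y, hfS y⟩ := by
    intro y
    obtain ⟨h1, h2, h3, h4⟩ := hfind
    obtain ⟨k1, k2, k3, k4⟩ := hρ₁ind
    have hy1 : (y : Ω) ∈ preimageAlong θ (imageAlong θ P) := by
      rw [gfl_pre_image h hZP hPS]; exact y.2
    have e1 : ρ y = ρ₁ ⟨y.1, hy1⟩ := hρeq y.1 hy1 y.2
    have e2 := k4 ⟨y.1, hy1⟩
    have e3 := h4 y
    have hψT : ψ' ⟨θ ⟨y.1, h1 y.2⟩, h3 y⟩ ∈ T' := Fusion.map_mem Nb hψ' _
    have e4 := hfact ⟨θ ⟨y.1, h1 y.2⟩, h3 y⟩ hψT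
    have e5 := halift ⟨ρ y, hρT y⟩
    have e6 : Fusion.toImage θ T' ⟨ρ y, hρT y⟩ = ⟨ψ' ⟨θ ⟨y.1, h1 y.2⟩, h3 y⟩, hψT⟩ := by
      apply Subtype.ext
      rw [Fusion.toImage_coe]
      show θ ⟨ρ y, _⟩ = ψ' ⟨θ ⟨y.1, h1 y.2⟩, h3 y⟩
      have e7 : ψ' ⟨θ ⟨y.1, h1 y.2⟩, h3 y⟩ = θ ⟨ρ₁ ⟨y.1, hy1⟩, k2 ⟨y.1, hy1⟩⟩ := e2
      rw [e7]
      congr 1
      exact Subtype.ext e1
    calc θ ⟨((a ⟨ρ y, hρT y⟩ : ↥(preimageAlong θ T')) : Ω), hTS (a ⟨ρ y, hρT y⟩).2⟩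
        = ((Fusion.toImage θ T' (a ⟨ρ y, hρT y⟩) : T') : Ω') := rfl
      _ = ((α' (Fusion.toImage θ T' ⟨ρ y, hρT y⟩) : T') : Ω') := by rw [e5]
      _ = ((α' ⟨ψ' ⟨θ ⟨y.1, h1 y.2⟩, h3 y⟩, hψT⟩ : T') : Ω') := by rw [e6]
      _ = f' ⟨θ ⟨y.1, h1 y.2⟩, h3 y⟩ := e4.symm
      _ = θ ⟨f y, hfS y⟩ := e3
  have hZ : ∀ y : P, (f y)⁻¹ * ((a ⟨ρ y, hρT y⟩ : ↥(preimageAlong θ T')) : Ω) ∈ Z := by
    intro y
    have hmem : (f y)⁻¹ * ((a ⟨ρ y, hρT y⟩ : ↥(preimageAlong θ T')) : Ω) ∈ S :=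
      S.mul_mem (S.inv_mem (hfS y)) (hTS (a ⟨ρ y, hρT y⟩).2)
    rw [← h.ker ⟨_, hmem⟩]
    have : (⟨(f y)⁻¹ * ((a ⟨ρ y, hρT y⟩ : ↥(preimageAlong θ T')) : Ω), hmem⟩ : S) =
        (⟨f y, hfS y⟩ : S)⁻¹ * ⟨((a ⟨ρ y, hρT y⟩ : ↥(preimageAlong θ T')) : Ω),
          hTS (a ⟨ρ y, hρT y⟩).2⟩ := Subtype.ext rfl
    rw [this, map_mul, map_inv, key y, inv_mul_cancel]
  -- `Z ≤ P₀`
  have hZP₀ : Z ≤ f.range := by
    intro z hz
    exact ⟨⟨z, hZP hz⟩, gfl_fix_Z h hf ⟨z, hZP hz⟩ hz⟩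
  have hle : gfsImg a ρ.range ≤ f.range := by
    intro z hz
    obtain ⟨t, ⟨y, hy⟩, rfl⟩ := mem_gfsImg.mp hz
    have ht : t = ⟨ρ y, hρT y⟩ := Subtype.ext hy.symm
    rw [ht]
    have h1 : ((a ⟨ρ y, hρT y⟩ : ↥(preimageAlong θ T')) : Ω) =
        f y * ((f y)⁻¹ * ((a ⟨ρ y, hρT y⟩ : ↥(preimageAlong θ T')) : Ω)) := by group
    rw [h1]
    exact Subgroup.mul_mem _ ⟨y, rfl⟩ (hZP₀ (hZ y))
  have hρrT : ρ.range ≤ preimageAlong θ T' := by
    rintro _ ⟨x, rfl⟩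
    exact hρT x
  have hcard : Nat.card f.range ≤ Nat.card (gfsImg a ρ.range) := by
    rw [gfl_rep_card_twist a hρrT]
    have h1 : Nat.card P = Nat.card f.range :=
      Nat.card_congr (MonoidHom.ofInjective (M.injective_of_mem hf)).toEquiv
    have h2 : Nat.card P = Nat.card ρ.range :=
      Nat.card_congr (MonoidHom.ofInjective ((gflN p M Z θ Nb).injective_of_mem hρ)).toEquiv
    rw [← h1, ← h2]
  have hfin : Finite ↥f.range := Fusion.finite_of_le (Fusion.range_le M hf)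
  have heq : gfsImg a ρ.range = f.range := Subgroup.eq_of_le_of_card_ge hle hcard
  rw [heq, hfr]
  exact hfn

/-- absorption of `K_P`: an automorphism of `P` trivial mod `Z` is, up to a map `ρ` of `N`, the restriction of an
element of `Aut_M(T)`. -/
theorem gfl_K_absorb [Finite S] [Fact p.Prime] (h : GflSetup p M Z θ Mb Nb) {P : Subgroup Ω} (hZP : Z ≤ P)
    (hP : P ≤ preimageAlong θ T') {k : MulAut P} (hk : k ∈ M.autGroup P) (hkK : GflK Z P k) :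
    ∃ ρ ∈ (gflN p M Z θ Nb).Hom P, ∃ g ∈ M.autGroup (preimageAlong θ T'),
      ∀ (x : P) (hx : ρ x ∈ preimageAlong θ T') (hkx : ρ (k x) ∈ preimageAlong θ T'),
        ρ (k x) = ((g ⟨ρ x, hx⟩ : preimageAlong θ T') : Ω) := by
  have hTS : preimageAlong θ T' ≤ S := gfl_T_le θ T'
  have hfinT : Finite ↥(preimageAlong θ T') := Fusion.finite_of_le hTS
  have hcl := gfl_stronglyClosed h
  obtain ⟨ρ, hρ, b, hb, hfn⟩ := gfl_rep h hZP hP
  have hρM : ρ ∈ M.Hom P := gflN_le p M Z θ Nb _ hρ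
  have hρT : ∀ x : P, ρ x ∈ preimageAlong θ T' := fun x => Fusion.map_mem _ hρ x
  -- the composite `Φ = b ∘ ρ`, an isomorphism of `M` from `P` onto the fully normalized `P₀`
  have hΦ : gflRepComp b ρ hρT ∈ M.Hom P := gflRepComp_mem hTS hb hρM hρT
  have hr : (gflRepComp b ρ hρT).range = gfsImg b ρ.range := gflRepComp_range b ρ hρT
  set Φ : P →* Ω := gflRepComp b ρ hρT with hΦdef
  set e : P ≃* ↥(gfsImg b ρ.range) := Fusion.equivOfRange Φ (M.injective_of_mem hΦ) hr with he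
  set k₀ : MulAut ↥(gfsImg b ρ.range) := MulAut.congr e k with hk₀
  have hk₀M : k₀ ∈ M.autGroup (gfsImg b ρ.range) := Fusion.congr_mem_autGroup M hΦ hr k hk
  have hk₀e : ∀ x : P, k₀ (e x) = e (k x) := by
    intro x
    show e (k (e.symm (e x))) = e (k x)
    rw [MulEquiv.symm_apply_apply]
  have hk₀K : GflK Z (gfsImg b ρ.range) k₀ := by
    intro y
    obtain ⟨x, rfl⟩ := e.surjective y
    rw [hk₀e]
    show (Φ x)⁻¹ * Φ (k x) ∈ Z
    have hx := hkK x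
    have h1 : (Φ x)⁻¹ * Φ (k x) = Φ (x⁻¹ * k x) := by rw [map_mul, map_inv]
    rw [h1, gfl_fix_Z h hΦ (x⁻¹ * k x) hx]
    exact hx
  have hZP₀ : Z ≤ gfsImg b ρ.range := by
    intro z hz
    rw [← hr]
    exact ⟨⟨z, hZP hz⟩, gfl_fix_Z h hΦ ⟨z, hZP hz⟩ hz⟩
  -- `k₀` is induced by an element `s` of `S`
  obtain ⟨s, hs, hseq⟩ := (mem_autInducedBy_iff _ _ k₀).mp (gfl_K_le_autS h hZP₀ hfn hk₀M hk₀K)
  have hsN : s ∈ Subgroup.normalizer ((preimageAlong θ T' : Subgroup Ω) : Set Ω) := by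
    apply mem_normalizer_of_conj_mem_of_finite
    intro t ht
    exact hcl.2 (preimageAlong θ T') le_rfl _ (M.conj_mem hTS hs) ⟨t, ht⟩
  set c : MulAut ↥(preimageAlong θ T') := conjAutHom (preimageAlong θ T') ⟨s, hsN⟩ with hc
  have hcM : c ∈ M.autGroup (preimageAlong θ T') := by
    apply Fusion.autInducedBy_le_autGroup M hTS
    rw [mem_autInducedBy_iff]
    exact ⟨s, hs, fun x => rfl⟩
  refine ⟨ρ, hρ, b⁻¹ * c * b, Subgroup.mul_mem _ (Subgroup.mul_mem _ (Subgroup.inv_mem _ hb) hcM) hb,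
    fun x hx hkx => ?_⟩
  have h1 := hseq (e x)
  rw [hk₀e] at h1
  have h2 : ((e (k x) : ↥(gfsImg b ρ.range)) : Ω) =
      ((b ⟨ρ (k x), hkx⟩ : ↥(preimageAlong θ T')) : Ω) := rfl
  have h3 : ((e x : ↥(gfsImg b ρ.range)) : Ω) = ((b ⟨ρ x, hx⟩ : ↥(preimageAlong θ T')) : Ω) := rfl
  rw [h2, h3] at h1
  have h4 : b ⟨ρ (k x), hkx⟩ = c (b ⟨ρ x, hx⟩) := Subtype.ext h1
  have h5 : (⟨ρ (k x), hkx⟩ : ↥(preimageAlong θ T')) = (b⁻¹ * c * b) ⟨ρ x, hx⟩ := by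
    rw [MulAut.mul_apply, MulAut.mul_apply, ← h4, MulAut.inv_apply_self]
  exact congrArg (fun z : ↥(preimageAlong θ T') => (z : Ω)) h5

end Cfsg.Agent.GFS
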