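import Mathlib
import Cfsg.Agent.GFS.LiftReps
import Cfsg.Agent.GFS.LiftLocal
import Cfsg.Agent.GFS.LiftCoh
import Cfsg.Agent.GFS.CentExt
import Cfsg.Agent.Helper6.BcgloK

/-!
# Lifting a normal subsystem through a central quotient (N2), part 4: saturation

`gfl_N_isSaturated`: the lift `gflN` is saturated, by the saturation criterion
`Helper6.BcgloK.saturated_of_generated` with the family `gflH`, the class-wise central extension lemma
(`GFS/CentExt.lean`) and the local results `gfl_L1`, `gfl_G`.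
-/

set_option autoImplicit false

namespace Cfsg.Agent.GFS

open Cfsg Cfsg.FusionSystem Cfsg.Agent.Lead

universe u v

variable {Ω : Type u} [Group Ω] {S : Subgroup Ω} {Ω' : Type v} [Group Ω'] {S' T' : Subgroup Ω'}
variable {p : ℕ} {M : FusionSystem S} {Z : Subgroup Ω} {θ : S →* Ω'} {Mb : FusionSystem S'}
  {Nb : FusionSystem T'}

/-! ## The restriction of `θ` to `T` -/

/-- The restriction of `θ` to the full preimage `T` of `T'`. -/
def gflθT (θ : S →* Ω') (T' : Subgroup Ω') : ↥(preimageAlong θ T') →* Ω' :=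
  θ.comp (Subgroup.inclusion (Fusion.preimageAlong_le θ T'))

theorem gflθT_apply (θ : S →* Ω') (T' : Subgroup Ω') (t : ↥(preimageAlong θ T')) :
    gflθT θ T' t = θ ⟨t.1, Fusion.preimageAlong_le θ T' t.2⟩ := rfl

theorem gflθT_mem (θ : S →* Ω') (T' : Subgroup Ω') (t : ↥(preimageAlong θ T')) :
    gflθT θ T' t ∈ T' :=
  ((Fusion.mem_preimageAlong θ T' t.1).mp t.2).2

theorem gflθT_range (θ : S →* Ω') {T' : Subgroup Ω'} (hT' : T' ≤ θ.range) :
    (gflθT θ T').range = T' := by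
  ext y
  constructor
  · rintro ⟨t, rfl⟩
    exact gflθT_mem θ T' t
  · intro hy
    obtain ⟨s, rfl⟩ := hT' hy
    exact ⟨⟨s.1, (Fusion.mem_preimageAlong θ T' s.1).mpr ⟨s.2, hy⟩⟩, rfl⟩

theorem gfl_preimage_θT (θ : S →* Ω') {T' Q' : Subgroup Ω'} (hQ' : Q' ≤ T') :
    preimageAlong (gflθT θ T') Q' = preimageAlong θ Q' := by
  ext x
  constructor
  · intro hx
    obtain ⟨hxT, h⟩ := (Fusion.mem_preimageAlong (gflθT θ T') Q' x).mp hx
    exact (Fusion.mem_preimageAlong θ Q' x).mpr ⟨Fusion.preimageAlong_le θ T' hxT, h⟩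
  · intro hx
    obtain ⟨hxS, h⟩ := (Fusion.mem_preimageAlong θ Q' x).mp hx
    exact (Fusion.mem_preimageAlong (gflθT θ T') Q' x).mpr
      ⟨(Fusion.mem_preimageAlong θ T' x).mpr ⟨hxS, hQ' h⟩, h⟩

theorem gfl_image_θT (θ : S →* Ω') (T' : Subgroup Ω') (P : Subgroup Ω)
    (hP : P ≤ preimageAlong θ T') : imageAlong (gflθT θ T') P = imageAlong θ P := by
  ext y
  constructor
  · intro hy
    obtain ⟨x, hx, hxT, rfl⟩ := (Fusion.mem_imageAlong (gflθT θ T') P y).mp hy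
    exact (Fusion.mem_imageAlong θ P _).mpr ⟨x, hx, Fusion.preimageAlong_le θ T' hxT, rfl⟩
  · intro hy
    obtain ⟨x, hx, hxS, rfl⟩ := (Fusion.mem_imageAlong θ P y).mp hy
    exact (Fusion.mem_imageAlong (gflθT θ T') P _).mpr ⟨x, hx, hP hx, rfl⟩

/-! ## Basic consequences of the setup -/

theorem gfl_T'_le [Finite S] [Fact p.Prime] (h : GflSetup p M Z θ Mb Nb) : T' ≤ S' :=
  h.nrm.1.2.2.2.1.1

theorem gfl_T'_le_range [Finite S] [Fact p.Prime] (h : GflSetup p M Z θ Mb Nb) : T' ≤ θ.range := by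
  rw [h.fac.2.2.1]
  exact gfl_T'_le h

theorem gfl_ker_iff [Finite S] [Fact p.Prime] (h : GflSetup p M Z θ Mb Nb) (s : S) :
    θ s = 1 ↔ (s : Ω) ∈ Z := h.fac.2.1 s

theorem gfl_Nb_sat [Finite S] [Fact p.Prime] (h : GflSetup p M Z θ Mb Nb) : Nb.IsSaturated p :=
  h.nrm.1.1

/-- `θ` restricted to `T` is a surjective morphism from the lift onto `Nb`. -/
theorem gfl_N_surj [Finite S] [Fact p.Prime] (h : GflSetup p M Z θ Mb Nb) :
    (gflN p M Z θ Nb).IsSurjectiveMorphism Nb (gflθT θ T') := by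
  have hTS : preimageAlong θ T' ≤ S := Fusion.preimageAlong_le θ T'
  refine ⟨⟨gflθT_mem θ T', fun P φ hφ => ?_⟩, gflθT_range θ (gfl_T'_le_range h),
    fun P' hP' φ' hφ' => ?_⟩
  · have hPT : P ≤ preimageAlong θ T' := Fusion.src_le _ hφ
    obtain ⟨φ', hφ', h1, h2, h3, h4⟩ := gfl_N_induced h hφ
    obtain ⟨φ'', hφ'', heq⟩ := Fusion.exists_hom_of_eq Nb (gfl_image_θT θ T' P hPT).symm hφ'
    refine ⟨φ'', hφ'', hPT, fun x => Fusion.map_mem _ hφ x, fun x => ?_, fun x => ?_⟩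
    · exact (Fusion.mem_imageAlong (gflθT θ T') P _).mpr ⟨x.1, x.2, hPT x.2, rfl⟩
    · have := heq (θ ⟨x.1, h1 x.2⟩) (h3 x)
        ((Fusion.mem_imageAlong (gflθT θ T') P _).mpr ⟨x.1, x.2, hPT x.2, rfl⟩)
      exact this.trans (h4 x)
  · obtain ⟨φ, hφ, h1, h2, h3, h4⟩ := gfl_lift h hφ'
    obtain ⟨φ₂, hφ₂, heq⟩ := Fusion.exists_hom_of_eq (gflN p M Z θ Nb)
      (gfl_preimage_θT θ hP').symm hφ
    have hsrc : preimageAlong (gflθT θ T') P' ≤ preimageAlong θ T' :=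
      Fusion.preimageAlong_le (gflθT θ T') P'
    refine ⟨φ₂, hφ₂, hsrc, fun x => Fusion.map_mem _ hφ₂ x, fun x => ?_, fun x => ?_⟩
    · exact ((Fusion.mem_preimageAlong (gflθT θ T') P' x.1).mp x.2).2
    · have hx : (x : Ω) ∈ preimageAlong θ P' := (gfl_preimage_θT θ hP') ▸ x.2
      have e1 := heq x.1 hx x.2
      have e2 := h4 ⟨x.1, hx⟩
      show φ' ⟨θ ⟨x.1, _⟩, _⟩ = θ ⟨φ₂ x, _⟩
      rw [e2]
      congr 1
      exact Subtype.ext e1.symm

/-! ## Counting normalizers inside `T` -/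

/-- A fully `M`-normalized `Q₀ ≤ T` has the largest `T`-normalizer in its `M`-class. -/
theorem gfl_sat_card_le [Finite S] [Fact p.Prime] (hS : IsPGroup p S) (hM : M.IsSaturated p)
    {T : Subgroup Ω} (hT : M.StronglyClosed T) {Q₀ R : Subgroup Ω}
    (hfn : M.IsFullyNormalized Q₀) (hRQ : M.IsConj R Q₀) :
    Nat.card (normalizerIn T R) ≤ Nat.card (normalizerIn T Q₀) := by
  have hTS : T ≤ S := hT.1
  obtain ⟨hc, hfa⟩ := Fusion.fullyCentralized_fullyAutomized_of_fullyNormalized p hS M hM hfn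
  have hrec := Fusion.receptive_of_fullyCentralized p hS M hM hc
  obtain ⟨ρ, hρ, hρN, hρQ⟩ := Fusion.exists_hom_normalizerIn p hS M hfa hrec hRQ
  have hle : normalizerIn T R ≤ normalizerIn S R := inf_le_inf_right _ hTS
  have hmem : ∀ x : ↥(normalizerIn T R), ρ (Subgroup.inclusion hle x) ∈ normalizerIn T Q₀ := by
    intro x
    refine Subgroup.mem_inf.mpr ⟨?_, (Subgroup.mem_inf.mp (hρN _)).2⟩
    exact Fusion.map_mem_of_stronglyClosed M hT hρ _ (Subgroup.mem_inf.mp x.2).1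
  have : Finite ↥(normalizerIn T Q₀) :=
    Fusion.finite_of_le ((inf_le_left : normalizerIn T Q₀ ≤ T).trans hTS)
  apply Nat.card_le_card_of_injective
    (fun x : ↥(normalizerIn T R) => (⟨ρ (Subgroup.inclusion hle x), hmem x⟩ : ↥(normalizerIn T Q₀)))
  intro x y hxy
  have h1 : ρ (Subgroup.inclusion hle x) = ρ (Subgroup.inclusion hle y) :=
    congrArg (fun z : ↥(normalizerIn T Q₀) => (z : Ω)) hxy
  have h2 := M.injective_of_mem hρ h1
  exact Subtype.ext (congrArg (fun z : ↥(normalizerIn S R) => (z : Ω)) h2)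

/-- Twisting by an automorphism of `T` does not decrease the `T`-normalizer. -/
theorem gfl_sat_card_twist_le {T : Subgroup Ω} [Finite T] (b : MulAut T) (X : Subgroup Ω) :
    Nat.card (normalizerIn T X) ≤ Nat.card (normalizerIn T (gfsImg b X)) := by
  have hbX : gfsImg b X ≤ T := gfsImg_le b X
  have : Finite ↥(gfsImg b X) := Fusion.finite_of_le hbX
  have hNT : normalizerIn T X ≤ T := inf_le_left
  have hmem : ∀ x : ↥(normalizerIn T X),
      ((b ⟨x.1, hNT x.2⟩ : T) : Ω) ∈ normalizerIn T (gfsImg b X) := by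
    intro x
    refine Subgroup.mem_inf.mpr ⟨(b ⟨x.1, hNT x.2⟩).2, ?_⟩
    apply mem_normalizer_of_conj_mem_of_finite
    intro z hz
    obtain ⟨t, ht, rfl⟩ := mem_gfsImg.mp hz
    have hxN : (x : Ω) ∈ Subgroup.normalizer (X : Set Ω) := (Subgroup.mem_inf.mp x.2).2
    have hc : (x : Ω) * (t : Ω) * (x : Ω)⁻¹ ∈ X := (Subgroup.mem_normalizer_iff.mp hxN _).mp ht
    refine mem_gfsImg.mpr ⟨⟨x.1, hNT x.2⟩ * t * ⟨x.1, hNT x.2⟩⁻¹, hc, ?_⟩
    rw [map_mul, map_mul, map_inv]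
    rfl
  have : Finite ↥(normalizerIn T (gfsImg b X)) :=
    Fusion.finite_of_le (inf_le_left : normalizerIn T (gfsImg b X) ≤ T)
  apply Nat.card_le_card_of_injective
    (fun x : ↥(normalizerIn T X) =>
      (⟨((b ⟨x.1, hNT x.2⟩ : T) : Ω), hmem x⟩ : ↥(normalizerIn T (gfsImg b X))))
  intro x y hxy
  have h1 : ((b ⟨x.1, hNT x.2⟩ : T) : Ω) = ((b ⟨y.1, hNT y.2⟩ : T) : Ω) :=
    congrArg (fun z : ↥(normalizerIn T (gfsImg b X)) => (z : Ω)) hxy
  have h2 := b.injective (Subtype.ext h1)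
  exact Subtype.ext (congrArg (fun z : T => (z : Ω)) h2)

/-- Twisting by an automorphism of `T` preserves the order of the `T`-normalizer. -/
theorem gfl_sat_card_twist {T : Subgroup Ω} [Finite T] (b : MulAut T) {X : Subgroup Ω} (hX : X ≤ T) :
    Nat.card (normalizerIn T (gfsImg b X)) = Nat.card (normalizerIn T X) := by
  apply le_antisymm _ (gfl_sat_card_twist_le b X)
  have := gfl_sat_card_twist_le b⁻¹ (gfsImg b X)
  rwa [gfsImg_inv_img b hX] at this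

/-- A subgroup of `T` is `M`-conjugate to its twist by an element of `Aut_M(T)`. -/
theorem gfl_sat_isConj_twist {T : Subgroup Ω} (hTS : T ≤ S) {b : MulAut T} (hb : b ∈ M.autGroup T)
    {X : Subgroup Ω} (hX : X ≤ T) : M.IsConj X (gfsImg b X) := by
  have hb' := (Fusion.mem_autGroup_iff M hTS b).mp hb
  refine ⟨_, Fusion.restrict_mem M hb' hX, ?_⟩
  ext z
  constructor
  · rintro ⟨x, rfl⟩
    exact mem_gfsImg.mpr ⟨⟨x.1, hX x.2⟩, x.2, rfl⟩
  · intro hz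
    obtain ⟨t, ht, rfl⟩ := mem_gfsImg.mp hz
    exact ⟨⟨t.1, ht⟩, rfl⟩

/-- A member of `H` is the full preimage of its image. -/
theorem gfl_sat_preimage_image [Finite S] [Fact p.Prime] (h : GflSetup p M Z θ Mb Nb) {Q : Subgroup Ω}
    (hQ : Q ∈ gflH Z θ Nb) :
    preimageAlong (gflθT θ T') (imageAlong θ Q) = Q := by
  have hTS : preimageAlong θ T' ≤ S := Fusion.preimageAlong_le θ T'
  rw [gfl_preimage_θT θ hQ.2.2.1, Fusion.preimageAlong_imageAlong θ h.fac.1 h.fac.2.1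
    (hQ.2.1.trans hTS)]
  exact sup_eq_left.mpr hQ.1

/-- If the twist of `Q₁ ∈ H` by an element of `Aut_M(T)` is fully `M`-normalized, then the image of `Q₁`
is fully `Nb`-normalized. -/
theorem gfl_sat_fn [Finite S] [Fact p.Prime] (h : GflSetup p M Z θ Mb Nb) {Q₁ : Subgroup Ω}
    (hQ₁ : Q₁ ∈ gflH Z θ Nb) {b : MulAut ↥(preimageAlong θ T')}
    (hb : b ∈ M.autGroup (preimageAlong θ T')) (hgood : M.IsFullyNormalized (gfsImg b Q₁)) :
    Nb.IsFullyNormalized (imageAlong θ Q₁) := by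
  have hTS : preimageAlong θ T' ≤ S := Fusion.preimageAlong_le θ T'
  have : Finite ↥(preimageAlong θ T') := Fusion.finite_of_le hTS
  have hsurj := gfl_N_surj h
  have hrange : (gflθT θ T').range = T' := gflθT_range θ (gfl_T'_le_range h)
  have hQ₁T : Q₁ ≤ preimageAlong θ T' := hQ₁.2.1
  have hQb : imageAlong θ Q₁ ≤ T' := hQ₁.2.2.1
  have hcl := gfl_stronglyClosed h
  refine ⟨hQb, fun R' hconj => ?_⟩
  have hR'T' : R' ≤ T' := Fusion.isConj_tgt_le Nb hconj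
  have hconjN := Fusion.isConj_preimage (gflN p M Z θ Nb) Nb (gflθT θ T') hsurj hconj
  rw [gfl_sat_preimage_image h hQ₁] at hconjN
  have hRT : preimageAlong (gflθT θ T') R' ≤ preimageAlong θ T' :=
    Fusion.preimageAlong_le (gflθT θ T') R'
  have hconjM : M.IsConj Q₁ (preimageAlong (gflθT θ T') R') := by
    obtain ⟨φ, hφ, hr⟩ := hconjN
    exact ⟨φ, gflN_le p M Z θ Nb _ hφ, hr⟩
  -- the chain of inequalities upstairs
  have hc1 := gfl_sat_card_twist_le b (preimageAlong (gflθT θ T') R')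
  have hconj2 : M.IsConj (gfsImg b (preimageAlong (gflθT θ T') R')) (gfsImg b Q₁) :=
    Fusion.isConj_trans M (Fusion.isConj_symm M (gfl_sat_isConj_twist hTS hb hRT))
      (Fusion.isConj_trans M (Fusion.isConj_symm M hconjM) (gfl_sat_isConj_twist hTS hb hQ₁T))
  have hc2 := gfl_sat_card_le h.hS h.sat hcl hgood hconj2
  have hc3 := gfl_sat_card_twist b hQ₁T
  have hup : Nat.card (normalizerIn (preimageAlong θ T') (preimageAlong (gflθT θ T') R')) ≤
      Nat.card (normalizerIn (preimageAlong θ T') Q₁) := by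
    rw [← hc3]
    exact hc1.trans hc2
  -- translate downstairs
  have e1 := Fusion.normalizerIn_preimageAlong (gflθT θ T') (gflθT_mem θ T') hrange hR'T'
  have e2 := Fusion.normalizerIn_preimageAlong (gflθT θ T') (gflθT_mem θ T') hrange hQb
  rw [gfl_sat_preimage_image h hQ₁] at e2
  rw [e1, e2, Fusion.card_preimageAlong (gflθT θ T') hrange (Y' := normalizerIn T' R') inf_le_left,
    Fusion.card_preimageAlong (gflθT θ T') hrange (Y' := normalizerIn T' (imageAlong θ Q₁))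
      inf_le_left] at hup
  have hpos : 0 < Nat.card ↥(Fusion.kerAlong (gflθT θ T')) := by
    have : Finite ↥(Fusion.kerAlong (gflθT θ T')) :=
      Fusion.finite_of_le (Fusion.kerAlong_le (gflθT θ T'))
    exact Nat.card_pos
  exact Nat.le_of_mul_le_mul_left hup hpos

/-- Hypothesis `(K)` of the central extension lemma at a twisted good member of `H`. -/
theorem gfl_sat_K [Finite S] [Fact p.Prime] (h : GflSetup p M Z θ Mb Nb) {Q₁ : Subgroup Ω}
    (hQ₁ : Q₁ ∈ gflH Z θ Nb) {b : MulAut ↥(preimageAlong θ T')}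
    (hb : b ∈ M.autGroup (preimageAlong θ T')) (hgood : M.IsFullyNormalized (gfsImg b Q₁))
    {κ : MulAut Q₁} (hκ : κ ∈ (gflN p M Z θ Nb).autGroup Q₁) (hκK : GflK Z Q₁ κ) :
    κ ∈ autInducedBy (preimageAlong θ T') Q₁ := by
  have hTS : preimageAlong θ T' ≤ S := Fusion.preimageAlong_le θ T'
  have hQ₁T : Q₁ ≤ preimageAlong θ T' := hQ₁.2.1
  have hκA : κ ∈ gflA p M θ Nb Q₁ := by rw [← gfl_G h hQ₁]; exact hκ
  have hb' := (Fusion.mem_autGroup_iff M hTS b).mp hb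
  have hφ := Fusion.restrict_mem M hb' hQ₁T
  set φ : Q₁ →* Ω := ((preimageAlong θ T').subtype.comp b.toMonoidHom).comp
    (Subgroup.inclusion hQ₁T) with hφdef
  have hφx : ∀ x : Q₁, φ x = ((b ⟨x.1, hQ₁T x.2⟩ : ↥(preimageAlong θ T')) : Ω) := fun x => rfl
  have hr : φ.range = gfsImg b Q₁ := by
    ext z
    constructor
    · rintro ⟨x, rfl⟩
      exact mem_gfsImg.mpr ⟨⟨x.1, hQ₁T x.2⟩, x.2, rfl⟩
    · intro hz
      obtain ⟨t, ht, rfl⟩ := mem_gfsImg.mp hz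
      exact ⟨⟨t.1, ht⟩, rfl⟩
  have hinj := M.injective_of_mem hφ
  set e : Q₁ ≃* φ.range := Fusion.equivOfRange φ hinj rfl with he
  set α' : MulAut φ.range := MulAut.congr e κ with hα'
  have hα'e : ∀ x : Q₁, α' (e x) = e (κ x) := by
    intro x
    show e (κ (e.symm (e x))) = e (κ x)
    rw [MulEquiv.symm_apply_apply]
  have hαα' : ∀ x : Q₁, ((α' ⟨φ x, ⟨x, rfl⟩⟩ : φ.range) : Ω) = φ (κ x) := by
    intro x
    have : (⟨φ x, ⟨x, rfl⟩⟩ : φ.range) = e x := Subtype.ext rfl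
    rw [this, hα'e]
    rfl
  have hα'A := gfl_A_conj h hQ₁T hφ hκA α' hαα'
  have hα'K : GflK Z φ.range α' := by
    intro y
    obtain ⟨x, rfl⟩ := e.surjective y
    rw [hα'e]
    show (φ x)⁻¹ * φ (κ x) ∈ Z
    have hx := hκK x
    have h1 : (φ x)⁻¹ * φ (κ x) = φ (x⁻¹ * κ x) := by rw [map_mul, map_inv]
    rw [h1, gfl_fix_Z h hφ (x⁻¹ * κ x) hx]
    exact hx
  have hH : φ.range ∈ gflH Z θ Nb := gfl_H_conj h hQ₁ hφ
  have hfn : M.IsFullyNormalized φ.range := by rw [hr]; exact hgood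
  have hL1 := gfl_L1 h hH hfn hα'A hα'K
  obtain ⟨t, ht, hteq⟩ := (mem_autInducedBy_iff _ _ α').mp hL1
  rw [mem_autInducedBy_iff]
  refine ⟨((b.symm ⟨t, ht⟩ : ↥(preimageAlong θ T')) : Ω), (b.symm ⟨t, ht⟩).2, fun x => ?_⟩
  have h1 := hteq (e x)
  rw [hα'e] at h1
  have h2 : ((e (κ x) : φ.range) : Ω) = φ (κ x) := rfl
  have h3 : ((e x : φ.range) : Ω) = φ x := rfl
  rw [h2, h3, hφx, hφx] at h1
  -- an identity in `T`
  have h4 : b ⟨(κ x : Q₁).1, hQ₁T (κ x).2⟩ =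
      b (b.symm ⟨t, ht⟩ * ⟨x.1, hQ₁T x.2⟩ * (b.symm ⟨t, ht⟩)⁻¹) := by
    apply Subtype.ext
    rw [map_mul, map_mul, map_inv, MulEquiv.apply_symm_apply]
    exact h1
  have h5 := b.injective h4
  exact congrArg (fun z : ↥(preimageAlong θ T') => (z : Ω)) h5

/-! ## The kernel of the action on the quotient -/

/-- The automorphisms in `A` that are trivial modulo `Z`, as a subgroup of `A` (all elements of `A` are
assumed to fix `Z` pointwise). -/
def gflSatKsub (Z Q : Subgroup Ω) (A : Subgroup (MulAut Q))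
    (hfix : ∀ α ∈ A, ∀ z : Q, (z : Ω) ∈ Z → α z = z) : Subgroup A where
  carrier := {a | GflK Z Q (a : MulAut Q)}
  one_mem' := by
    intro x
    show (x : Ω)⁻¹ * (x : Ω) ∈ Z
    rw [inv_mul_cancel]
    exact Z.one_mem
  mul_mem' := by
    intro a c ha hc x
    have hz := hc x
    set z : Q := x⁻¹ * (c : MulAut Q) x with hzdef
    have hzZ : (z : Ω) ∈ Z := hz
    have h1 : (c : MulAut Q) x = x * z := by rw [hzdef]; group
    have h2 : ((a * c : A) : MulAut Q) x = (a : MulAut Q) x * z := by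
      show (a : MulAut Q) ((c : MulAut Q) x) = _
      rw [h1, map_mul, hfix _ a.2 z hzZ]
    show (x : Ω)⁻¹ * ((((a * c : A) : MulAut Q) x : Q) : Ω) ∈ Z
    rw [h2]
    have h3 : (x : Ω)⁻¹ * (((a : MulAut Q) x * z : Q) : Ω) =
        ((x : Ω)⁻¹ * (((a : MulAut Q) x : Q) : Ω)) * (z : Ω) := by
      rw [Subgroup.coe_mul, mul_assoc]
    rw [h3]
    exact Z.mul_mem (ha x) hzZ
  inv_mem' := by
    intro a ha x
    set y : Q := (a : MulAut Q)⁻¹ x with hy
    have hay : (a : MulAut Q) y = x := by rw [hy]; simp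
    have hz := ha y
    rw [hay] at hz
    show (x : Ω)⁻¹ * ((((a⁻¹ : A) : MulAut Q) x : Q) : Ω) ∈ Z
    have h1 : (((a⁻¹ : A) : MulAut Q) x : Q) = y := rfl
    rw [h1]
    have h2 : (x : Ω)⁻¹ * (y : Ω) = ((y : Ω)⁻¹ * (x : Ω))⁻¹ := by group
    rw [h2]
    exact Z.inv_mem hz

theorem mem_gflSatKsub {Z Q : Subgroup Ω} {A : Subgroup (MulAut Q)}
    {hfix : ∀ α ∈ A, ∀ z : Q, (z : Ω) ∈ Z → α z = z} (a : A) :
    a ∈ gflSatKsub Z Q A hfix ↔ GflK Z Q (a : MulAut Q) := Iff.rfl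

theorem gflSatKsub_normal (Z Q : Subgroup Ω) (A : Subgroup (MulAut Q))
    (hfix : ∀ α ∈ A, ∀ z : Q, (z : Ω) ∈ Z → α z = z) :
    (gflSatKsub Z Q A hfix).Normal := by
  constructor
  intro a ha c x
  set y : Q := (c : MulAut Q)⁻¹ x with hy
  have hcy : (c : MulAut Q) y = x := by rw [hy]; simp
  have hz := ha y
  set z : Q := y⁻¹ * (a : MulAut Q) y with hzdef
  have hzZ : (z : Ω) ∈ Z := hz
  have h1 : (a : MulAut Q) y = y * z := by rw [hzdef]; group
  have h2 : ((c * a * c⁻¹ : A) : MulAut Q) x = x * z := by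
    show (c : MulAut Q) ((a : MulAut Q) ((c : MulAut Q)⁻¹ x)) = _
    rw [← hy, h1, map_mul, hcy, hfix _ c.2 z hzZ]
  show (x : Ω)⁻¹ * ((((c * a * c⁻¹ : A) : MulAut Q) x : Q) : Ω) ∈ Z
  rw [h2, Subgroup.coe_mul, inv_mul_cancel_left]
  exact hzZ

theorem gflSatKsub_isPGroup (p : ℕ) [Fact p.Prime] (Z Q : Subgroup Ω) [Finite Z] (hZp : IsPGroup p Z)
    (A : Subgroup (MulAut Q)) (hfix : ∀ α ∈ A, ∀ z : Q, (z : Ω) ∈ Z → α z = z) :
    IsPGroup p (gflSatKsub Z Q A hfix) := by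
  obtain ⟨k, hk⟩ := hZp.exists_card_eq
  rintro ⟨a, ha⟩
  refine ⟨k, ?_⟩
  apply Subtype.ext
  apply Subtype.ext
  show ((a : MulAut Q) ^ p ^ k) = 1
  have hpow : ∀ (n : ℕ) (x : Q), (((a : MulAut Q) ^ n) x : Q) = x * (x⁻¹ * (a : MulAut Q) x) ^ n := by
    intro n
    induction n with
    | zero => intro x; simp
    | succ n ih =>
      intro x
      have hzZ : ((x⁻¹ * (a : MulAut Q) x : Q) : Ω) ∈ Z := ha x
      rw [pow_succ', MulAut.mul_apply, ih, map_mul, map_pow, hfix _ a.2 _ hzZ, pow_succ',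
        ← mul_assoc, mul_inv_cancel_left]
  ext x
  rw [hpow, MulAut.one_apply]
  have hzZ : ((x⁻¹ * (a : MulAut Q) x : Q) : Ω) ∈ Z := ha x
  have h1 : ((⟨((x⁻¹ * (a : MulAut Q) x : Q) : Ω), hzZ⟩ : Z) ^ p ^ k) = 1 := by
    rw [← hk]; exact pow_card_eq_one'
  have h2 : ((x⁻¹ * (a : MulAut Q) x : Q) : Ω) ^ p ^ k = 1 := by
    have := congrArg (fun z : Z => (z : Ω)) h1
    simpa using this
  have h3 : (x⁻¹ * (a : MulAut Q) x : Q) ^ p ^ k = 1 := by
    apply Subtype.ext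
    rw [Subgroup.coe_pow, h2]
    rfl
  rw [h3, mul_one]

/-! ## The hypotheses of the saturation criterion -/

theorem gfl_sat_conj [Finite S] [Fact p.Prime] (h : GflSetup p M Z θ Mb Nb) {P Q : Subgroup Ω}
    (hP : P ∈ gflH Z θ Nb) (hPQ : (gflN p M Z θ Nb).IsConj P Q) : Q ∈ gflH Z θ Nb := by
  obtain ⟨φ, hφ, rfl⟩ := hPQ
  exact gfl_H_conj h hP (gflN_le p M Z θ Nb _ hφ)

theorem gfl_sat_gen [Finite S] [Fact p.Prime] (h : GflSetup p M Z θ Mb Nb)
    (E : FusionSystem (preimageAlong θ T'))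
    (hE : ∀ P ∈ gflH Z θ Nb, (gflN p M Z θ Nb).Hom P ⊆ E.Hom P) : gflN p M Z θ Nb ≤ E := by
  apply gflN_min
  intro R hR α hα
  have hRT : R ≤ preimageAlong θ T' := hR.2.1
  have h1 := gfl_gen_le_N h hR hα
  rw [Fusion.mem_autGroup_iff _ hRT] at h1 ⊢
  exact hE R hR h1

/-- Maps of the lift fix `Z` pointwise. -/
theorem gfl_sat_fix [Finite S] [Fact p.Prime] (h : GflSetup p M Z θ Mb Nb) {Q : Subgroup Ω}
    (α : MulAut Q) (hα : α ∈ (gflN p M Z θ Nb).autGroup Q) (hQT : Q ≤ preimageAlong θ T') (z : Q)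
    (hz : (z : Ω) ∈ Z) : α z = z := by
  have h1 := (Fusion.mem_autGroup_iff _ hQT α).mp hα
  have h2 := gflN_le p M Z θ Nb _ h1
  exact Subtype.ext (gfl_fix_Z h h2 z hz)

theorem gfl_sat_preimage_image' [Finite S] [Fact p.Prime] (h : GflSetup p M Z θ Mb Nb) {Q : Subgroup Ω}
    (hZQ : Z ≤ Q) (hQT : Q ≤ preimageAlong θ T') :
    preimageAlong (gflθT θ T') (imageAlong θ Q) = Q := by
  have hTS : preimageAlong θ T' ≤ S := Fusion.preimageAlong_le θ T'
  have himg : imageAlong θ Q ≤ T' := by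
    intro y hy
    obtain ⟨x, hx, hxS, rfl⟩ := (Fusion.mem_imageAlong θ Q y).mp hy
    exact ((Fusion.mem_preimageAlong θ T' x).mp (hQT hx)).2
  rw [gfl_preimage_θT θ himg, Fusion.preimageAlong_imageAlong θ h.fac.1 h.fac.2.1 (hQT.trans hTS)]
  exact sup_eq_left.mpr hZQ

theorem gfl_sat_star [Finite S] [Fact p.Prime] (h : GflSetup p M Z θ Mb Nb) (P : Subgroup Ω)
    (hPc : (gflN p M Z θ Nb).IsCentric P) (hPH : P ∉ gflH Z θ Nb) :
    ∃ Q, (gflN p M Z θ Nb).IsConj P Q ∧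
      ¬ (autInducedBy (preimageAlong θ T') Q ⊓
        (pCore p ↥((gflN p M Z θ Nb).autGroup Q)).map ((gflN p M Z θ Nb).autGroup Q).subtype ≤
          Inn Q) := by
  have hTS : preimageAlong θ T' ≤ S := Fusion.preimageAlong_le θ T'
  have : Finite ↥(preimageAlong θ T') := Fusion.finite_of_le hTS
  have hsurj := gfl_N_surj h
  have hrange : (gflθT θ T').range = T' := gflθT_range θ (gfl_T'_le_range h)
  have hZT : Z ≤ preimageAlong θ T' := gfl_Z_le_T h
  have hZS : Z ≤ S := h.fac.1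
  have : Finite Z := Fusion.finite_of_le hZS
  have hZp : IsPGroup p Z := h.hS.to_le hZS
  obtain ⟨hPT, hPcent⟩ := hPc
  -- `Z ≤ P`
  have hZP : Z ≤ P := by
    intro z hz
    apply hPcent P (Fusion.isConj_refl _ hPT)
    refine Subgroup.mem_inf.mpr ⟨hZT hz, ?_⟩
    rw [Subgroup.mem_centralizer_iff]
    intro x hx
    have := FusionSystem.center_le_centralizer M (h.cen hz)
    rw [Subgroup.mem_centralizer_iff] at this
    exact this x (hTS (hPT hx))
  -- the image of `P` is not centric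
  have himgP : imageAlong θ P ≤ T' := by
    intro y hy
    obtain ⟨x, hx, hxS, rfl⟩ := (Fusion.mem_imageAlong θ P y).mp hy
    exact ((Fusion.mem_preimageAlong θ T' x).mp (hPT hx)).2
  have hnc : ¬ Nb.IsCentric (imageAlong θ P) := fun hc => hPH ⟨hZP, hPT, hc⟩
  unfold FusionSystem.IsCentric at hnc
  push Not at hnc
  obtain ⟨Q', hconj', hQ'c⟩ := hnc himgP
  have hQ'T' : Q' ≤ T' := Fusion.isConj_tgt_le Nb hconj'
  have hconj := Fusion.isConj_preimage (gflN p M Z θ Nb) Nb (gflθT θ T') hsurj hconj'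
  rw [gfl_sat_preimage_image' h hZP hPT] at hconj
  refine ⟨preimageAlong (gflθT θ T') Q', hconj, ?_⟩
  set Q := preimageAlong (gflθT θ T') Q' with hQdef
  have hQT : Q ≤ preimageAlong θ T' := Fusion.preimageAlong_le (gflθT θ T') Q'
  have : Finite Q := Fusion.finite_of_le hQT
  -- an element of `C_{T'}(Q')` outside `Q'`
  obtain ⟨x', hx'C, hx'Q⟩ := SetLike.not_le_iff_exists.mp hQ'c
  obtain ⟨hx'T', hx'cent⟩ := Subgroup.mem_inf.mp hx'C
  have hx'r : x' ∈ (gflθT θ T').range := by rw [hrange]; exact hx'T'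
  obtain ⟨x, rfl⟩ := hx'r
  have hxQ : (x : Ω) ∉ Q := by
    intro hx
    exact hx'Q ((Fusion.mem_preimageAlong (gflθT θ T') Q' x.1).mp hx).2
  have hZQ : Z ≤ Q := by
    intro z hz
    rw [hQdef, Fusion.mem_preimageAlong]
    refine ⟨hZT hz, ?_⟩
    have : gflθT θ T' ⟨z, hZT hz⟩ = 1 := (gfl_ker_iff h ⟨z, hZS hz⟩).mpr hz
    rw [this]
    exact Q'.one_mem
  -- commutators with `x` lie in `Z`
  have hcomm : ∀ q : Q, (x : Ω) * (q : Ω) * (x : Ω)⁻¹ * (q : Ω)⁻¹ ∈ Z := by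
    intro q
    have hqQ' : gflθT θ T' ⟨q.1, hQT q.2⟩ ∈ Q' :=
      ((Fusion.mem_preimageAlong (gflθT θ T') Q' q.1).mp q.2).2
    have hc := (Subgroup.mem_centralizer_iff.mp hx'cent) _ hqQ'
    have h1 : gflθT θ T' (x * ⟨q.1, hQT q.2⟩ * x⁻¹ * ⟨q.1, hQT q.2⟩⁻¹) = 1 := by
      rw [map_mul, map_mul, map_mul, map_inv, map_inv, ← hc]
      group
    exact (gfl_ker_iff h _).mp h1
  have hxN : (x : Ω) ∈ Subgroup.normalizer (Q : Set Ω) := by
    apply mem_normalizer_of_conj_mem_of_finite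
    intro q hq
    have h1 := hcomm ⟨q, hq⟩
    have h2 : (x : Ω) * q * (x : Ω)⁻¹ = ((x : Ω) * q * (x : Ω)⁻¹ * q⁻¹) * q := by group
    rw [h2]
    exact Q.mul_mem (hZQ h1) hq
  set κ : MulAut Q := conjAutHom Q ⟨(x : Ω), hxN⟩ with hκdef
  have hκx : ∀ q : Q, ((κ q : Q) : Ω) = (x : Ω) * q * (x : Ω)⁻¹ := fun q => rfl
  have hκI : κ ∈ autInducedBy (preimageAlong θ T') Q :=
    Fusion.conjAutHom_mem_autInducedBy Q ⟨(x : Ω), hxN⟩ x.2
  have hκA : κ ∈ (gflN p M Z θ Nb).autGroup Q := Fusion.autInducedBy_le_autGroup _ hQT hκI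
  -- `κ` lies in a normal `p`-subgroup of `Aut_N(Q)`
  have hfix : ∀ α ∈ (gflN p M Z θ Nb).autGroup Q, ∀ z : Q, (z : Ω) ∈ Z → α z = z :=
    fun α hα z hz => gfl_sat_fix h α hα hQT z hz
  have hκK : (⟨κ, hκA⟩ : ↥((gflN p M Z θ Nb).autGroup Q)) ∈
      gflSatKsub Z Q ((gflN p M Z θ Nb).autGroup Q) hfix := by
    intro q
    show (q : Ω)⁻¹ * ((κ q : Q) : Ω) ∈ Z
    rw [hκx]
    have h1 := hcomm q⁻¹
    have h2 : (q : Ω)⁻¹ * ((x : Ω) * q * (x : Ω)⁻¹) =
        ((x : Ω) * ((q⁻¹ : Q) : Ω) * (x : Ω)⁻¹ * ((q⁻¹ : Q) : Ω)⁻¹)⁻¹ := by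
      rw [Subgroup.coe_inv]; group
    rw [h2]
    exact Z.inv_mem h1
  have hκcore : (⟨κ, hκA⟩ : ↥((gflN p M Z θ Nb).autGroup Q)) ∈
      pCore p ↥((gflN p M Z θ Nb).autGroup Q) := by
    have hle : gflSatKsub Z Q ((gflN p M Z θ Nb).autGroup Q) hfix ≤
        pCore p ↥((gflN p M Z θ Nb).autGroup Q) :=
      le_sSup ⟨gflSatKsub_normal Z Q _ hfix, gflSatKsub_isPGroup p Z Q hZp _ hfix⟩
    exact hle hκK
  intro hle
  have hκInn : κ ∈ Inn Q := hle (Subgroup.mem_inf.mpr ⟨hκI, ⟨⟨κ, hκA⟩, hκcore, rfl⟩⟩)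
  obtain ⟨q, hq⟩ := hκInn
  -- then `q⁻¹ x` centralizes `Q`
  apply hxQ
  have hcent : (q : Ω)⁻¹ * (x : Ω) ∈ centralizerIn (preimageAlong θ T') Q := by
    refine Subgroup.mem_inf.mpr ⟨Subgroup.mul_mem _ (Subgroup.inv_mem _ (hQT q.2)) x.2, ?_⟩
    rw [Subgroup.mem_centralizer_iff]
    intro y hy
    have h1 := congrArg (fun f : MulAut Q => ((f ⟨y, hy⟩ : Q) : Ω)) hq
    simp only [MulAut.conj_apply] at h1
    rw [hκx] at h1
    have h2 : (q : Ω) * y * (q : Ω)⁻¹ = (x : Ω) * y * (x : Ω)⁻¹ := by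
      simpa using h1
    calc y * ((q : Ω)⁻¹ * (x : Ω)) = (q : Ω)⁻¹ * ((q : Ω) * y * (q : Ω)⁻¹) * (x : Ω) := by group
      _ = (q : Ω)⁻¹ * ((x : Ω) * y * (x : Ω)⁻¹) * (x : Ω) := by rw [h2]
      _ = (q : Ω)⁻¹ * (x : Ω) * y := by group
  have h3 := hPcent Q hconj hcent
  have h4 : (x : Ω) = (q : Ω) * ((q : Ω)⁻¹ * (x : Ω)) := by group
  rw [h4]
  exact Q.mul_mem q.2 h3

theorem gfl_sat_rep_aux [Finite S] [Fact p.Prime] (h : GflSetup p M Z θ Mb Nb) (Q' : Subgroup Ω')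
    (Q₁ : Subgroup Ω) (heq : preimageAlong (gflθT θ T') Q' = Q₁) (hQ₁ : Q₁ ∈ gflH Z θ Nb)
    {b : MulAut ↥(preimageAlong θ T')} (hb : b ∈ M.autGroup (preimageAlong θ T'))
    (hgood : M.IsFullyNormalized (gfsImg b Q₁)) (hfa : Nb.IsFullyAutomized p Q')
    (hrec : Nb.IsReceptive Q') :
    (gflN p M Z θ Nb).IsFullyAutomized p Q₁ ∧ (gflN p M Z θ Nb).IsReceptive Q₁ := by
  subst heq
  have hTS : preimageAlong θ T' ≤ S := Fusion.preimageAlong_le θ T'
  have : Finite ↥(preimageAlong θ T') := Fusion.finite_of_le hTS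
  have hT : IsPGroup p ↥(preimageAlong θ T') := h.hS.to_le hTS
  have hsurj := gfl_N_surj h
  have hsrcT : preimageAlong (gflθT θ T') Q' ≤ preimageAlong θ T' :=
    Fusion.preimageAlong_le (gflθT θ T') Q'
  have hK : ∀ κ ∈ (gflN p M Z θ Nb).autGroup (preimageAlong (gflθT θ T') Q'),
      Fusion.LiftsAut (gflθT θ T') Q' κ 1 →
        κ ∈ autInducedBy (preimageAlong θ T') (preimageAlong (gflθT θ T') Q') := by
    intro κ hκ hlift
    apply gfl_sat_K h hQ₁ hb hgood hκ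
    intro x
    have h1 := congrArg (fun z : Q' => (z : Ω')) (hlift x)
    simp only [MulAut.one_apply, Fusion.toImage_coe, gflθT_apply] at h1
    have hxS : (x : Ω) ∈ S := hTS (hsrcT x.2)
    have hκxS : ((κ x : ↥(preimageAlong (gflθT θ T') Q')) : Ω) ∈ S := hTS (hsrcT (κ x).2)
    have h2 : θ (⟨x.1, hxS⟩⁻¹ * ⟨(κ x).1, hκxS⟩) = 1 := by
      rw [map_mul, map_inv, inv_mul_eq_one]
      exact h1.symm
    exact (gfl_ker_iff h _).mp h2
  exact ⟨gfs_cel_fullyAutomized p hT _ Nb _ hsurj hfa hK, gfs_cel_receptive _ Nb _ hsurj hrec hK⟩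

theorem gfl_sat_rep [Finite S] [Fact p.Prime] (h : GflSetup p M Z θ Mb Nb) (P : Subgroup Ω)
    (hP : P ∈ gflH Z θ Nb) :
    ∃ Q, (gflN p M Z θ Nb).IsConj P Q ∧ (gflN p M Z θ Nb).IsFullyAutomized p Q ∧
      (gflN p M Z θ Nb).IsReceptive Q := by
  have hTS : preimageAlong θ T' ≤ S := Fusion.preimageAlong_le θ T'
  have : Finite ↥(preimageAlong θ T') := Fusion.finite_of_le hTS
  have hT : IsPGroup p ↥(preimageAlong θ T') := h.hS.to_le hTS
  have hrange : (gflθT θ T').range = T' := gflθT_range θ (gfl_T'_le_range h)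
  have hfin' : Finite T' := Fusion.finite_of_range (gflθT θ T') hrange
  have hT' : IsPGroup p T' := by
    have := hT.of_surjective (gflθT θ T').rangeRestrict (gflθT θ T').rangeRestrict_surjective
    rwa [hrange] at this
  obtain ⟨ρ, hρ, b, hb, hgood⟩ := gfl_rep h hP.1 hP.2.1
  have hconj : (gflN p M Z θ Nb).IsConj P ρ.range := ⟨ρ, hρ, rfl⟩
  have hQ₁ : ρ.range ∈ gflH Z θ Nb := gfl_sat_conj h hP hconj
  have hfn := gfl_sat_fn h hQ₁ hb hgood
  obtain ⟨hc, hfa⟩ :=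
    Fusion.fullyCentralized_fullyAutomized_of_fullyNormalized p hT' Nb (gfl_Nb_sat h) hfn
  have hrec := Fusion.receptive_of_fullyCentralized p hT' Nb (gfl_Nb_sat h) hc
  exact ⟨ρ.range, hconj, gfl_sat_rep_aux h _ _ (gfl_sat_preimage_image h hQ₁) hQ₁ hb hgood hfa hrec⟩

theorem gfl_N_isSaturated [Finite S] [Fact p.Prime] (h : GflSetup p M Z θ Mb Nb) :
    (gflN p M Z θ Nb).IsSaturated p := by
  have hTS : preimageAlong θ T' ≤ S := Fusion.preimageAlong_le θ T'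
  have : Finite ↥(preimageAlong θ T') := Fusion.finite_of_le hTS
  have hT : IsPGroup p ↥(preimageAlong θ T') := h.hS.to_le hTS
  exact Cfsg.Agent.Helper6.Bcglo.saturated_of_generated p hT (gflN p M Z θ Nb) (gflH Z θ Nb)
    (fun P hP => hP.2.1) (fun P hP Q hPQ => gfl_sat_conj h hP hPQ) (gfl_sat_rep h)
    (gfl_sat_gen h) (gfl_sat_star h)

end Cfsg.Agent.GFS
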