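import Mathlib
import Cfsg.Agent.GFS.LiftBasic
import Cfsg.Agent.GFS.CoreNormal
import Cfsg.Agent.GFS.LiftOnto
import Cfsg.Agent.GFS.LiftCoh
import Cfsg.Agent.GFS.LiftReps
import Cfsg.Agent.GFS.LiftSat
import Cfsg.Agent.Helper4.FusTrC
import Cfsg.Agent.Lead.FusionGrun
import Cfsg.Agent.Lead.FusionInvariant
import Cfsg.Agent.Helper6.PPowNormD

set_option autoImplicit false

/-!
# Lifting a normal subsystem through a central quotient (N2), part 5: invariance and normality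

The lift `gflN` is carried onto itself by every automorphism of `T` belonging to `M`; it is
invariant in `M` (Frattini property by absorbing the automorphisms trivial modulo `Z`), hence weakly
normal, and it satisfies the extension condition.
-/

namespace Cfsg.Agent.GFS

open Cfsg Cfsg.FusionSystem Cfsg.Agent.Lead Cfsg.Agent.Helper4.FusTr Cfsg.Agent.Helper6.PPowNorm

universe u v

variable {Ω : Type u} [Group Ω] {S : Subgroup Ω} {Ω' : Type v} [Group Ω'] {S' T' : Subgroup Ω'}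
variable {p : ℕ} {M : FusionSystem S} {Z : Subgroup Ω} {θ : S →* Ω'} {Mb : FusionSystem S'}
  {Nb : FusionSystem T'}

/-- The lift is contained in each of its transports along automorphisms of `T` belonging to `M`. -/
theorem gfl_N_le_img [Finite S] [Fact p.Prime] (h : GflSetup p M Z θ Mb Nb)
    (α : MulAut ↥(preimageAlong θ T')) (hα : α ∈ M.autGroup (preimageAlong θ T'))
    (T₂ : Subgroup Ω) (hT₂ : T₂ = preimageAlong θ T') (N' : FusionSystem T₂)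
    (hN' : Img (W := preimageAlong θ T') (W' := preimageAlong θ T') α (gflN p M Z θ Nb) N') :
    ∀ P : Subgroup Ω, (gflN p M Z θ Nb).Hom P ⊆ N'.Hom P := by
  subst hT₂
  refine gflN_min p M Z θ Nb N' (fun R hR a ha => ?_)
  have hTS : preimageAlong θ T' ≤ S := gfl_T_le θ T'
  have hRT : R ≤ preimageAlong θ T' := hR.2.1
  have hβ : α⁻¹ ∈ M.autGroup (preimageAlong θ T') := Subgroup.inv_mem _ hα
  have hβ' := (Fusion.mem_autGroup_iff M hTS α⁻¹).mp hβ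
  set φ : R →* Ω := ((preimageAlong θ T').subtype.comp (α⁻¹ : MulAut _).toMonoidHom).comp
    (Subgroup.inclusion hRT) with hφdef
  have hφ : φ ∈ M.Hom R := Fusion.restrict_mem M hβ' hRT
  have hφx : ∀ x : R, φ x = ((α⁻¹ ⟨x, hRT x.2⟩ : ↥(preimageAlong θ T')) : Ω) := fun x => rfl
  have hinj : Function.Injective φ := M.injective_of_mem hφ
  set e := Fusion.equivOfRange φ hinj rfl with hedef
  set a₀ : MulAut φ.range := MulAut.congr e a with ha₀def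
  have ha₀ : ∀ x : R, ((a₀ ⟨φ x, ⟨x, rfl⟩⟩ : φ.range) : Ω) = φ (a x) := by
    intro x
    have h1 : e.symm ⟨φ x, ⟨x, rfl⟩⟩ = x := by
      rw [MulEquiv.symm_apply_eq]
      exact Subtype.ext rfl
    show ((e (a (e.symm ⟨φ x, ⟨x, rfl⟩⟩)) : φ.range) : Ω) = φ (a x)
    rw [h1]
    rfl
  have hA₀ : a₀ ∈ gflA p M θ Nb φ.range := gfl_A_conj h hRT hφ ha a₀ ha₀
  have hH₀ : φ.range ∈ gflH Z θ Nb := gfl_H_conj h hR hφ
  have hN₀ : a₀ ∈ (gflN p M Z θ Nb).autGroup φ.range := gfl_gen_le_N h hH₀ hA₀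
  have hrT : φ.range ≤ preimageAlong θ T' := hH₀.2.1
  have hrel : ∀ x : R, rel (W := preimageAlong θ T') (W' := preimageAlong θ T') α (φ x) (x : Ω) := by
    intro x
    refine ⟨hrT ⟨x, rfl⟩, ?_⟩
    have : (⟨φ x, hrT ⟨x, rfl⟩⟩ : ↥(preimageAlong θ T')) = α⁻¹ ⟨x, hRT x.2⟩ := Subtype.ext (hφx x)
    rw [this]
    show ((α (α⁻¹ ⟨x, hRT x.2⟩) : ↥(preimageAlong θ T')) : Ω) = x
    rw [MulAut.apply_inv_self]
  have hReq : R = mapS (W := preimageAlong θ T') (W' := preimageAlong θ T') α φ.range := by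
    apply le_antisymm
    · intro y hy
      rw [mem_mapS]
      exact ⟨φ ⟨y, hy⟩, ⟨⟨y, hy⟩, rfl⟩, hrel ⟨y, hy⟩⟩
    · intro y hy
      rw [mem_mapS] at hy
      obtain ⟨_, ⟨x, rfl⟩, hxy⟩ := hy
      have := rel.unique_right hxy (hrel x)
      rw [this]
      exact x.2
  have hAR : AutRel (W := preimageAlong θ T') (W' := preimageAlong θ T') α a₀ a := by
    rintro ⟨_, x, rfl⟩ y hxy
    have hy : (y : Ω) = x := rel.unique_right hxy (hrel x)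
    have hyx : y = x := Subtype.ext hy
    rw [hyx, ha₀ x]
    exact hrel (a x)
  exact (hN'.autGroup_iff hrT hReq hAR).mp hN₀

/-- The lift is carried onto itself by the automorphisms of `T` belonging to `M`. -/
theorem gfl_N_img_self [Finite S] [Fact p.Prime] (h : GflSetup p M Z θ Mb Nb)
    (α : MulAut ↥(preimageAlong θ T')) (hα : α ∈ M.autGroup (preimageAlong θ T')) :
    Img (W := preimageAlong θ T') (W' := preimageAlong θ T') α (gflN p M Z θ Nb)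
      (gflN p M Z θ Nb) := by
  have hself : ∀ β : MulAut ↥(preimageAlong θ T'),
      mapS (W := preimageAlong θ T') (W' := preimageAlong θ T') β (preimageAlong θ T') =
        preimageAlong θ T' :=
    fun β => mapS_self (W := preimageAlong θ T') (W' := preimageAlong θ T') β
  refine ⟨le_rfl, (hself α).symm, fun {P P' φ φ'} _ hi => ⟨fun hφ => ?_, fun hφ' => ?_⟩⟩
  · have hα' : α⁻¹ ∈ M.autGroup (preimageAlong θ T') := Subgroup.inv_mem _ hα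
    obtain ⟨E'', hE''⟩ := exists_img (W := preimageAlong θ T') (W' := preimageAlong θ T')
      (α⁻¹ : MulAut ↥(preimageAlong θ T')) (gflN p M Z θ Nb) le_rfl
    have hle := gfl_N_le_img h α⁻¹ hα' _ (hself α⁻¹) E'' hE''
    have hback : Img (W := preimageAlong θ T') (W' := preimageAlong θ T') α E'' (gflN p M Z θ Nb) :=
      hE''.symm
    exact (hback.iff hi).mp (hle P hφ)
  · obtain ⟨E'', hE''⟩ := exists_img (W := preimageAlong θ T') (W' := preimageAlong θ T') α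
      (gflN p M Z θ Nb) le_rfl
    have hle := gfl_N_le_img h α hα _ (hself α) E'' hE''
    exact (hE''.iff hi).mpr (hle P' hφ')

/-! ### Auxiliary facts -/

/-- A map of the system from `Q` into `Q` is an automorphism of the system. -/
theorem gfl_nrm_aut_of_hom {Ω₀ : Type*} [Group Ω₀] {S₀ : Subgroup Ω₀} (F : FusionSystem S₀)
    {Q : Subgroup Ω₀} [Finite Q] (ψ : Q →* Ω₀)
    (hψ : ψ ∈ F.Hom Q) (hQ : ∀ x : Q, ψ x ∈ Q) :
    ∃ β ∈ F.autGroup Q, ∀ x : Q, ((β x : Q) : Ω₀) = ψ x := by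
  have hQS : Q ≤ S₀ := Fusion.src_le F hψ
  set f' : Q →* Q := ψ.codRestrict Q hQ with hf'
  have hinj : Function.Injective f' := by
    intro x y hxy
    exact F.injective_of_mem hψ (congrArg Subtype.val hxy)
  have hbij : Function.Bijective f' := ⟨hinj, Finite.injective_iff_surjective.mp hinj⟩
  refine ⟨MulEquiv.ofBijective f' hbij, ?_, fun x => rfl⟩
  rw [Fusion.mem_autGroup_iff F hQS]
  have : Q.subtype.comp (MulEquiv.ofBijective f' hbij : MulAut Q).toMonoidHom = ψ := by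
    ext x
    rfl
  rw [this]
  exact hψ

/-- `T' ≤ S'`. -/
theorem gfl_nrm_T'_le (h : GflSetup p M Z θ Mb Nb) : T' ≤ S' :=
  Fusion.src_le Mb (h.nrm.1.2.2.1 T' (Fusion.subtype_mem Nb le_rfl))

/-- Every automorphism of `P' ≤ S'` belonging to `Mb` is induced by an automorphism of the preimage
of `P'` belonging to `M`. -/
theorem gfl_nrm_lift_aut [Finite S] [Fact p.Prime] (h : GflSetup p M Z θ Mb Nb)
    {P' : Subgroup Ω'} (hP'S' : P' ≤ S') {a' : MulAut P'} (ha' : a' ∈ Mb.autGroup P') :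
    ∃ a ∈ M.autGroup (preimageAlong θ P'), ∀ x : ↥(preimageAlong θ P'),
      ∃ hx' : θ ⟨x, gfl_T_le θ P' x.2⟩ ∈ P',
        θ ⟨((a x : ↥(preimageAlong θ P')) : Ω), gfl_T_le θ P' (a x).2⟩ =
          ((a' ⟨θ ⟨x, gfl_T_le θ P' x.2⟩, hx'⟩ : P') : Ω') := by
  have h1 := (Fusion.mem_autGroup_iff Mb hP'S' a').mp ha'
  obtain ⟨-, φ, hφ, hPS, hφS, hP', hind⟩ := (h.fac.2.2.2 P' _).mp h1
  have hφT : ∀ x : ↥(preimageAlong θ P'), φ x ∈ preimageAlong θ P' := by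
    intro x
    rw [Fusion.mem_preimageAlong]
    refine ⟨hφS x, ?_⟩
    rw [← hind x]
    exact (a' _).2
  have : Finite ↥(preimageAlong θ P') := Fusion.finite_of_le (gfl_T_le θ P')
  obtain ⟨a, ha, hax⟩ := gfl_nrm_aut_of_hom M φ hφ hφT
  refine ⟨a, ha, fun x => ⟨hP' x, ?_⟩⟩
  have h2 := hind x
  have h3 : (⟨((a x : ↥(preimageAlong θ P')) : Ω), gfl_T_le θ P' (a x).2⟩ : S) = ⟨φ x, hφS x⟩ :=
    Subtype.ext (hax x)
  rw [h3, ← h2]
  rfl

/-- Every automorphism of `T'` belonging to `Mb` is induced by an automorphism of `T` belonging to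
`M`. -/
theorem gfl_nrm_lift_autT [Finite S] [Fact p.Prime] (h : GflSetup p M Z θ Mb Nb)
    {a' : MulAut T'} (ha' : a' ∈ Mb.autGroup T') :
    ∃ a ∈ M.autGroup (preimageAlong θ T'), ∀ x : ↥(preimageAlong θ T'),
      ∃ hx' : θ ⟨x, gfl_T_le θ T' x.2⟩ ∈ T',
        θ ⟨((a x : ↥(preimageAlong θ T')) : Ω), gfl_T_le θ T' (a x).2⟩ =
          ((a' ⟨θ ⟨x, gfl_T_le θ T' x.2⟩, hx'⟩ : T') : Ω') :=
  gfl_nrm_lift_aut h (gfl_nrm_T'_le h) ha'

/-- `Z` is central in `M`. -/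
theorem gfl_nrm_isCentral_Z [Finite S] (h : GflSetup p M Z θ Mb Nb) : M.IsCentral Z := by
  have hc := Fusion.center_isCentral M
  refine ⟨h.cen.trans hc.1, fun P φ hφ => ?_⟩
  obtain ⟨ψ, hψ, hψP, hψY⟩ := hc.2 P φ hφ
  have hle : P ⊔ Z ≤ P ⊔ M.center := sup_le_sup_left h.cen P
  exact ⟨ψ.comp (Subgroup.inclusion hle), Fusion.restrict_mem M hψ hle, fun x => hψP x,
    fun x => hψY ⟨x, h.cen x.2⟩⟩

/-- The quotient map is a surjective morphism of fusion systems. -/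
theorem gfl_nrm_isSurjectiveMorphism [Finite S] [Fact p.Prime] (h : GflSetup p M Z θ Mb Nb) :
    M.IsSurjectiveMorphism Mb θ :=
  Fusion.isSurjectiveMorphism_of_isFactorSystem p h.hS M h.sat Z
    (Fusion.stronglyClosed_of_isCentral p h.hS M h.sat (gfl_nrm_isCentral_Z h)) θ Mb h.fac

/-! ### The invariance clause -/

theorem gfl_nrm_inv_clause [Finite S] [Fact p.Prime] (h : GflSetup p M Z θ Mb Nb)
    (P : Subgroup Ω) (hPT : P ≤ preimageAlong θ T') (φ : P →* Ω)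
    (hφ : φ ∈ (gflN p M Z θ Nb).Hom P) (α : MulAut ↥(preimageAlong θ T'))
    (hα : α ∈ M.autGroup (preimageAlong θ T')) :
    ∃ χ ∈ (gflN p M Z θ Nb).Hom ((P.subgroupOf (preimageAlong θ T')).map
        ((preimageAlong θ T').subtype.comp α.toMonoidHom)),
      ∀ (x : P) (hφx : φ x ∈ preimageAlong θ T')
        (hαx : ((α ⟨x, hPT x.2⟩ : ↥(preimageAlong θ T')) : Ω) ∈
          (P.subgroupOf (preimageAlong θ T')).map
            ((preimageAlong θ T').subtype.comp α.toMonoidHom)),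
        χ ⟨(α ⟨x, hPT x.2⟩ : ↥(preimageAlong θ T')), hαx⟩ =
          ((α ⟨φ x, hφx⟩ : ↥(preimageAlong θ T')) : Ω) := by
  have himg := gfl_N_img_self h α hα
  obtain ⟨φ', hφ', hi⟩ := himg.push hφ
    (P' := mapS (W := preimageAlong θ T') (W' := preimageAlong θ T') α P) rfl
  refine ⟨φ', hφ', fun x hφx hαx => ?_⟩
  have r0 : rel (W := preimageAlong θ T') (W' := preimageAlong θ T') α ((x : ↥P) : Ω)
      ((α ⟨x, hPT x.2⟩ : ↥(preimageAlong θ T')) : Ω) :=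
    rel_of_mem (W := preimageAlong θ T') (W' := preimageAlong θ T') α (hPT x.2)
  have r1 := hi.app (x := x) (y := ⟨((α ⟨x, hPT x.2⟩ : ↥(preimageAlong θ T')) : Ω), hαx⟩) r0
  exact rel.unique_right r1 (rel_of_mem (W := preimageAlong θ T') (W' := preimageAlong θ T') α hφx)

/-! ### The Frattini clause -/

/-- Two maps of `M` with source `P ⊇ Z` inducing the same map downstairs differ by an automorphism of
`P` trivial modulo `Z`. -/
theorem gfl_nrm_K_of_same [Finite S] [Fact p.Prime] (h : GflSetup p M Z θ Mb Nb)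
    {P : Subgroup Ω} (hZP : Z ≤ P) {φ ξ : P →* Ω} (hφ : φ ∈ M.Hom P) (hξ : ξ ∈ M.Hom P)
    (hsame : ∀ x : P, θ ⟨φ x, Fusion.map_mem M hφ x⟩ = θ ⟨ξ x, Fusion.map_mem M hξ x⟩) :
    ∃ k ∈ M.autGroup P, GflK Z P k ∧ ∀ x : P, ξ (k x) = φ x := by
  have hPS : P ≤ S := Fusion.src_le M hφ
  have hZc := gfl_nrm_isCentral_Z h
  -- the difference lies in `Z`
  have hz : ∀ x : P, (ξ x)⁻¹ * φ x ∈ Z := by
    intro x
    have h1 : θ (⟨ξ x, Fusion.map_mem M hξ x⟩⁻¹ * ⟨φ x, Fusion.map_mem M hφ x⟩) = 1 := by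
      rw [map_mul, map_inv, hsame x, inv_mul_cancel]
    exact (h.fac.2.1 _).mp h1
  have hfix : ∀ z : P, (z : Ω) ∈ Z → ξ z = z := fun z hzZ =>
    Fusion.map_eq_of_isCentral p h.hS M h.sat hZc hξ z hzZ
  have hmem : ∀ x : P, φ x ∈ ξ.range := by
    intro x
    have hzξ : ξ ⟨(ξ x)⁻¹ * φ x, hZP (hz x)⟩ = (ξ x)⁻¹ * φ x := hfix ⟨_, hZP (hz x)⟩ (hz x)
    refine ⟨x * ⟨(ξ x)⁻¹ * φ x, hZP (hz x)⟩, ?_⟩
    rw [map_mul, hzξ]
    group
  set e := Fusion.equivOfRange ξ (M.injective_of_mem hξ) rfl with hedef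
  have hinv := Fusion.equivOfRange_symm_mem M hξ rfl
  have hk := M.comp_mem hφ hinv hmem
  set kmap : P →* Ω := (P.subtype.comp e.symm.toMonoidHom).comp (φ.codRestrict ξ.range hmem)
    with hkmap
  have : Finite P := Fusion.finite_of_le hPS
  obtain ⟨k, hkA, hkx⟩ := gfl_nrm_aut_of_hom M kmap hk (fun x => (e.symm _).2)
  have hξk : ∀ x : P, ξ (k x) = φ x := by
    intro x
    have h1 : (k x : P) = e.symm ⟨φ x, hmem x⟩ := Subtype.ext (hkx x)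
    rw [h1]
    exact Fusion.map_equivOfRange_symm ξ (M.injective_of_mem hξ) rfl ⟨φ x, hmem x⟩
  refine ⟨k, hkA, fun x => ?_, hξk⟩
  -- `k x = x z(x)`
  have hzξ : ξ ⟨(ξ x)⁻¹ * φ x, hZP (hz x)⟩ = (ξ x)⁻¹ * φ x := hfix ⟨_, hZP (hz x)⟩ (hz x)
  have h2 : ξ (k x) = ξ (x * ⟨(ξ x)⁻¹ * φ x, hZP (hz x)⟩) := by
    rw [hξk x, map_mul, hzξ]
    group
  have h3 := M.injective_of_mem hξ h2
  rw [h3]
  show (x : Ω)⁻¹ * ((x : Ω) * ((ξ x)⁻¹ * φ x)) ∈ Z
  rw [inv_mul_cancel_left]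
  exact hz x

/-- The Frattini property for maps whose source contains `Z`. -/
theorem gfl_nrm_frattini_of_le [Finite S] [Fact p.Prime] (h : GflSetup p M Z θ Mb Nb)
    {P : Subgroup Ω} (hZP : Z ≤ P) (hPT : P ≤ preimageAlong θ T') {φ : P →* Ω}
    (hφ : φ ∈ M.Hom P) :
    ∃ α ∈ M.autGroup (preimageAlong θ T'), ∃ φ₀ ∈ (gflN p M Z θ Nb).Hom P,
      ∀ (x : P) (hx : φ₀ x ∈ preimageAlong θ T'),
        φ x = ((α ⟨φ₀ x, hx⟩ : ↥(preimageAlong θ T')) : Ω) := by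
  have hTS : preimageAlong θ T' ≤ S := gfl_T_le θ T'
  have hPS : P ≤ S := hPT.trans hTS
  have hmor := gfl_nrm_isSurjectiveMorphism h
  obtain ⟨φ', hφ', hPS', hφS, hP', hφi⟩ := hmor.1.2 P φ hφ
  have hP'T' : imageAlong θ P ≤ T' := by
    intro y hy
    obtain ⟨x, hx, hxS, rfl⟩ := (Fusion.mem_imageAlong θ P y).mp hy
    exact ((Fusion.mem_preimageAlong θ T' x).mp (hPT hx)).2
  obtain ⟨a', ha', ψ', hψ', hfr⟩ := h.nrm.1.2.2.2.2.2 (imageAlong θ P) hP'T' φ' hφ'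
  obtain ⟨a, ha, haθ⟩ := gfl_nrm_lift_autT h ha'
  obtain ⟨ψ₁, hψ₁, hQS, hψ₁S, hQ', hψ₁i⟩ := gfl_lift h hψ'
  have hpre : preimageAlong θ (imageAlong θ P) = P := by
    rw [Fusion.preimageAlong_imageAlong θ h.fac.1 h.fac.2.1 hPS]
    exact sup_eq_left.mpr hZP
  obtain ⟨ψ, hψ, hψeq⟩ := Fusion.exists_hom_of_eq (gflN p M Z θ Nb) hpre hψ₁
  have hψM : ψ ∈ M.Hom P := gflN_le p M Z θ Nb P hψ
  have hψT : ∀ x : P, ψ x ∈ preimageAlong θ T' := fun x => ((gflN p M Z θ Nb).le_of_mem hψ).2 x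
  have haM := (Fusion.mem_autGroup_iff M hTS a).mp ha
  have hξ := M.comp_mem hψM haM hψT
  set ξ : P →* Ω := ((preimageAlong θ T').subtype.comp a.toMonoidHom).comp
    (ψ.codRestrict (preimageAlong θ T') hψT) with hξdef
  have hξx : ∀ x : P, ξ x = ((a ⟨ψ x, hψT x⟩ : ↥(preimageAlong θ T')) : Ω) := fun x => rfl
  -- the two maps agree downstairs
  have hsame : ∀ x : P, θ ⟨φ x, Fusion.map_mem M hφ x⟩ = θ ⟨ξ x, Fusion.map_mem M hξ x⟩ := by
    intro x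
    have hu : (x : Ω) ∈ preimageAlong θ (imageAlong θ P) := by rw [hpre]; exact x.2
    have e1 := hφi x
    have e2 := hψ₁i ⟨x, hu⟩
    have e3 : ψ x = ψ₁ ⟨x, hu⟩ := hψeq (x : Ω) hu x.2
    obtain ⟨hx', e4⟩ := haθ ⟨ψ x, hψT x⟩
    have hy : ψ' ⟨θ ⟨x, hPS x.2⟩, hP' x⟩ ∈ T' := ((Nb.le_of_mem hψ').2 _)
    have e5 := hfr ⟨θ ⟨x, hPS x.2⟩, hP' x⟩ hy
    have e6 : (⟨ψ' ⟨θ ⟨x, hPS x.2⟩, hP' x⟩, hy⟩ : T') =
        ⟨θ ⟨ψ x, gfl_T_le θ T' (hψT x)⟩, hx'⟩ := by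
      apply Subtype.ext
      show ψ' ⟨θ ⟨x, hPS x.2⟩, hP' x⟩ = θ ⟨ψ x, _⟩
      have : (⟨θ ⟨x, hPS x.2⟩, hP' x⟩ : imageAlong θ P) = ⟨θ ⟨(⟨x, hu⟩ : ↥(preimageAlong θ
          (imageAlong θ P))), hQS hu⟩, hQ' ⟨x, hu⟩⟩ := Subtype.ext rfl
      rw [this, e2]
      congr 1
      exact Subtype.ext e3.symm
    calc θ ⟨φ x, Fusion.map_mem M hφ x⟩ = φ' ⟨θ ⟨x, hPS x.2⟩, hP' x⟩ := e1.symm
      _ = ((a' ⟨ψ' ⟨θ ⟨x, hPS x.2⟩, hP' x⟩, hy⟩ : T') : Ω') := e5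
      _ = ((a' ⟨θ ⟨ψ x, gfl_T_le θ T' (hψT x)⟩, hx'⟩ : T') : Ω') := by rw [e6]
      _ = θ ⟨((a ⟨ψ x, hψT x⟩ : ↥(preimageAlong θ T')) : Ω), gfl_T_le θ T' (a ⟨ψ x, hψT x⟩).2⟩ :=
          e4.symm
      _ = θ ⟨ξ x, Fusion.map_mem M hξ x⟩ := rfl
  obtain ⟨k, hkA, hkK, hξk⟩ := gfl_nrm_K_of_same h hZP hφ hξ hsame
  obtain ⟨ρ, hρ, g, hg, hρg⟩ := gfl_K_absorb h hZP hPT hkA hkK
  have hρT : ∀ x : P, ρ x ∈ preimageAlong θ T' := fun x => ((gflN p M Z θ Nb).le_of_mem hρ).2 x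
  have hρinj : Function.Injective ρ := (gflN p M Z θ Nb).injective_of_mem hρ
  set eρ := Fusion.equivOfRange ρ hρinj rfl with heρ
  have hinvρ := Fusion.equivOfRange_symm_mem (gflN p M Z θ Nb) hρ rfl
  have hχ := (gflN p M Z θ Nb).comp_mem hinvρ hψ (fun y => (eρ.symm y).2)
  set χ : ρ.range →* Ω := ψ.comp ((P.subtype.comp eρ.symm.toMonoidHom).codRestrict P
    (fun y => (eρ.symm y).2)) with hχdef
  have hχρ : ∀ x : P, χ ⟨ρ x, ⟨x, rfl⟩⟩ = ψ x := by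
    intro x
    have h1 : eρ.symm ⟨ρ x, ⟨x, rfl⟩⟩ = x := by
      rw [MulEquiv.symm_apply_eq]
      exact Subtype.ext rfl
    show ψ (eρ.symm ⟨ρ x, ⟨x, rfl⟩⟩) = ψ x
    rw [h1]
  have hginv : g⁻¹ ∈ M.autGroup (preimageAlong θ T') := Subgroup.inv_mem _ hg
  have himg := gfl_N_img_self h g⁻¹ hginv
  obtain ⟨χ', hχ', hi⟩ := himg.push hχ
    (P' := mapS (W := preimageAlong θ T') (W' := preimageAlong θ T') g⁻¹ ρ.range) rfl
  have hrel : ∀ x : P, rel (W := preimageAlong θ T') (W' := preimageAlong θ T') g⁻¹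
      (ρ (k x)) (ρ x) := by
    intro x
    refine ⟨hρT (k x), ?_⟩
    have h1 := hρg x (hρT x) (hρT (k x))
    have h2 : (⟨ρ (k x), hρT (k x)⟩ : ↥(preimageAlong θ T')) = g ⟨ρ x, hρT x⟩ := Subtype.ext h1
    rw [h2]
    show ((g⁻¹ (g ⟨ρ x, hρT x⟩) : ↥(preimageAlong θ T')) : Ω) = ρ x
    rw [MulAut.inv_apply_self]
  have hmem : ∀ x : P, ρ x ∈
      mapS (W := preimageAlong θ T') (W' := preimageAlong θ T') g⁻¹ ρ.range := by
    intro x
    rw [mem_mapS]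
    exact ⟨ρ (k x), ⟨k x, rfl⟩, hrel x⟩
  have hφ₀ := (gflN p M Z θ Nb).comp_mem hρ hχ' hmem
  refine ⟨a * g, Subgroup.mul_mem _ ha hg, _, hφ₀, fun x hx => ?_⟩
  have r1 := hi.app (x := ⟨ρ (k x), ⟨k x, rfl⟩⟩) (y := ⟨ρ x, hmem x⟩) (hrel x)
  rw [hχρ (k x)] at r1
  obtain ⟨hu, hr⟩ := r1
  -- `hr : g⁻¹ (ψ (k x)) = χ' (ρ x)`
  have h3 : (⟨ψ (k x), hu⟩ : ↥(preimageAlong θ T')) =
      g ⟨(χ'.comp (ρ.codRestrict _ hmem)) x, hx⟩ := by
    have h4 : g⁻¹ (⟨ψ (k x), hu⟩ : ↥(preimageAlong θ T')) =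
        ⟨(χ'.comp (ρ.codRestrict _ hmem)) x, hx⟩ := Subtype.ext hr
    have h5 := congrArg g h4
    rwa [MulAut.apply_inv_self] at h5
  rw [← hξk x, hξx (k x)]
  show ((a ⟨ψ (k x), hψT (k x)⟩ : ↥(preimageAlong θ T')) : Ω) =
    ((a (g ⟨(χ'.comp (ρ.codRestrict _ hmem)) x, hx⟩) : ↥(preimageAlong θ T')) : Ω)
  rw [← h3]

/-- The Frattini property: every map of `M` between subgroups of `T` is a map of the lift followed
by an automorphism of `T` belonging to `M`. -/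
theorem gfl_nrm_frattini [Finite S] [Fact p.Prime] (h : GflSetup p M Z θ Mb Nb)
    {P : Subgroup Ω} (hPT : P ≤ preimageAlong θ T') {φ : P →* Ω} (hφ : φ ∈ M.Hom P) :
    ∃ α ∈ M.autGroup (preimageAlong θ T'), ∃ φ₀ ∈ (gflN p M Z θ Nb).Hom P,
      ∀ (x : P) (hx : φ₀ x ∈ preimageAlong θ T'),
        φ x = ((α ⟨φ₀ x, hx⟩ : ↥(preimageAlong θ T')) : Ω) := by
  obtain ⟨ψ, hψ, hψP, -⟩ := (gfl_nrm_isCentral_Z h).2 P φ hφ
  have hle : P ⊔ Z ≤ preimageAlong θ T' := sup_le hPT (gfl_Z_le_T h)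
  obtain ⟨α, hα, φ₁, hφ₁, hφ₁x⟩ := gfl_nrm_frattini_of_le h le_sup_right hle hψ
  refine ⟨α, hα, φ₁.comp (Subgroup.inclusion le_sup_left),
    Fusion.restrict_mem (gflN p M Z θ Nb) hφ₁ le_sup_left, fun x hx => ?_⟩
  rw [← hψP x]
  exact hφ₁x (Subgroup.inclusion le_sup_left x) hx

/-- The lift is invariant in `M`. -/
theorem gfl_N_isInvariantIn [Finite S] [Fact p.Prime] (h : GflSetup p M Z θ Mb Nb) :
    (gflN p M Z θ Nb).IsInvariantIn M :=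
  ⟨gflN_le p M Z θ Nb, gfl_stronglyClosed h,
    fun P hPT φ hφ α hα => gfl_nrm_inv_clause h P hPT φ hφ α hα,
    fun _ hPT _ hφ => gfl_nrm_frattini h hPT hφ⟩

/-- The lift is weakly normal in `M`. -/
theorem gfl_N_isWeaklyNormalIn [Finite S] [Fact p.Prime] (h : GflSetup p M Z θ Mb Nb) :
    (gflN p M Z θ Nb).IsWeaklyNormalIn M p :=
  ⟨gfl_N_isSaturated h, h.sat, gfl_N_isInvariantIn h⟩

/-! ### The extension condition -/

/-- A `p'`-element lying in `X R`, `R` a `p`-group normalizing `X`, lies in `X`. -/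
theorem gfl_nrm_mem_of_mul_mem {G : Type*} [Group G] {p : ℕ} (X R : Subgroup G)
    (hRX : R ≤ Subgroup.normalizer (X : Set G)) (hR : IsPGroup p R) {a k : G} (hk : k ∈ R) (hak : a * k ∈ X)
    (hcop : (orderOf a).Coprime p) : a ∈ X := by
  set x := a * k with hx
  set r := k⁻¹ with hr
  have hrR : r ∈ R := Subgroup.inv_mem _ hk
  have ha : a = x * r := by rw [hx, hr]; group
  have claim : ∀ n : ℕ, ∃ y ∈ X, (x * r) ^ n = y * r ^ n := by
    intro n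
    induction n with
    | zero => exact ⟨1, Subgroup.one_mem _, by simp⟩
    | succ n ih =>
      obtain ⟨y, hy, hyn⟩ := ih
      have hn : r ^ n ∈ Subgroup.normalizer (X : Set G) := hRX (Subgroup.pow_mem _ hrR n)
      have h1 : r ^ n * x * (r ^ n)⁻¹ ∈ X := (Subgroup.mem_normalizer_iff.mp hn x).mp hak
      refine ⟨y * (r ^ n * x * (r ^ n)⁻¹), Subgroup.mul_mem _ hy h1, ?_⟩
      rw [pow_succ, hyn, pow_succ]
      group
  obtain ⟨j, hj⟩ := hR ⟨r, hrR⟩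
  have hj' : r ^ p ^ j = 1 := by
    have := congrArg Subtype.val hj
    simpa using this
  obtain ⟨y, hy, hyn⟩ := claim (p ^ j)
  rw [hj', mul_one, ← ha] at hyn
  have hcop' : (p ^ j).Coprime (orderOf a) := Nat.Coprime.pow_left j hcop.symm
  obtain ⟨m, hm⟩ := exists_pow_eq_self_of_coprime hcop'
  rw [← hm, hyn]
  exact Subgroup.pow_mem _ hy m

/-- The automorphisms with good extensions are permuted by conjugation with the automorphisms
induced by elements of `S`. -/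
theorem gfl_nrm_extOK_conj (F : FusionSystem S) {T : Subgroup Ω} (hTS : T ≤ S) {α γ : MulAut T}
    {g : Ω} (hg : g ∈ S) (hγ : ∀ x : T, ((γ x : T) : Ω) = g * x * g⁻¹) (h : ExtOK F T α) :
    ExtOK F T (γ * α * γ⁻¹) := by
  obtain ⟨β, hβ, hβT, hβC⟩ := h
  have hTC : T ⊔ centralizerIn S T ≤ S := sup_le hTS inf_le_left
  -- `g` and `g⁻¹` carry `T` and `C_S(T)` into themselves
  have hgT : ∀ x ∈ T, g * x * g⁻¹ ∈ T := fun x hx => by
    rw [← hγ ⟨x, hx⟩]; exact (γ ⟨x, hx⟩).2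
  have hgT' : ∀ x ∈ T, g⁻¹ * x * g⁻¹⁻¹ ∈ T := fun x hx => by
    have h1 := hγ (γ⁻¹ ⟨x, hx⟩)
    rw [MulAut.apply_inv_self] at h1
    have h1' : x = g * ((γ⁻¹ ⟨x, hx⟩ : T) : Ω) * g⁻¹ := h1
    have h2 : g⁻¹ * x * g⁻¹⁻¹ = ((γ⁻¹ ⟨x, hx⟩ : T) : Ω) := by
      calc g⁻¹ * x * g⁻¹⁻¹ = g⁻¹ * (g * ((γ⁻¹ ⟨x, hx⟩ : T) : Ω) * g⁻¹) * g⁻¹⁻¹ := by rw [← h1']
        _ = ((γ⁻¹ ⟨x, hx⟩ : T) : Ω) := by group
    rw [h2]
    exact (γ⁻¹ ⟨x, hx⟩).2
  have hcent : ∀ (u : Ω), (∀ x ∈ T, u * x * u⁻¹ ∈ T) → (∀ x ∈ T, u⁻¹ * x * u⁻¹⁻¹ ∈ T) → u ∈ S →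
      ∀ c ∈ centralizerIn S T, u * c * u⁻¹ ∈ centralizerIn S T := by
    intro u hu hu' huS c hc
    refine Subgroup.mem_inf.mpr ⟨Subgroup.mul_mem _ (Subgroup.mul_mem _ huS (Subgroup.mem_inf.mp hc).1)
      (Subgroup.inv_mem _ huS), ?_⟩
    intro t ht
    have h1 := (Subgroup.mem_inf.mp hc).2 (u⁻¹ * t * u⁻¹⁻¹) (hu' t ht)
    have h2 : t * (u * c * u⁻¹) = u * ((u⁻¹ * t * u⁻¹⁻¹) * c) * u⁻¹ := by group
    rw [h2, h1]
    group
  have hsup : ∀ (u : Ω), (∀ x ∈ T, u * x * u⁻¹ ∈ T) → (∀ x ∈ T, u⁻¹ * x * u⁻¹⁻¹ ∈ T) → u ∈ S →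
      ∀ y ∈ T ⊔ centralizerIn S T, u * y * u⁻¹ ∈ T ⊔ centralizerIn S T := by
    intro u hu hu' huS y hy
    have hle : T ⊔ centralizerIn S T ≤ (T ⊔ centralizerIn S T).comap (MulAut.conj u).toMonoidHom := by
      apply sup_le
      · intro x hx
        exact (le_sup_left : T ≤ T ⊔ centralizerIn S T) (hu x hx)
      · intro c hc
        exact (le_sup_right : centralizerIn S T ≤ T ⊔ centralizerIn S T) (hcent u hu hu' huS c hc)
    exact hle hy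
  have hgN : g ∈ Subgroup.normalizer ((T ⊔ centralizerIn S T : Subgroup Ω) : Set Ω) := by
    rw [Subgroup.mem_normalizer_iff]
    intro y
    constructor
    · exact hsup g hgT hgT' hg y
    · intro hy
      have h1 := hsup g⁻¹ hgT' (by simpa using hgT) (Subgroup.inv_mem _ hg) _ hy
      have h2 : g⁻¹ * (g * y * g⁻¹) * g⁻¹⁻¹ = y := by group
      rwa [h2] at h1
  set δ : MulAut ↥(T ⊔ centralizerIn S T) := conjAutHom (T ⊔ centralizerIn S T) ⟨g, hgN⟩ with hδ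
  have hδmem : δ ∈ F.autGroup (T ⊔ centralizerIn S T) := by
    rw [Fusion.mem_autGroup_iff F hTC]
    have h1 : (T ⊔ centralizerIn S T).subtype.comp δ.toMonoidHom =
        conjHom (T ⊔ centralizerIn S T) g := by
      ext x
      rfl
    rw [h1]
    exact F.conj_mem hTC hg
  have hδT : ∀ x : T, δ (Subgroup.inclusion le_sup_left x) = Subgroup.inclusion le_sup_left (γ x) :=
    fun x => Subtype.ext ((hγ x).symm ▸ rfl)
  have hδT' : ∀ x : T, δ⁻¹ (Subgroup.inclusion le_sup_left x) =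
      Subgroup.inclusion le_sup_left (γ⁻¹ x) := by
    intro x
    have h1 := hδT (γ⁻¹ x)
    rw [MulAut.apply_inv_self] at h1
    rw [← h1, MulAut.inv_apply_self]
  have hβT' : ∀ x : T, β (Subgroup.inclusion le_sup_left x) = Subgroup.inclusion le_sup_left (α x) :=
    fun x => Subtype.ext (hβT x)
  refine ⟨δ * β * δ⁻¹, Subgroup.mul_mem _ (Subgroup.mul_mem _ hδmem hβ) (Subgroup.inv_mem _ hδmem),
    fun x => ?_, fun c hc => ?_⟩
  · show ((δ (β (δ⁻¹ (Subgroup.inclusion le_sup_left x))) : ↥(T ⊔ centralizerIn S T)) : Ω) = _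
    rw [hδT', hβT', hδT]
    rfl
  · -- `c' := g⁻¹ c g ∈ C_S(T)`
    have hc' : ((δ⁻¹ c : ↥(T ⊔ centralizerIn S T)) : Ω) ∈ centralizerIn S T := by
      have h1 : ((δ⁻¹ c : ↥(T ⊔ centralizerIn S T)) : Ω) = g⁻¹ * c * g⁻¹⁻¹ := by
        have h2 : ((δ (δ⁻¹ c) : ↥(T ⊔ centralizerIn S T)) : Ω) =
            g * ((δ⁻¹ c : ↥(T ⊔ centralizerIn S T)) : Ω) * g⁻¹ := rfl
        rw [MulAut.apply_inv_self] at h2
        rw [h2]
        group
      rw [h1]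
      exact hcent g⁻¹ hgT' (by simpa using hgT) (Subgroup.inv_mem _ hg) c hc
    have hz := hβC (δ⁻¹ c) hc'
    have h3 : (c : Ω)⁻¹ * (((δ * β * δ⁻¹) c : ↥(T ⊔ centralizerIn S T)) : Ω) =
        g * (((δ⁻¹ c : ↥(T ⊔ centralizerIn S T)) : Ω)⁻¹ *
          ((β (δ⁻¹ c) : ↥(T ⊔ centralizerIn S T)) : Ω)) * g⁻¹ := by
      have h4 : (((δ * β * δ⁻¹) c : ↥(T ⊔ centralizerIn S T)) : Ω) =
          g * ((β (δ⁻¹ c) : ↥(T ⊔ centralizerIn S T)) : Ω) * g⁻¹ := rfl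
      have h5 : (c : Ω) = g * ((δ⁻¹ c : ↥(T ⊔ centralizerIn S T)) : Ω) * g⁻¹ := by
        have h2 : ((δ (δ⁻¹ c) : ↥(T ⊔ centralizerIn S T)) : Ω) =
            g * ((δ⁻¹ c : ↥(T ⊔ centralizerIn S T)) : Ω) * g⁻¹ := rfl
        rwa [MulAut.apply_inv_self] at h2
      rw [h4]
      nth_rewrite 1 [h5]
      group
    rw [h3]
    -- conjugation by `g` preserves `Z(T)`
    obtain ⟨hzT, hzC⟩ := Subgroup.mem_inf.mp hz
    refine Subgroup.mem_inf.mpr ⟨hgT _ hzT, ?_⟩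
    intro t ht
    have h1 := hzC (g⁻¹ * t * g⁻¹⁻¹) (hgT' t ht)
    set z := ((δ⁻¹ c : ↥(T ⊔ centralizerIn S T)) : Ω)⁻¹ *
      ((β (δ⁻¹ c) : ↥(T ⊔ centralizerIn S T)) : Ω) with hzdef
    have h2 : t * (g * z * g⁻¹) = g * ((g⁻¹ * t * g⁻¹⁻¹) * z) * g⁻¹ := by group
    rw [h2, h1]
    group

/-- `Aut_S(T)` normalizes the group of the automorphisms of `T` with good extensions. -/
theorem gfl_nrm_autS_le_normalizer (F : FusionSystem S) {T : Subgroup Ω} [Finite T] (hTS : T ≤ S) :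
    autInducedBy S T ≤ Subgroup.normalizer ((extSub F T hTS : Subgroup (MulAut T)) : Set (MulAut T)) := by
  unfold autInducedBy
  rw [Subgroup.closure_le]
  rintro γ ⟨g, hg, hγ⟩
  rw [SetLike.mem_coe, Subgroup.mem_normalizer_iff]
  intro α
  constructor
  · intro hα
    exact gfl_nrm_extOK_conj F hTS hg hγ hα
  · intro hα
    have hγ' : ∀ x : T, ((γ⁻¹ x : T) : Ω) = g⁻¹ * x * g⁻¹⁻¹ := by
      intro x
      have h1 := hγ (γ⁻¹ x)
      rw [MulAut.apply_inv_self] at h1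
      have h1' : (x : Ω) = g * ((γ⁻¹ x : T) : Ω) * g⁻¹ := h1
      calc ((γ⁻¹ x : T) : Ω) = g⁻¹ * (g * ((γ⁻¹ x : T) : Ω) * g⁻¹) * g⁻¹⁻¹ := by group
        _ = g⁻¹ * x * g⁻¹⁻¹ := by rw [← h1']
    have h2 := gfl_nrm_extOK_conj F hTS (Subgroup.inv_mem _ hg) hγ' hα
    have h3 : γ⁻¹ * (γ * α * γ⁻¹) * γ⁻¹⁻¹ = α := by group
    rw [h3] at h2
    exact h2

/-- `θ` maps `T` onto `T'`. -/
theorem gfl_nrm_image_T (h : GflSetup p M Z θ Mb Nb) :
    imageAlong θ (preimageAlong θ T') = T' := by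
  apply le_antisymm
  · intro y hy
    obtain ⟨x, hx, hxS, rfl⟩ := (Fusion.mem_imageAlong θ _ y).mp hy
    exact ((Fusion.mem_preimageAlong θ T' x).mp hx).2
  · intro y hy
    have hyS' : y ∈ S' := gfl_nrm_T'_le h hy
    rw [← h.fac.2.2.1] at hyS'
    obtain ⟨s, rfl⟩ := hyS'
    rw [Fusion.mem_imageAlong]
    exact ⟨s, (Fusion.mem_preimageAlong θ T' s).mpr ⟨s.2, hy⟩, s.2, rfl⟩

/-- The second kind of generators at `T` are inner automorphisms. -/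
theorem gfl_nrm_extOK_gen_inner [Finite S] [Fact p.Prime] (h : GflSetup p M Z θ Mb Nb)
    {α : MulAut ↥(preimageAlong θ T')} {φ : ↥(preimageAlong θ T') →* Ω}
    (hφ : φ ∈ M.Hom (preimageAlong θ T')) {t : Ω} (ht : t ∈ preimageAlong θ T')
    (hα : ∀ x : ↥(preimageAlong θ T'), φ (α x) = t * φ x * t⁻¹) :
    ExtOK M (preimageAlong θ T') α := by
  have hTS : preimageAlong θ T' ≤ S := gfl_T_le θ T'
  have : Finite ↥(preimageAlong θ T') := Fusion.finite_of_le hTS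
  have hφT : ∀ x : ↥(preimageAlong θ T'), φ x ∈ preimageAlong θ T' :=
    fun x => (gfl_stronglyClosed h).2 _ le_rfl φ hφ x
  obtain ⟨f, -, hfx⟩ := gfl_nrm_aut_of_hom M φ hφ hφT
  set t' : ↥(preimageAlong θ T') := f⁻¹ ⟨t, ht⟩ with ht'
  have hft' : ((f t' : ↥(preimageAlong θ T')) : Ω) = t := by
    rw [ht', MulAut.apply_inv_self]
  refine extOK_of_inner M hTS α (t' : Ω) t'.2 (fun x => ?_)
  have h1 : f (α x) = f (t' * x * t'⁻¹) := by
    apply Subtype.ext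
    rw [hfx, hα x, map_mul, map_mul, map_inv]
    show t * φ x * t⁻¹ = ((f t' : ↥(preimageAlong θ T')) : Ω) *
      ((f x : ↥(preimageAlong θ T')) : Ω) * ((f t' : ↥(preimageAlong θ T')) : Ω)⁻¹
    rw [hft', hfx]
  have h2 := f.injective h1
  rw [h2]
  rfl

/-- The `p'`-elements of `Aut_M(T)` inducing maps of `Nb` have good extensions. -/
theorem gfl_nrm_extOK_gen [Finite S] [Fact p.Prime] (h : GflSetup p M Z θ Mb Nb)
    {a : MulAut ↥(preimageAlong θ T')} (ha : a ∈ M.autGroup (preimageAlong θ T'))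
    (haB : GflB θ Nb (preimageAlong θ T') a) (hcop : (orderOf a).Coprime p) :
    ExtOK M (preimageAlong θ T') a := by
  have hTS : preimageAlong θ T' ≤ S := gfl_T_le θ T'
  have hfinT : Finite ↥(preimageAlong θ T') := Fusion.finite_of_le hTS
  have hT'S' : T' ≤ S' := gfl_nrm_T'_le h
  have himgT := gfl_nrm_image_T h
  have hθS' : ∀ s : S, θ s ∈ S' := fun s => h.fac.2.2.1 ▸ ⟨s, rfl⟩
  have hθT : ∀ x : ↥(preimageAlong θ T'), θ ⟨x, hTS x.2⟩ ∈ T' :=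
    fun x => ((Fusion.mem_preimageAlong θ T' x).mp x.2).2
  have hfinT' : Finite T' := by
    have h1 : Finite ↥S' := by
      rw [← h.fac.2.2.1]
      exact Finite.of_surjective θ.rangeRestrict θ.rangeRestrict_surjective
    exact Fusion.finite_of_le hT'S'
  -- step 1: the automorphism of `T'` induced by `a`
  obtain ⟨φ', hφ', hPS, hφS, hP', hind⟩ := haB
  obtain ⟨χ', hχ', hχeq⟩ := Fusion.exists_hom_of_eq Nb himgT hφ'
  have hχT : ∀ y : T', χ' y ∈ T' := fun y => (Nb.le_of_mem hχ').2 y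
  obtain ⟨a', ha', ha'x⟩ := gfl_nrm_aut_of_hom Nb χ' hχ' hχT
  have haa' : ∀ x : ↥(preimageAlong θ T'),
      ((a' ⟨θ ⟨x, hTS x.2⟩, hθT x⟩ : T') : Ω') = θ ⟨((a x : ↥(preimageAlong θ T')) : Ω), hTS (a x).2⟩ := by
    intro x
    rw [ha'x, hχeq _ (hP' x) (hθT x)]
    exact hind x
  -- step 2: its good extension downstairs
  obtain ⟨b', hb', hb'T, hb'C⟩ := h.nrm.2 a' ha'
  have hU'S' : T' ⊔ centralizerIn S' T' ≤ S' := sup_le hT'S' inf_le_left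
  -- step 3: lift it
  obtain ⟨b, hb, hbθ⟩ := gfl_nrm_lift_aut h hU'S' hb'
  have hUS : (preimageAlong θ (T' ⊔ centralizerIn S' T')) ≤ S := gfl_T_le θ _
  have hTU : preimageAlong θ T' ≤ (preimageAlong θ (T' ⊔ centralizerIn S' T')) := by
    intro x hx
    obtain ⟨hxS, hx'⟩ := (Fusion.mem_preimageAlong θ T' x).mp hx
    exact (Fusion.mem_preimageAlong θ _ x).mpr ⟨hxS, (le_sup_left : T' ≤ _) hx'⟩
  have hCU : centralizerIn S (preimageAlong θ T') ≤ (preimageAlong θ (T' ⊔ centralizerIn S' T')) := by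
    intro c hc
    obtain ⟨hcS, hcc⟩ := Subgroup.mem_inf.mp hc
    refine (Fusion.mem_preimageAlong θ _ c).mpr ⟨hcS, (le_sup_right : centralizerIn S' T' ≤ _) ?_⟩
    refine Subgroup.mem_inf.mpr ⟨hθS' _, ?_⟩
    intro y hy
    rw [← himgT] at hy
    obtain ⟨t, ht, htS, rfl⟩ := (Fusion.mem_imageAlong θ _ y).mp hy
    have h1 : t * c = c * t := hcc t ht
    have h2 : (⟨t, htS⟩ : S) * ⟨c, hcS⟩ = ⟨c, hcS⟩ * ⟨t, htS⟩ := Subtype.ext h1
    rw [← map_mul, ← map_mul, h2]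
  have hTCU : preimageAlong θ T' ⊔ centralizerIn S (preimageAlong θ T') ≤ (preimageAlong θ (T' ⊔ centralizerIn S' T')) := sup_le hTU hCU
  -- `b` on `T` covers `a'`
  have hbT : ∀ x : ↥(preimageAlong θ T'),
      θ ⟨((b ⟨x, hTU x.2⟩ : ↥(preimageAlong θ (T' ⊔ centralizerIn S' T'))) : Ω), hUS (b ⟨x, hTU x.2⟩).2⟩ =
        ((a' ⟨θ ⟨x, hTS x.2⟩, hθT x⟩ : T') : Ω') := by
    intro x
    obtain ⟨hx', e1⟩ := hbθ ⟨x, hTU x.2⟩
    rw [e1]
    have e2 := hb'T ⟨θ ⟨x, hTS x.2⟩, hθT x⟩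
    rw [← e2]
    rfl
  have hbTmem : ∀ x : ↥(preimageAlong θ (T' ⊔ centralizerIn S' T')), (x : Ω) ∈ preimageAlong θ T' → ((b x : ↥(preimageAlong θ (T' ⊔ centralizerIn S' T'))) : Ω) ∈ preimageAlong θ T' := by
    intro x hx
    rw [Fusion.mem_preimageAlong]
    refine ⟨hUS (b x).2, ?_⟩
    have h1 := hbT ⟨x, hx⟩
    have h2 : (⟨((b ⟨((⟨x, hx⟩ : ↥(preimageAlong θ T')) : Ω), hTU hx⟩ : ↥(preimageAlong θ (T' ⊔ centralizerIn S' T'))) : Ω), hUS (b ⟨_, hTU hx⟩).2⟩ : S)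
        = ⟨((b x : ↥(preimageAlong θ (T' ⊔ centralizerIn S' T'))) : Ω), hUS (b x).2⟩ := rfl
    rw [h2] at h1
    rw [h1]
    exact (a' _).2
  obtain ⟨a₁, ha₁, ha₁x⟩ := Fusion.exists_restrict_aut M hUS hTU b hb hbTmem
  -- `b` preserves `C_S(T)`
  have hbCmem : ∀ x : ↥(preimageAlong θ (T' ⊔ centralizerIn S' T')), (x : Ω) ∈ centralizerIn S (preimageAlong θ T') →
      ((b x : ↥(preimageAlong θ (T' ⊔ centralizerIn S' T'))) : Ω) ∈ centralizerIn S (preimageAlong θ T') := by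
    intro c hc
    refine Subgroup.mem_inf.mpr ⟨hUS (b c).2, ?_⟩
    intro t ht
    -- `t = b t₀`
    obtain ⟨t₀, ht₀⟩ := a₁.surjective ⟨t, ht⟩
    have h1 : t = ((b ⟨t₀, hTU t₀.2⟩ : ↥(preimageAlong θ (T' ⊔ centralizerIn S' T'))) : Ω) := by
      rw [← ha₁x t₀, ht₀]
    have h2 : (⟨(t₀ : Ω), hTU t₀.2⟩ : ↥(preimageAlong θ (T' ⊔ centralizerIn S' T'))) * c = c * ⟨(t₀ : Ω), hTU t₀.2⟩ :=
      Subtype.ext ((Subgroup.mem_inf.mp hc).2 t₀ t₀.2)
    rw [h1]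
    have h3 := congrArg (fun u : ↥(preimageAlong θ (T' ⊔ centralizerIn S' T')) => (u : Ω)) (congrArg b h2)
    simpa [map_mul] using h3
  have hbTCmem : ∀ x : ↥(preimageAlong θ (T' ⊔ centralizerIn S' T')), (x : Ω) ∈ preimageAlong θ T' ⊔ centralizerIn S (preimageAlong θ T') →
      ((b x : ↥(preimageAlong θ (T' ⊔ centralizerIn S' T'))) : Ω) ∈ preimageAlong θ T' ⊔ centralizerIn S (preimageAlong θ T') := by
    intro x hx
    have hle : preimageAlong θ T' ⊔ centralizerIn S (preimageAlong θ T') ≤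
        ((preimageAlong θ T' ⊔ centralizerIn S (preimageAlong θ T')).comap
          ((preimageAlong θ (T' ⊔ centralizerIn S' T')).subtype.comp b.toMonoidHom)).map (preimageAlong θ (T' ⊔ centralizerIn S' T')).subtype := by
      apply sup_le
      · intro y hy
        exact ⟨⟨y, hTU hy⟩, (le_sup_left : preimageAlong θ T' ≤ _) (hbTmem ⟨y, hTU hy⟩ hy), rfl⟩
      · intro y hy
        exact ⟨⟨y, hCU hy⟩, (le_sup_right : centralizerIn S (preimageAlong θ T') ≤ _)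
          (hbCmem ⟨y, hCU hy⟩ hy), rfl⟩
    obtain ⟨y, hy, hyx⟩ := hle hx
    have : y = x := Subtype.ext hyx
    rw [← this]
    exact hy
  have hfinTC : Finite ↥(preimageAlong θ T' ⊔ centralizerIn S (preimageAlong θ T')) :=
    Fusion.finite_of_le (hTCU.trans hUS)
  obtain ⟨b₁, hb₁, hb₁x⟩ := Fusion.exists_restrict_aut M hUS hTCU b hb hbTCmem
  -- `a₁` has a good extension
  have hExt₁ : ExtOK M (preimageAlong θ T') a₁ := by
    refine ⟨b₁, hb₁, fun x => ?_, fun c hc => ?_⟩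
    · rw [hb₁x, ha₁x]
      rfl
    · rw [hb₁x]
      have hcU : (c : Ω) ∈ (preimageAlong θ (T' ⊔ centralizerIn S' T')) := hTCU c.2
      have hbc := hbCmem ⟨c, hcU⟩ hc
      refine Subgroup.mem_inf.mpr ⟨?_, ?_⟩
      · -- in `T`
        rw [Fusion.mem_preimageAlong]
        have hcS : (c : Ω) ∈ S := hUS hcU
        have hbcS : ((b ⟨c, hcU⟩ : ↥(preimageAlong θ (T' ⊔ centralizerIn S' T'))) : Ω) ∈ S := hUS (b ⟨c, hcU⟩).2
        refine ⟨Subgroup.mul_mem _ (Subgroup.inv_mem _ hcS) hbcS, ?_⟩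
        have h1 : (⟨(c : Ω)⁻¹ * ((b ⟨c, hcU⟩ : ↥(preimageAlong θ (T' ⊔ centralizerIn S' T'))) : Ω), Subgroup.mul_mem _ (Subgroup.inv_mem _ hcS) hbcS⟩ : S)
            = ⟨c, hcS⟩⁻¹ * ⟨((b ⟨c, hcU⟩ : ↥(preimageAlong θ (T' ⊔ centralizerIn S' T'))) : Ω), hbcS⟩ := rfl
        rw [h1, map_mul, map_inv]
        obtain ⟨hx', e1⟩ := hbθ ⟨c, hcU⟩
        rw [e1]
        have hc' : θ ⟨c, hcS⟩ ∈ centralizerIn S' T' := by
          refine Subgroup.mem_inf.mpr ⟨hθS' _, ?_⟩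
          intro y hy
          rw [← himgT] at hy
          obtain ⟨t, ht, htS, rfl⟩ := (Fusion.mem_imageAlong θ _ y).mp hy
          have h2 : t * c = c * t := (Subgroup.mem_inf.mp hc).2 t ht
          have h3 : (⟨t, htS⟩ : S) * ⟨c, hcS⟩ = ⟨c, hcS⟩ * ⟨t, htS⟩ := Subtype.ext h2
          rw [← map_mul, ← map_mul, h3]
        have h4 := hb'C ⟨θ ⟨c, hcS⟩, hx'⟩ hc'
        exact (Subgroup.mem_inf.mp h4).1
      · -- centralizes `T`
        intro t ht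
        have h1 := (Subgroup.mem_inf.mp hc).2 t ht
        have h2 := (Subgroup.mem_inf.mp hbc).2 t ht
        have h1' : t * (c : Ω)⁻¹ = (c : Ω)⁻¹ * t := by
          have : (c : Ω)⁻¹ * (t * (c : Ω)) * (c : Ω)⁻¹ = (c : Ω)⁻¹ * ((c : Ω) * t) * (c : Ω)⁻¹ := by
            rw [h1]
          calc t * (c : Ω)⁻¹ = (c : Ω)⁻¹ * ((c : Ω) * t) * (c : Ω)⁻¹ := by group
            _ = (c : Ω)⁻¹ * (t * (c : Ω)) * (c : Ω)⁻¹ := by rw [h1]
            _ = (c : Ω)⁻¹ * t := by group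
        calc t * ((c : Ω)⁻¹ * ((b ⟨c, hcU⟩ : ↥(preimageAlong θ (T' ⊔ centralizerIn S' T'))) : Ω)) = (t * (c : Ω)⁻¹) * ((b ⟨c, hcU⟩ : ↥(preimageAlong θ (T' ⊔ centralizerIn S' T'))) : Ω) := by
              group
          _ = (c : Ω)⁻¹ * (t * ((b ⟨c, hcU⟩ : ↥(preimageAlong θ (T' ⊔ centralizerIn S' T'))) : Ω)) := by rw [h1']; group
          _ = (c : Ω)⁻¹ * (((b ⟨c, hcU⟩ : ↥(preimageAlong θ (T' ⊔ centralizerIn S' T'))) : Ω) * t) := by rw [h2]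
          _ = (c : Ω)⁻¹ * ((b ⟨c, hcU⟩ : ↥(preimageAlong θ (T' ⊔ centralizerIn S' T'))) : Ω) * t := by group
  -- `a⁻¹ a₁` is trivial modulo `Z`, hence induced by `S`
  have hk₀A : a⁻¹ * a₁ ∈ M.autGroup (preimageAlong θ T') :=
    Subgroup.mul_mem _ (Subgroup.inv_mem _ ha) ha₁
  have hk₀K : GflK Z (preimageAlong θ T') (a⁻¹ * a₁) := by
    intro x
    set y : ↥(preimageAlong θ T') := (a⁻¹ * a₁) x with hy
    have hay : a y = a₁ x := by
      rw [hy, MulAut.mul_apply, MulAut.apply_inv_self]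
    have e1 := haa' y
    have e2 := hbT x
    have e3 : (⟨((b ⟨x, hTU x.2⟩ : ↥(preimageAlong θ (T' ⊔ centralizerIn S' T'))) : Ω), hUS (b ⟨x, hTU x.2⟩).2⟩ : S) =
        ⟨((a y : ↥(preimageAlong θ T')) : Ω), hTS (a y).2⟩ := by
      apply Subtype.ext
      show ((b ⟨x, hTU x.2⟩ : ↥(preimageAlong θ (T' ⊔ centralizerIn S' T'))) : Ω) = ((a y : ↥(preimageAlong θ T')) : Ω)
      rw [hay, ha₁x]
    rw [e3, ← e1] at e2
    have e4 : (⟨θ ⟨y, hTS y.2⟩, hθT y⟩ : T') = ⟨θ ⟨x, hTS x.2⟩, hθT x⟩ :=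
      a'.injective (Subtype.ext e2)
    have e5 : θ ⟨y, hTS y.2⟩ = θ ⟨x, hTS x.2⟩ := congrArg Subtype.val e4
    have e6 : θ (⟨x, hTS x.2⟩⁻¹ * ⟨y, hTS y.2⟩) = 1 := by
      rw [map_mul, map_inv, e5, inv_mul_cancel]
    exact (h.fac.2.1 _).mp e6
  have hfn : M.IsFullyNormalized (preimageAlong θ T') := by
    have hW := Fusion.weaklyClosed_of_stronglyClosed M (gfl_stronglyClosed h)
    refine ⟨hW.1, ?_⟩
    rintro Q' ⟨φ, hφ, hr⟩
    rw [← hr, hW.2 φ hφ]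
  have hk₀S : a⁻¹ * a₁ ∈ autInducedBy S (preimageAlong θ T') :=
    gfl_K_le_autS h (gfl_Z_le_T h) hfn hk₀A hk₀K
  have hak : a * (a⁻¹ * a₁) ∈ extSub M (preimageAlong θ T') hTS := by
    rw [mul_inv_cancel_left]
    exact hExt₁
  exact gfl_nrm_mem_of_mul_mem (extSub M (preimageAlong θ T') hTS)
    (autInducedBy S (preimageAlong θ T')) (gfl_nrm_autS_le_normalizer M hTS)
    (Fusion.isPGroup_autInducedBy p h.hS _) hk₀S hak hcop

/-- Every element of `A(T)` has a good extension. -/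
theorem gfl_nrm_A_le_extSub [Finite S] [Fact p.Prime] (h : GflSetup p M Z θ Mb Nb) :
    haveI : Finite ↥(preimageAlong θ T') := Fusion.finite_of_le (gfl_T_le θ T')
    gflA p M θ Nb (preimageAlong θ T') ≤ extSub M (preimageAlong θ T') (gfl_T_le θ T') := by
  unfold gflA
  rw [Subgroup.closure_le]
  rintro α (⟨hα, hαB, hcop⟩ | ⟨φ, hφ, t, ht, hα⟩)
  · exact gfl_nrm_extOK_gen h hα hαB hcop
  · exact gfl_nrm_extOK_gen_inner h hφ ht hα

/-- **The lift is normal in `M`.** -/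
theorem gfl_N_isNormalIn [Finite S] [Fact p.Prime] (h : GflSetup p M Z θ Mb Nb) :
    (gflN p M Z θ Nb).IsNormalIn M p := by
  refine ⟨gfl_N_isWeaklyNormalIn h, fun α hα => ?_⟩
  rw [gfl_G h (gfl_T_mem_H h)] at hα
  exact gfl_nrm_A_le_extSub h hα

end Cfsg.Agent.GFS
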