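import Mathlib
import Cfsg.Agent.GFS.LiftNormal

set_option autoImplicit false

/-!
# Lifting a normal subsystem through a central quotient (N2): the main theorem

`M` saturated over `S`, `Z` central in `M`, `Mb` the factor system of `M` modulo `Z` read through
`θ`, `Nb` a normal subsystem of `Mb` over `T'`: there is a normal subsystem of `M` over the full
preimage of `T'` all of whose maps induce maps of `Nb`.
-/

namespace Cfsg.Agent.GFS

open Cfsg Cfsg.FusionSystem Cfsg.Agent.Lead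

universe u v

variable {Ω : Type u} [Group Ω] {S : Subgroup Ω} {Ω' : Type v} [Group Ω'] {S' T' : Subgroup Ω'}

/-- **N2.** A normal subsystem of the factor system modulo a central subgroup lifts to a normal
subsystem over the full preimage. -/
theorem gfl_main [Finite S] (p : ℕ) [Fact p.Prime] {M : FusionSystem S} {Z : Subgroup Ω} {θ : S →* Ω'}
    {Mb : FusionSystem S'} {Nb : FusionSystem T'} (hS : IsPGroup p S) (hM : M.IsSaturated p)
    (hZ : Z ≤ M.center) (hfac : M.IsFactorSystem Z θ Mb) (hN : Nb.IsNormalIn Mb p) :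
    ∃ N : FusionSystem (preimageAlong θ T'), N.IsNormalIn M p ∧
      ∀ (P : Subgroup Ω) (φ : P →* Ω), φ ∈ N.Hom P →
        ∃ φ' ∈ Nb.Hom (imageAlong θ P), InducedAlong θ φ φ' :=
  ⟨gflN p M Z θ Nb, gfl_N_isNormalIn ⟨hS, hM, hZ, hfac, hN⟩,
    fun _ _ hφ => gfl_N_induced ⟨hS, hM, hZ, hfac, hN⟩ hφ⟩

/-- N2, weak form (does not use the extension condition). -/
theorem gfl_weak [Finite S] (p : ℕ) [Fact p.Prime] {M : FusionSystem S} {Z : Subgroup Ω} {θ : S →* Ω'}
    {Mb : FusionSystem S'} {Nb : FusionSystem T'} (hS : IsPGroup p S) (hM : M.IsSaturated p)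
    (hZ : Z ≤ M.center) (hfac : M.IsFactorSystem Z θ Mb) (hN : Nb.IsNormalIn Mb p) :
    ∃ N : FusionSystem (preimageAlong θ T'), N.IsWeaklyNormalIn M p ∧
      ∀ (P : Subgroup Ω) (φ : P →* Ω), φ ∈ N.Hom P →
        ∃ φ' ∈ Nb.Hom (imageAlong θ P), InducedAlong θ φ φ' :=
  ⟨gflN p M Z θ Nb, gfl_N_isWeaklyNormalIn ⟨hS, hM, hZ, hfac, hN⟩,
    fun _ _ hφ => gfl_N_induced ⟨hS, hM, hZ, hfac, hN⟩ hφ⟩

end Cfsg.Agent.GFS
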