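import Mathlib
import Cfsg.Prelude.Def_FusionComponents
import Cfsg.Agent.Lead.Fusion
import Cfsg.Agent.Lead.FusionAlperin
import Cfsg.Agent.Lead.FusionInvariant
import Cfsg.Agent.Lead.FusionNormal
import Cfsg.Agent.S5097
import Cfsg.Agent.CPS.CentA
import Cfsg.Agent.CPS.PPrime

/-!
# S5146, top chain, part B: the centre of a saturated subsystem

`Z(F) ∩ T ≤ Z(E)` for every saturated subsystem `E` of `F` over `T` (Alperin in `E` against the
centralizer system of `Z(F) ∩ T` in `E`).
-/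

set_option autoImplicit false

namespace Cfsg.Agent.GFS

open Cfsg Cfsg.FusionSystem Cfsg.Agent.Lead Cfsg.Agent.CPS

variable {Ω : Type*} [Group Ω] {S T : Subgroup Ω}

/-- `Z(F) ∩ T` is central in every saturated subsystem `E` of `F` over `T`. -/
theorem gfs_top_isCentral_center_inf [Finite S] (p : ℕ) [Fact p.Prime] (hS : IsPGroup p S)
    (F : FusionSystem S) (hTS : T ≤ S) (E : FusionSystem T) (hE : E.IsSaturated p)
    (hEF : E.IsSubsystemOf F) : E.IsCentral (F.center ⊓ T) := by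
  have hfinT : Finite T := Fusion.finite_of_le hTS
  have hT : IsPGroup p T := hS.to_le hTS
  set Z₀ := F.center ⊓ T with hZ₀
  have hZ₀T : Z₀ ≤ T := inf_le_right
  have hZ₀c : Z₀ ≤ Subgroup.centralizer (T : Set Ω) := fun z hz =>
    Subgroup.centralizer_le hTS (F.center_le_centralizer hz.1)
  have hTZ : T ≤ Subgroup.centralizer (Z₀ : Set Ω) := Subgroup.le_centralizer_iff.mp hZ₀c
  have hcent : centralizerIn T Z₀ = T := inf_eq_left.mpr hTZ
  obtain ⟨D', hD'hom, -⟩ := cps_pp_cast hcent (Cfsg.Agent.S5097.centSys E Z₀ hZ₀T) p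
  have hle : E ≤ D' := by
    apply Fusion.alperin p hT E hE D'
    intro P hP α hα
    have hPT : P ≤ T := by
      rcases hP with rfl | hP
      · exact le_rfl
      · exact hP.1.1
    have hZP : Z₀ ≤ P := by
      rcases hP with rfl | hP
      · exact hZ₀T
      · intro z hz
        apply hP.1.2 P (Fusion.isConj_refl E hPT)
        refine Subgroup.mem_inf.mpr ⟨hZ₀T hz, ?_⟩
        exact Subgroup.centralizer_le hPT (hZ₀c hz)
    have ha := (Fusion.mem_autGroup_iff E hPT α).mp hα
    rw [Fusion.mem_autGroup_iff D' hPT, hD'hom]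
    refine ⟨ha, ?_, ?_, ?_⟩
    · rw [hcent]; exact hPT
    · intro x; rw [hcent]; exact hPT (α x).2
    · have heq : P = P ⊔ Z₀ := (sup_eq_left.mpr hZP).symm
      obtain ⟨ψ, hψ, hψv⟩ := Fusion.exists_hom_of_eq E heq ha
      refine ⟨ψ, hψ, fun x => ?_, fun z => ?_⟩
      · exact hψv x.1 x.2 _
      · have hzP : (z : Ω) ∈ P := hZP z.2
        have h1 := hψv z.1 hzP (le_sup_right (a := P) z.2)
        have h2 := cps_cent_map_center F (hEF P ha) ⟨z.1, hzP⟩ z.2.1
        exact h1.trans h2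
  refine ⟨hZ₀T, fun P φ hφ => ?_⟩
  have h1 := hle P hφ
  rw [hD'hom] at h1
  exact h1.2.2.2

/-- `Z(F) ∩ T ≤ Z(E)` for a saturated subsystem `E` of `F` over `T`. -/
theorem gfs_top_center_inf_le [Finite S] (p : ℕ) [Fact p.Prime] (hS : IsPGroup p S)
    (F : FusionSystem S) (hTS : T ≤ S) (E : FusionSystem T) (hE : E.IsSaturated p)
    (hEF : E.IsSubsystemOf F) : F.center ⊓ T ≤ E.center :=
  le_sSup (gfs_top_isCentral_center_inf p hS F hTS E hE hEF)

end Cfsg.Agent.GFS
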