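import Mathlib
import Cfsg.Prelude.Def_FusionComponents
import Cfsg.Agent.Lead.Fusion
import Cfsg.Agent.Lead.FusionFocal
import Cfsg.Agent.Lead.FusionInner
import Cfsg.Agent.Lead.FusionInnerSat
import Cfsg.Agent.GFS.TopA
import Cfsg.Agent.GFS.TopB
import Cfsg.Agent.GFS.TopC
import Cfsg.Agent.COP.Basic
import Cfsg.Agent.S5113
import Cfsg.Agent.S5120
import Cfsg.Agent.S5124

/-!
# S5146, top chain, part D: the minimal subnormal system `R`; `hyp(R) = T`

`GfsTopMin p D R`: `D` saturated over the finite `p`-group `U` with `O_p(D) ≤ Z(D)`; `R` subnormal in `D` over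
`T`, `T ≰ Z(D)`, `|T|` minimal with this property among the subnormal systems of `D`, and every system normal in
`R` over `T` has the same maps as `R`.
-/

set_option autoImplicit false

namespace Cfsg.Agent.GFS

open Cfsg Cfsg.FusionSystem Cfsg.Agent.Lead

variable {Ω : Type*} [Group Ω]

/-- The minimal configuration. -/
structure GfsTopMin (p : ℕ) {U T : Subgroup Ω} (D : FusionSystem U) (R : FusionSystem T) : Prop where
  pgroup : IsPGroup p U
  sat : D.IsSaturated p
  core_le : D.core ≤ D.center
  sub : R.IsSubnormalIn D p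
  not_le : ¬ T ≤ D.center
  min : ∀ (T' : Subgroup Ω) (M' : FusionSystem T'), M'.IsSubnormalIn D p → ¬ T' ≤ D.center →
    Nat.card T ≤ Nat.card T'
  res : ∀ N : FusionSystem T, N.IsNormalIn R p → ∀ P : Subgroup Ω, N.Hom P = R.Hom P

/-- Facts about a subnormal system `M` of `D`. -/
theorem gfs_top_sub_facts {U T' : Subgroup Ω} [Finite U] (p : ℕ) [Fact p.Prime] {D : FusionSystem U}
    (hU : IsPGroup p U) (hD : D.IsSaturated p) (hcore : D.core ≤ D.center) {M : FusionSystem T'}
    (hM : M.IsSubnormalIn D p) :
    T' ≤ U ∧ M.IsSaturated p ∧ M.core ≤ D.center ∧ D.center ⊓ T' ≤ M.center := by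
  have hTU : T' ≤ U := Fusion.le_of_isSubnormalIn hM
  have hMs := gfs_top_saturated_of_subnormal hM hD
  refine ⟨hTU, hMs, ?_, ?_⟩
  · exact (gfs_core_le_of_isSubnormalIn hM hU hD).trans hcore
  · exact gfs_top_center_inf_le p hU D hTU M hMs (gfs_top_subsystem_of_subnormal hM)

/-- A strongly closed subgroup is normal in the group of the system. -/
theorem gfs_top_normal_of_stronglyClosed {T : Subgroup Ω} (R : FusionSystem T) {H : Subgroup Ω}
    (hH : R.StronglyClosed H) : (H.subgroupOf T).Normal := by
  constructor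
  intro n hn g
  rw [Subgroup.mem_subgroupOf] at hn ⊢
  have h1 := R.conj_mem (P := H) (g := (g : Ω)) hH.1 g.2
  have h2 := hH.2 H le_rfl _ h1 ⟨n.1, hn⟩
  simpa [conjHom] using h2

namespace GfsTopMin

variable {U T : Subgroup Ω} {p : ℕ} {D : FusionSystem U} {R : FusionSystem T}

theorem le (h : GfsTopMin p D R) : T ≤ U := Fusion.le_of_isSubnormalIn h.sub

theorem satR (h : GfsTopMin p D R) : R.IsSaturated p := gfs_top_saturated_of_subnormal h.sub h.sat

theorem pgroupT (h : GfsTopMin p D R) : IsPGroup p T := h.pgroup.to_le h.le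

/-- `Z(D) ∩ T ≤ Z(R)`. -/
theorem center_inf_le [Finite U] [Fact p.Prime] (h : GfsTopMin p D R) : D.center ⊓ T ≤ R.center :=
  (gfs_top_sub_facts p h.pgroup h.sat h.core_le h.sub).2.2.2

/-- `O_p(R) ≤ Z(D)`. -/
theorem core_le_center [Finite U] [Fact p.Prime] (h : GfsTopMin p D R) : R.core ≤ D.center :=
  (gfs_top_sub_facts p h.pgroup h.sat h.core_le h.sub).2.2.1

/-- `T ≰ Z(R)`. -/
theorem not_le_centerR [Finite U] [Fact p.Prime] (h : GfsTopMin p D R) : ¬ T ≤ R.center := by
  intro hle
  have : Finite T := Fusion.finite_of_le h.le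
  exact h.not_le ((hle.trans (gfs_top_center_le_core R)).trans h.core_le_center)

/-- A subgroup of `T` carrying a subnormal system of `D` is `T` or lies in `Z(R)`. -/
theorem eq_or_le_center [Finite U] [Fact p.Prime] (h : GfsTopMin p D R) {T' : Subgroup Ω}
    (hT' : T' ≤ T) (M' : FusionSystem T') (hM' : M'.IsSubnormalIn D p) :
    T' = T ∨ T' ≤ R.center := by
  have : Finite T := Fusion.finite_of_le h.le
  by_cases hc : T' ≤ D.center
  · exact Or.inr ((le_inf hc hT').trans h.center_inf_le)
  · left
    exact Subgroup.eq_of_le_of_card_ge hT' (h.min T' M' hM' hc)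

/-- In the minimal configuration `hyp(R) = T`. -/
theorem hyperfocal_eq [Finite U] [Fact p.Prime] (h : GfsTopMin p D R) :
    R.hyperfocalSubgroup p = T := by
  have hfinT : Finite T := Fusion.finite_of_le h.le
  have hT := h.pgroupT
  have hRs := h.satR
  have hHT : R.hyperfocalSubgroup p ≤ T := Fusion.hyperfocal_le R p
  have hsc := Cfsg.Agent.S5124.result p hT R hRs
  have hn := gfs_top_normal_of_stronglyClosed R hsc
  obtain ⟨E, ⟨hEs, hEi⟩, -⟩ := Cfsg.Agent.S5113.result p hT R hRs _ hHT le_rfl
  have hEn := Cfsg.Agent.S5120.result p hT R hRs _ hHT hn le_rfl E hEs hEi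
  have hEsub := gfs_top_subnormal_of_normal h.sub hEn
  rcases h.eq_or_le_center hHT E hEsub with heq | hle
  · exact heq
  · exfalso
    -- all automizers are `p`-groups
    have hpg : ∀ P : Subgroup Ω, P ≤ T → IsPGroup p (R.autGroup P) := by
      intro P hPT
      have hfinP : Finite P := Fusion.finite_of_le (hPT.trans h.le)
      have hPp : IsPGroup p P := hT.to_le hPT
      -- `p'`-elements are trivial
      have key : ∀ α : R.autGroup P, (orderOf α).Coprime p → α = 1 := by
        intro α hα
        have hαres : α ∈ pResidual p (R.autGroup P) := Subgroup.subset_closure hα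
        have hα' : (orderOf (α : MulAut P)).Coprime p := by
          rwa [Subgroup.orderOf_coe]
        apply Subtype.ext
        ext d
        have := Cfsg.Agent.COP.cop_coprime_trivial p (α : MulAut P) hα' ⊤
          ((R.center).subgroupOf P)
          (fun z _ => by
            obtain ⟨k, hk⟩ := (IsPGroup.iff_orderOf.mp hPp) z
            exact ⟨k, hk⟩)
          (fun d _ => by
            rw [Subgroup.mem_subgroupOf]
            have h1 := Fusion.mem_hyperfocal R p hPT α hαres d
            have h2 := hle h1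
            simpa using h2)
          (fun z hz => by
            rw [Subgroup.mem_subgroupOf] at hz
            exact Cfsg.Agent.CPS.cps_cent_aut_center R hPT (α : MulAut P) α.2 z hz)
          d (Subgroup.mem_top d)
        rw [this]
        rfl
      intro α
      have hpos : orderOf α ≠ 0 := (orderOf_pos α).ne'
      obtain ⟨a, m, hm, hfac⟩ :=
        Nat.exists_eq_pow_mul_and_not_dvd hpos p (Fact.out : p.Prime).ne_one
      refine ⟨a, ?_⟩
      apply key
      have h1 : orderOf (α ^ p ^ a) = m := by
        rw [orderOf_pow' α (pow_ne_zero a (Fact.out : p.Prime).ne_zero), hfac,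
          Nat.gcd_eq_right (Dvd.intro _ rfl), Nat.mul_div_cancel_left _ (pow_pos (Fact.out : p.Prime).pos a)]
      rw [h1, Nat.coprime_comm]
      exact (Nat.Prime.coprime_iff_not_dvd (Fact.out : p.Prime)).mpr hm
    have hRi := Fusion.eq_inner_of_autGroup_isPGroup p hT R hRs hpg
    have hwn := gfs_top_weaklyNormal_self p hT R hRs
    have hnT : R.IsNormal T := by
      rw [Fusion.isNormal_iff_inner_weaklyNormal p hT R hRs T le_rfl]
      have h2 : (innerFusionSystem T).IsWeaklyNormalIn R p := by
        have h3 : R.IsWeaklyNormalIn R p = (innerFusionSystem T).IsWeaklyNormalIn R p := by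
          congr 1
        rw [← h3]; exact hwn
      exact h2
    have hTc : T ≤ R.core := le_sSup (show T ∈ {Q : Subgroup Ω | R.IsNormal Q} from hnT)
    exact h.not_le (hTc.trans h.core_le_center)

end GfsTopMin

end Cfsg.Agent.GFS
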