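import Mathlib
import Cfsg.Prelude.Def_FusionComponents
import Cfsg.Agent.Lead.Fusion
import Cfsg.Agent.Lead.FusionFactor
import Cfsg.Agent.Lead.FusionMorph
import Cfsg.Agent.Lead.FusionQuasi
import Cfsg.Agent.Lead.FusionInvariant
import Cfsg.Agent.GFS.TopD
import Cfsg.Agent.GFS.LiftMain
import Cfsg.Agent.S5133
import Cfsg.Agent.S5134
import Cfsg.Agent.S5141

/-!
# S5146, top chain, part E: in the minimal configuration `R / Z(R)` is simple, `R` is quasisimple
-/

set_option autoImplicit false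

namespace Cfsg.Agent.GFS

open Cfsg Cfsg.FusionSystem Cfsg.Agent.Lead

variable {Ω : Type*} [Group Ω]

/-- Transport of a normal subsystem along an equality of the underlying groups. -/
theorem gfs_top_cast_normal {T₁ T₂ T : Subgroup Ω} (h : T₁ = T₂) {p : ℕ} {R : FusionSystem T}
    (N : FusionSystem T₁) (hN : N.IsNormalIn R p) :
    ∃ N' : FusionSystem T₂, N'.IsNormalIn R p ∧ ∀ P : Subgroup Ω, N'.Hom P = N.Hom P := by
  subst h
  exact ⟨N, hN, fun _ => rfl⟩

namespace GfsTopMin

variable {U T : Subgroup Ω} {p : ℕ} {D : FusionSystem U} {R : FusionSystem T}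

/-- In the minimal configuration, every factor system of `R` modulo its centre is simple. -/
theorem quot_simple [Finite U] [Fact p.Prime] (h : GfsTopMin p D R)
    (Rb : FusionSystem (⊤ : Subgroup (T ⧸ (R.center).subgroupOf T)))
    (hfac : R.IsFactorSystem R.center (QuotientGroup.mk' ((R.center).subgroupOf T)) Rb) :
    Rb.IsSimple p := by
  have hfinT : Finite T := Fusion.finite_of_le h.le
  have hT := h.pgroupT
  have hRs := h.satR
  set θ := QuotientGroup.mk' ((R.center).subgroupOf T) with hθ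
  have hsurjθ : Function.Surjective θ := QuotientGroup.mk'_surjective _
  have hker : ∀ s : T, θ s = 1 ↔ (s : Ω) ∈ R.center := hfac.2.1
  have hrange : θ.range = ⊤ := hfac.2.2.1
  have hZsc := Fusion.center_stronglyClosed p hT R hRs
  have hsm := Cfsg.Agent.S5134.result p hT R hRs R.center hZsc θ Rb hfac
  have hRbs : Rb.IsSaturated p := Cfsg.Agent.S5133.result p hT R hRs Rb θ hsm
  refine ⟨hRbs, ?_, ?_⟩
  · -- the quotient group is not trivial
    intro htop
    apply h.not_le_centerR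
    intro t ht
    have h1 : θ ⟨t, ht⟩ ∈ (⊤ : Subgroup (T ⧸ (R.center).subgroupOf T)) := Subgroup.mem_top _
    rw [htop, Subgroup.mem_bot] at h1
    exact (hker ⟨t, ht⟩).mp h1
  · intro T' Nb hNb
    have hT'le : T' ≤ ⊤ := le_top
    obtain ⟨N, hNwn, hNind⟩ := gfl_weak p hT hRs le_rfl hfac hNb
    have hTN : preimageAlong θ T' ≤ T := Fusion.preimageAlong_le θ T'
    have hfinTN : Finite ↥(preimageAlong θ T') := Fusion.finite_of_le (hTN.trans h.le)
    have hTNp : IsPGroup p ↥(preimageAlong θ T') := hT.to_le hTN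
    obtain ⟨N', hN'⟩ := Cfsg.Agent.Helper2.PPrimeRes.exists_isPPrimeResidual p hTNp N hNwn.1
    have hN'n : N'.IsNormalIn R p := Cfsg.Agent.S5141.result p hT R hRs N hNwn N' hN'
    have hN'sub := gfs_top_subnormal_of_normal h.sub hN'n
    rcases h.eq_or_le_center hTN N' hN'sub with heq | hle
    · -- `T_N = T`: the whole system
      right
      have hT'top : T' = ⊤ := by
        rw [eq_top_iff]
        intro y _
        obtain ⟨t, rfl⟩ := hsurjθ y
        have ht : (t : Ω) ∈ preimageAlong θ T' := by rw [heq]; exact t.2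
        obtain ⟨hs, h1⟩ := (Fusion.mem_preimageAlong θ T' _).mp ht
        exact h1
      refine ⟨hT'top, fun Pb => ?_⟩
      obtain ⟨N'', hN''n, hN''hom⟩ := gfs_top_cast_normal heq N' hN'n
      have hRN : ∀ P : Subgroup Ω, R.Hom P ⊆ N.Hom P := by
        intro P φ hφ
        rw [← h.res N'' hN''n P, hN''hom P] at hφ
        exact hN'.2.1.1 P hφ
      apply Set.Subset.antisymm (hNb.1.2.2.1 Pb)
      intro φb hφb
      obtain ⟨hPb, φ, hφ, hind⟩ := (hfac.2.2.2 Pb φb).mp hφb
      obtain ⟨φ', hφ', hind'⟩ := hNind _ φ (hRN _ hφ)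
      have himg : imageAlong θ (preimageAlong θ Pb) = Pb :=
        Fusion.imageAlong_preimageAlong θ hrange hPb
      obtain ⟨χ, hχ, hχv⟩ := Fusion.exists_hom_of_eq Nb himg hφ'
      have hχeq : χ = φb := by
        ext y
        obtain ⟨hP1, hφ1, hP'1, hv1⟩ := hind
        obtain ⟨hP2, hφ2, hP'2, hv2⟩ := hind'
        have hy : (y : T ⧸ (R.center).subgroupOf T) ∈ imageAlong θ (preimageAlong θ Pb) := by
          rw [himg]; exact y.2
        obtain ⟨x, hx, hxS, hxy⟩ := (Fusion.mem_imageAlong θ _ _).mp hy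
        have e1 : χ y = φ' ⟨θ ⟨x, hxS⟩, hP'2 ⟨x, hx⟩⟩ := by
          rw [← hχv (θ ⟨x, hxS⟩) (hP'2 ⟨x, hx⟩) (hP'1 ⟨x, hx⟩)]
          congr 1
          exact Subtype.ext hxy.symm
        have e2 : φb y = φb ⟨θ ⟨x, hxS⟩, hP'1 ⟨x, hx⟩⟩ := by
          congr 1
          exact Subtype.ext hxy.symm
        rw [e1, e2, hv1 ⟨x, hx⟩, hv2 ⟨x, hx⟩]
      rw [← hχeq]
      exact hχ
    · -- `T_N ≤ Z(R)`: the trivial group
      left
      rw [eq_bot_iff]
      intro y hy
      obtain ⟨t, rfl⟩ := hsurjθ y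
      have ht : (t : Ω) ∈ preimageAlong θ T' :=
        (Fusion.mem_preimageAlong θ T' _).mpr ⟨t.2, hy⟩
      rw [Subgroup.mem_bot]
      exact (hker t).mpr (hle ht)

/-- In the minimal configuration `R` is quasisimple. -/
theorem quasisimple [Finite U] [Fact p.Prime] (h : GfsTopMin p D R) : R.Quasisimple p :=
  ⟨h.satR, h.hyperfocal_eq, fun Rb hfac => h.quot_simple Rb hfac⟩

end GfsTopMin

end Cfsg.Agent.GFS
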