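import Mathlib
import Cfsg.Prelude.Def_FusionComponents
import Cfsg.Agent.Lead.Fusion
import Cfsg.Agent.Lead.FusionConstrSub
import Cfsg.Agent.Lead.FusionQuasi
import Cfsg.Agent.COP.QsCentral
import Cfsg.Agent.GFS.TopE

/-!
# S5146, top chain, part F: assembly

A saturated fusion system is constrained if and only if it has no component.
-/

set_option autoImplicit false

namespace Cfsg.Agent.GFS

open Cfsg Cfsg.FusionSystem Cfsg.Agent.Lead

variable {Ω : Type*} [Group Ω] {S : Subgroup Ω}

/-- A constrained system has no component. -/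
theorem gfs_top_no_component_of_constrained [Finite S] (p : ℕ) [Fact p.Prime] (hS : IsPGroup p S)
    (F : FusionSystem S) (hc : F.IsConstrained p) {T : Subgroup Ω} (C : FusionSystem T)
    (hC : C.IsComponentIn F p) : False := by
  obtain ⟨hsub, hq⟩ := hC
  have hTS : T ≤ S := Fusion.le_of_isSubnormalIn hsub
  have hfinT : Finite T := Fusion.finite_of_le hTS
  have hT : IsPGroup p T := hS.to_le hTS
  have hCc : C.IsConstrained p :=
    Fusion.isConstrained_of_isSubnormalIn p C F hsub inferInstance inferInstance hS hc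
  obtain ⟨-, Q, hQn, hQc⟩ := hCc
  have hQZ : Q ≤ C.center := Cfsg.Agent.COP.cop_normal_le_center_of_quasisimple p hT C hq Q hQn
  have hZc : C.center ≤ Subgroup.centralizer (T : Set Ω) := C.center_le_centralizer
  have h1 : centralizerIn T Q ≤ Q := hQc.2 Q (Fusion.isConj_refl C hQc.1)
  have h2 : T ≤ centralizerIn T Q := by
    intro t ht
    refine Subgroup.mem_inf.mpr ⟨ht, ?_⟩
    rw [Subgroup.mem_centralizer_iff]
    intro q hq'
    exact (Subgroup.mem_centralizer_iff.mp (hZc (hQZ hq')) t ht).symm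
  have hTc : T ≤ Subgroup.centralizer (T : Set Ω) := (h2.trans h1).trans (hQZ.trans hZc)
  apply Fusion.not_commutative_of_quasisimple p hT C hq
  exact ⟨⟨fun a b => Subtype.ext
    ((Subgroup.mem_centralizer_iff.mp (hTc b.2) a a.2))⟩⟩

/-- A saturated system that is not constrained has a component. -/
theorem gfs_top_exists_component [Finite S] (p : ℕ) [Fact p.Prime] (hS : IsPGroup p S)
    (F : FusionSystem S) (hF : F.IsSaturated p) (hnc : ¬ F.IsConstrained p) :
    ∃ (T : Subgroup Ω) (C : FusionSystem T), C.IsComponentIn F p := by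
  classical
  have hQ := Fusion.core_isNormal F
  obtain ⟨D, hDdef⟩ : ∃ D : FusionSystem (centralizerIn S F.core),
      D = Cfsg.Agent.S5097.centSys F F.core hQ.1 := ⟨_, rfl⟩
  have hDn : D.IsNormalIn F p := by
    rw [hDdef]
    exact Cfsg.Agent.COP.cop_centralizer_isNormalIn p hS F hF hQ _ (fun _ => rfl)
  have hDs : D.IsSaturated p := hDn.1.1
  have hUS : centralizerIn S F.core ≤ S := inf_le_left
  have hfinU : Finite ↥(centralizerIn S F.core) := Fusion.finite_of_le hUS
  have hU : IsPGroup p ↥(centralizerIn S F.core) := hS.to_le hUS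
  have hcore : D.core ≤ D.center := by
    rw [hDdef]; exact gfs_top_cent_core_le_center p hS F hF
  have hnot : ¬ centralizerIn S F.core ≤ D.center := by
    rw [hDdef]; exact gfs_top_cent_not_le_center p hS F hF hnc
  -- the minimal pair
  have hex : ∃ n : ℕ, ∃ (T' : Subgroup Ω) (M' : FusionSystem T'),
      M'.IsSubnormalIn D p ∧ ¬ T' ≤ D.center ∧ Nat.card T' = n :=
    ⟨_, _, D, IsSubnormalIn.refl D p, hnot, rfl⟩
  obtain ⟨T₀, M₀, hM₀sub, hM₀not, hM₀card⟩ := Nat.find_spec hex
  have hmin : ∀ (T' : Subgroup Ω) (M' : FusionSystem T'), M'.IsSubnormalIn D p →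
      ¬ T' ≤ D.center → Nat.card T₀ ≤ Nat.card T' := by
    intro T' M' hM' hT'
    rw [hM₀card]
    exact Nat.find_min' hex ⟨T', M', hM', hT', rfl⟩
  obtain ⟨hT₀U, hM₀s, -, -⟩ := gfs_top_sub_facts p hU hDs hcore hM₀sub
  have hfinT₀ : Finite T₀ := Fusion.finite_of_le (hT₀U.trans hUS)
  have hT₀ : IsPGroup p T₀ := hU.to_le hT₀U
  obtain ⟨R, hRn, hres⟩ := gfs_top_residual p hT₀ M₀ hM₀s
  have hRsub : R.IsSubnormalIn D p := gfs_top_subnormal_of_normal hM₀sub hRn
  have hmin' : GfsTopMin p D R := ⟨hU, hDs, hcore, hRsub, hM₀not, hmin, hres⟩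
  exact ⟨T₀, R, IsSubnormalIn.step hRsub hDn, hmin'.quasisimple⟩

/-- **S5146.** A saturated fusion system is constrained iff it has no component. -/
theorem gfs_top_main [Finite S] (p : ℕ) [Fact p.Prime] (hS : IsPGroup p S)
    (F : FusionSystem S) (hF : F.IsSaturated p) :
    F.IsConstrained p ↔ ¬ ∃ (T : Subgroup Ω) (C : FusionSystem T), C.IsComponentIn F p := by
  constructor
  · rintro hc ⟨T, C, hC⟩
    exact gfs_top_no_component_of_constrained p hS F hc C hC
  · intro hno
    by_contra hnc
    exact hno (gfs_top_exists_component p hS F hF hnc)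

end Cfsg.Agent.GFS
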